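import Cfsg.Agent.Linear.Generation

/-!
Simplicity of PSL_n (Iwasawa), for n ≥ 3 or |F| ≥ 4.
-/

namespace Cfsg.Agent.Linear

open Matrix MulAction
open scoped LinearAlgebra.Projectivization

variable {ι : Type*} [Fintype ι] [DecidableEq ι] {F : Type*} [Field F]

theorem iSup_lineStab_eq_top :
    (⨆ p : ℙ F (ι → F), Matrix.SpecialLinearGroup.lineStab p.submodule)
      = (⊤ : Subgroup (SpecialLinearGroup ι F)) :=
  eq_top_of_transvection_mem fun i j hij c => by
    have hne : (Pi.single i 1 : ι → F) ≠ 0 := Pi.single_ne_zero_iff.2 one_ne_zero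
    refine Subgroup.mem_iSup_of_mem (Projectivization.mk F _ hne) ?_
    rw [Projectivization.submodule_mk]
    exact SL2Gen.transvection_mem_lineStab hij c

/-- The Iwasawa structure of PSL on the projective space. -/
noncomputable def iwasawaPSL :
    IwasawaStructure (ProjectiveSpecialLinearGroup ι F) (ℙ F (ι → F)) where
  T := PSL.iwasawaT
  is_comm p := by
    have hSL : IsMulCommutative (Matrix.SpecialLinearGroup.lineStab (F := F) (ι := ι) p.submodule) := by
      rw [← Projectivization.mk_rep p, Projectivization.submodule_mk]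
      exact Matrix.SpecialLinearGroup.lineStab_isMulCommutative_of_span p.rep p.rep_nonzero
    exact Subgroup.map_isMulCommutative _ _
  is_conj g p := by
    obtain ⟨g, rfl⟩ := QuotientGroup.mk_surjective g
    rw [ProjectiveSpecialLinearGroup.smul_proj_mk]
    change Subgroup.map _ _ = _
    rw [PSL.smul_submodule, Matrix.SpecialLinearGroup.lineStab_smul, PSL.iwasawaT_map_conj]
  is_generator := by
    have : (⨆ p : ℙ F (ι → F), PSL.iwasawaT p) =
        Subgroup.map (QuotientGroup.mk' (Subgroup.center (SpecialLinearGroup ι F)))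
          (⨆ p : ℙ F (ι → F), Matrix.SpecialLinearGroup.lineStab p.submodule) := by
      rw [Subgroup.map_iSup]
    rw [this, iSup_lineStab_eq_top]
    exact Subgroup.map_top_of_surjective _ (QuotientGroup.mk'_surjective _)

theorem commutator_PSL_eq_top (h : 3 ≤ Fintype.card ι ∨ ∃ a : F, a ≠ 0 ∧ a ^ 2 ≠ 1) :
    commutator (ProjectiveSpecialLinearGroup ι F) = ⊤ := by
  have : Group.IsPerfect (SpecialLinearGroup ι F) := ⟨commutator_SL_eq_top h⟩
  exact (inferInstance : Group.IsPerfect (ProjectiveSpecialLinearGroup ι F)).commutator_eq_top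

/-- PSL is simple for n ≥ 3 or |F| ≥ 4. -/
theorem isSimpleGroup_PSL [Nontrivial ι]
    (h : 3 ≤ Fintype.card ι ∨ ∃ a : F, a ≠ 0 ∧ a ^ 2 ≠ 1) :
    IsSimpleGroup (ProjectiveSpecialLinearGroup ι F) :=
  iwasawaPSL.isSimpleGroup (commutator_PSL_eq_top h) inferInstance

theorem isSimpleGroup_PSL_fin [Finite F] {n : ℕ} (hn : 2 ≤ n) (hq : n = 2 → 4 ≤ Nat.card F) :
    IsSimpleGroup (ProjectiveSpecialLinearGroup (Fin n) F) := by
  have : Nontrivial (Fin n) := Fin.nontrivial_iff_two_le.mpr hn
  rcases Nat.lt_or_ge n 3 with h | h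
  · exact isSimpleGroup_PSL (Or.inr (exists_sq_ne_one_of_card (hq (by omega))))
  · exact isSimpleGroup_PSL (Or.inl (by simpa using h))

theorem exists_not_commute_PSL [Nontrivial ι]
    (h : 3 ≤ Fintype.card ι ∨ ∃ a : F, a ≠ 0 ∧ a ^ 2 ≠ 1) :
    ∃ x y : ProjectiveSpecialLinearGroup ι F, x * y ≠ y * x := by
  by_contra hc
  push Not at hc
  have h1 := commutator_PSL_eq_top h
  have h2 : commutator (ProjectiveSpecialLinearGroup ι F) = ⊥ :=
    Subgroup.commutator_eq_bot_iff_le_centralizer.mpr fun x _ =>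
      Subgroup.mem_centralizer_iff.mpr fun y _ => hc y x
  obtain ⟨x, hx⟩ := exists_ne (1 : ProjectiveSpecialLinearGroup ι F)
  exact hx (Subgroup.mem_bot.mp (h2 ▸ (h1.symm ▸ Subgroup.mem_top x)))

end Cfsg.Agent.Linear
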