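import Mathlib

/-!
Orders of GL_n, SL_n, PSL_n, PGL_n and of their centres over finite fields.
-/

namespace Cfsg.Agent.Linear

open Matrix

variable {ι : Type*} [Fintype ι] [DecidableEq ι] {F : Type*} [Field F]

theorem det_surjective [Nonempty ι] :
    Function.Surjective (GeneralLinearGroup.det : GL ι F →* Fˣ) :=
  GeneralLinearGroup.det_surjective

/-- SL is the kernel of det on GL. -/
theorem range_toGL :
    (Matrix.SpecialLinearGroup.toGL : SpecialLinearGroup ι F →* GL ι F).range
      = (GeneralLinearGroup.det : GL ι F →* Fˣ).ker := by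
  ext g
  constructor
  · rintro ⟨s, rfl⟩
    exact Units.ext (by simp)
  · intro hg
    have hg' : (g : Matrix ι ι F).det = 1 := by
      have := congrArg (Units.val) (MonoidHom.mem_ker.mp hg)
      simpa using this
    exact ⟨⟨g, hg'⟩, Units.ext rfl⟩

theorem toGL_injective :
    Function.Injective (Matrix.SpecialLinearGroup.toGL : SpecialLinearGroup ι F →* GL ι F) := by
  intro a b h
  exact Subtype.ext (congrArg (fun g : GL ι F => (g : Matrix ι ι F)) h)

theorem card_det_ker :
    Nat.card (GeneralLinearGroup.det : GL ι F →* Fˣ).ker = Nat.card (SpecialLinearGroup ι F) := by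
  rw [← range_toGL]
  exact Nat.card_congr (MonoidHom.ofInjective toGL_injective).toEquiv.symm

theorem card_units' [Fintype F] : Nat.card Fˣ = Fintype.card F - 1 := by
  rw [Nat.card_units, Nat.card_eq_fintype_card]

/-- `|GL| = (q-1) |SL|`. -/
theorem card_GL_eq [Nonempty ι] :
    Nat.card (GL ι F) = Nat.card Fˣ * Nat.card (SpecialLinearGroup ι F) := by
  rw [← card_det_ker, mul_comm,
    ← Subgroup.card_mul_index (GeneralLinearGroup.det : GL ι F →* Fˣ).ker]
  congr 1
  rw [Subgroup.index_ker, MonoidHom.range_eq_top.mpr det_surjective, Subgroup.card_top]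

theorem card_SL_mul [Fintype F] (n : ℕ) (hn : 1 ≤ n) :
    (Fintype.card F - 1) * Nat.card (SpecialLinearGroup (Fin n) F)
      = ∏ i : Fin n, (Fintype.card F ^ n - Fintype.card F ^ (i : ℕ)) := by
  have : Nonempty (Fin n) := ⟨⟨0, hn⟩⟩
  rw [← card_GL_field, card_GL_eq, card_units']

theorem card_center_SL [Fintype F] [Nonempty ι] :
    Nat.card (Subgroup.center (SpecialLinearGroup ι F))
      = Nat.gcd (Fintype.card ι) (Fintype.card F - 1) := by
  obtain ⟨i⟩ := (inferInstance : Nonempty ι)
  rw [Nat.card_congr (Matrix.SpecialLinearGroup.center_equiv_rootsOfUnity' i).toEquiv,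
    rootsOfUnity_eq_ker, IsCyclic.card_powMonoidHom_ker, card_units', Nat.gcd_comm]

theorem card_center_GL [Nonempty ι] :
    Nat.card (Subgroup.center (GL ι F)) = Nat.card Fˣ := by
  rw [GeneralLinearGroup.center_eq_range_scalar]
  refine (Nat.card_congr (MonoidHom.ofInjective ?_).toEquiv).symm
  intro a b h
  obtain ⟨i⟩ := (inferInstance : Nonempty ι)
  have := congrArg (fun g : GL ι F => (g : Matrix ι ι F) i i) h
  exact Units.ext (by simpa using this)

theorem card_center_mul_card_PSL :
    Nat.card (Subgroup.center (SpecialLinearGroup ι F)) * Nat.card (ProjectiveSpecialLinearGroup ι F)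
      = Nat.card (SpecialLinearGroup ι F) := by
  rw [mul_comm]
  exact (Subgroup.card_eq_card_quotient_mul_card_subgroup _).symm

theorem card_PSL_mul [Fintype F] (n : ℕ) (hn : 1 ≤ n) :
    Nat.gcd n (Fintype.card F - 1) *
        ((Fintype.card F - 1) * Nat.card (ProjectiveSpecialLinearGroup (Fin n) F))
      = ∏ i : Fin n, (Fintype.card F ^ n - Fintype.card F ^ (i : ℕ)) := by
  have : Nonempty (Fin n) := ⟨⟨0, hn⟩⟩
  rw [← card_SL_mul n hn, ← card_center_mul_card_PSL (ι := Fin n) (F := F), card_center_SL,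
    Fintype.card_fin, mul_left_comm]

theorem card_PGL_eq [Finite F] :
    Nat.card (ProjGenLinGroup ι F) = Nat.card (SpecialLinearGroup ι F) := by
  cases isEmpty_or_nonempty ι
  · have : Subsingleton (ProjGenLinGroup ι F) := ProjGenLinGroup.mk_surjective.subsingleton
    have : Nonempty (ProjGenLinGroup ι F) := ⟨1⟩
    simp [Nat.card_unique]
  · have h : Nat.card (GL ι F) = Nat.card (ProjGenLinGroup ι F) * Nat.card Fˣ := by
      rw [← card_center_GL (ι := ι) (F := F)]
      exact Subgroup.card_eq_card_quotient_mul_card_subgroup _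
    rw [card_GL_eq, mul_comm] at h
    exact (Nat.eq_of_mul_eq_mul_right Nat.card_pos h).symm

/-- `|SL_2(q)| = q (q^2 - 1)`. -/
theorem card_SL_two [Fintype F] :
    Nat.card (SpecialLinearGroup (Fin 2) F)
      = Fintype.card F * (Fintype.card F ^ 2 - 1) := by
  have hq : 2 ≤ Fintype.card F := Fintype.one_lt_card
  have h := card_SL_mul (F := F) 2 (by norm_num)
  rw [Fin.prod_univ_two] at h
  simp only [Fin.val_zero, Fin.val_one, pow_zero, pow_one] at h
  apply Nat.eq_of_mul_eq_mul_left (show 0 < Fintype.card F - 1 by omega)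
  rw [h]
  obtain ⟨k, hk⟩ : ∃ k, Fintype.card F = k + 1 := ⟨Fintype.card F - 1, by omega⟩
  rw [hk]
  have e1 : (k + 1) ^ 2 - (k + 1) = (k + 1) * k := by
    rw [pow_two]; exact Nat.sub_eq_of_eq_add (by ring)
  have e2 : (k + 1) ^ 2 - 1 = k * (k + 2) := Nat.sub_eq_of_eq_add (by ring)
  rw [e1, e2, Nat.add_sub_cancel]
  ring

/-- `|PSL_2(q)| * gcd(2, q-1) = q (q^2 - 1)`. -/
theorem card_PSL_two_mul [Fintype F] :
    Nat.gcd 2 (Fintype.card F - 1) * Nat.card (ProjectiveSpecialLinearGroup (Fin 2) F)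
      = Fintype.card F * (Fintype.card F ^ 2 - 1) := by
  rw [← card_SL_two, ← card_center_mul_card_PSL (ι := Fin 2) (F := F), card_center_SL,
    Fintype.card_fin]

/-- `|SL_3(q)| = q^3 (q^3 - 1) (q^2 - 1)`. -/
theorem card_SL_three [Fintype F] :
    Nat.card (SpecialLinearGroup (Fin 3) F)
      = Fintype.card F ^ 3 * (Fintype.card F ^ 3 - 1) * (Fintype.card F ^ 2 - 1) := by
  have hq : 2 ≤ Fintype.card F := Fintype.one_lt_card
  have h := card_SL_mul (F := F) 3 (by norm_num)
  rw [Fin.prod_univ_three] at h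
  simp only [Fin.val_zero, Fin.val_one, Fin.val_two, pow_zero, pow_one] at h
  apply Nat.eq_of_mul_eq_mul_left (show 0 < Fintype.card F - 1 by omega)
  rw [h]
  obtain ⟨k, hk⟩ : ∃ k, Fintype.card F = k + 1 := ⟨Fintype.card F - 1, by omega⟩
  rw [hk]
  have e1 : (k + 1) ^ 3 - (k + 1) = (k + 1) * ((k + 1) ^ 2 - 1) := by
    rw [Nat.mul_sub, mul_one]; ring_nf
  have e2 : (k + 1) ^ 3 - (k + 1) ^ 2 = (k + 1) ^ 2 * k :=
    Nat.sub_eq_of_eq_add (by ring)
  rw [e1, e2, Nat.add_sub_cancel]
  ring

end Cfsg.Agent.Linear
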