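import Mathlib

/-!
2 by 2 matrices over a field: nonscalar matrices, commutants, companion form, the norm form.
-/

namespace Cfsg.Agent.Linear

open Matrix

variable {F : Type*} [Field F]

/-- The matrix is scalar. -/
def IsScalarTwo (A : Matrix (Fin 2) (Fin 2) F) : Prop :=
  A 0 1 = 0 ∧ A 1 0 = 0 ∧ A 0 0 = A 1 1

theorem isScalarTwo_iff {A : Matrix (Fin 2) (Fin 2) F} :
    IsScalarTwo A ↔ ∃ c : F, A = c • (1 : Matrix (Fin 2) (Fin 2) F) := by
  constructor
  · rintro ⟨h1, h2, h3⟩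
    refine ⟨A 0 0, ?_⟩
    ext i j
    fin_cases i <;> fin_cases j <;> simp [h1, h2, h3]
  · rintro ⟨c, rfl⟩
    simp [IsScalarTwo]

theorem mul_two_apply (A B : Matrix (Fin 2) (Fin 2) F) (i j : Fin 2) :
    (A * B) i j = A i 0 * B 0 j + A i 1 * B 1 j := by
  rw [Matrix.mul_apply, Fin.sum_univ_two]

theorem ext_two {A B : Matrix (Fin 2) (Fin 2) F} (h00 : A 0 0 = B 0 0) (h01 : A 0 1 = B 0 1)
    (h10 : A 1 0 = B 1 0) (h11 : A 1 1 = B 1 1) : A = B := by
  ext i j
  fin_cases i <;> fin_cases j <;> assumption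

theorem commute_entries {A B : Matrix (Fin 2) (Fin 2) F} (h : B * A = A * B) :
    B 0 1 * A 1 0 = A 0 1 * B 1 0 ∧
    B 0 1 * (A 1 1 - A 0 0) = A 0 1 * (B 1 1 - B 0 0) ∧
    B 1 0 * (A 1 1 - A 0 0) = A 1 0 * (B 1 1 - B 0 0) := by
  have h00 := congrFun (congrFun h 0) 0
  have h01 := congrFun (congrFun h 0) 1
  have h10 := congrFun (congrFun h 1) 0
  simp only [mul_two_apply] at h00 h01 h10
  refine ⟨?_, ?_, ?_⟩
  · linear_combination h00
  · linear_combination h01
  · linear_combination -h10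

/-- The commutant of a nonscalar 2x2 matrix is spanned by 1 and itself. -/
theorem exists_of_commute {A B : Matrix (Fin 2) (Fin 2) F} (hA : ¬ IsScalarTwo A)
    (h : B * A = A * B) : ∃ a b : F, B = a • (1 : Matrix (Fin 2) (Fin 2) F) + b • A := by
  obtain ⟨e1, e2, e3⟩ := commute_entries h
  suffices ∃ a b : F, B 0 0 = a + b * A 0 0 ∧ B 0 1 = b * A 0 1 ∧ B 1 0 = b * A 1 0 ∧
      B 1 1 = a + b * A 1 1 by
    obtain ⟨a, b, k00, k01, k10, k11⟩ := this
    exact ⟨a, b, ext_two (by simpa using k00) (by simpa using k01) (by simpa using k10)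
      (by simpa using k11)⟩
  by_cases h01 : A 0 1 = 0
  · by_cases h10 : A 1 0 = 0
    · have hne : A 1 1 - A 0 0 ≠ 0 := fun e => hA ⟨h01, h10, (sub_eq_zero.mp e).symm⟩
      have b01 : B 0 1 = 0 := by simpa [h01, hne] using e2
      have b10 : B 1 0 = 0 := by simpa [h10, hne] using e3
      refine ⟨B 0 0 - (B 1 1 - B 0 0) / (A 1 1 - A 0 0) * A 0 0,
        (B 1 1 - B 0 0) / (A 1 1 - A 0 0), by ring, by simp [h01, b01], by simp [h10, b10], ?_⟩
      field_simp
      ring
    · have b01 : B 0 1 = 0 := by simpa [h01, h10] using e1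
      refine ⟨B 0 0 - B 1 0 / A 1 0 * A 0 0, B 1 0 / A 1 0, by ring, by simp [h01, b01],
        by field_simp, ?_⟩
      field_simp
      linear_combination -e3
  · refine ⟨B 0 0 - B 0 1 / A 0 1 * A 0 0, B 0 1 / A 0 1, by ring, by field_simp, ?_, ?_⟩
    · field_simp
      linear_combination -e1
    · field_simp
      linear_combination -e2

theorem smul_add_smul_injective {A : Matrix (Fin 2) (Fin 2) F} (hA : ¬ IsScalarTwo A) {a b a' b' : F}
    (h : a • (1 : Matrix (Fin 2) (Fin 2) F) + b • A = a' • (1 : Matrix (Fin 2) (Fin 2) F) + b' • A) :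
    a = a' ∧ b = b' := by
  have hb : b = b' := by
    by_contra hne
    refine hA (isScalarTwo_iff.mpr ⟨(b - b')⁻¹ * (a' - a), ?_⟩)
    have : (b - b') • A = (a' - a) • (1 : Matrix (Fin 2) (Fin 2) F) := by
      rw [sub_smul, sub_smul, sub_eq_sub_iff_add_eq_add, add_comm, h]
    rw [mul_smul, ← this, inv_smul_smul₀ (sub_ne_zero.mpr hne)]
  subst hb
  refine ⟨?_, rfl⟩
  have h' : a • (1 : Matrix (Fin 2) (Fin 2) F) = a' • (1 : Matrix (Fin 2) (Fin 2) F) :=
    add_right_cancel h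
  simpa using congrFun (congrFun h' 0) 0

theorem det_smul_add_smul (A : Matrix (Fin 2) (Fin 2) F) (a b : F) :
    (a • (1 : Matrix (Fin 2) (Fin 2) F) + b • A).det = a ^ 2 + a * b * A.trace + b ^ 2 * A.det := by
  simp only [Matrix.det_fin_two, Matrix.trace_fin_two, Matrix.add_apply, Matrix.smul_apply,
    smul_eq_mul, Matrix.one_apply_eq, Matrix.one_apply_ne (show (0 : Fin 2) ≠ 1 by decide),
    Matrix.one_apply_ne (show (1 : Fin 2) ≠ 0 by decide)]
  ring

theorem trace_smul_add_smul (A : Matrix (Fin 2) (Fin 2) F) (a b : F) :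
    (a • (1 : Matrix (Fin 2) (Fin 2) F) + b • A).trace = 2 * a + b * A.trace := by
  simp only [Matrix.trace_fin_two, Matrix.add_apply, Matrix.smul_apply, smul_eq_mul,
    Matrix.one_apply_eq]
  ring

theorem commute_smul_add_smul (A : Matrix (Fin 2) (Fin 2) F) (a b : F) :
    (a • (1 : Matrix (Fin 2) (Fin 2) F) + b • A) * A = A * (a • (1 : Matrix (Fin 2) (Fin 2) F) + b • A) := by
  simp [add_mul, mul_add]

theorem exists_conj_companion {A : Matrix (Fin 2) (Fin 2) F} (hA : ¬ IsScalarTwo A) :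
    ∃ P : Matrix (Fin 2) (Fin 2) F, P.det ≠ 0 ∧
      A * P = P * !![0, -A.det; 1, A.trace] := by
  obtain ⟨x, y, hxy⟩ : ∃ x y : F,
      x * (A 1 0 * x + A 1 1 * y) - y * (A 0 0 * x + A 0 1 * y) ≠ 0 := by
    by_cases h10 : A 1 0 = 0
    · by_cases h01 : A 0 1 = 0
      · refine ⟨1, 1, ?_⟩
        simp only [h10, h01, zero_mul, zero_add, add_zero, one_mul, mul_one]
        exact fun e => hA ⟨h01, h10, (sub_eq_zero.mp e).symm⟩
      · exact ⟨0, 1, by simp [h01]⟩
    · exact ⟨1, 0, by simp [h10]⟩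
  refine ⟨!![x, A 0 0 * x + A 0 1 * y; y, A 1 0 * x + A 1 1 * y], ?_, ?_⟩
  · simp only [Matrix.det_fin_two_of]
    intro e
    apply hxy
    linear_combination e
  · apply ext_two <;> simp [mul_two_apply, Matrix.det_fin_two, Matrix.trace_fin_two] <;> ring

/-- Nonscalar 2x2 matrices with the same trace and determinant are conjugate. -/
theorem exists_conj_of_trace_det {A B : Matrix (Fin 2) (Fin 2) F} (hA : ¬ IsScalarTwo A)
    (hB : ¬ IsScalarTwo B) (ht : A.trace = B.trace) (hd : A.det = B.det) :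
    ∃ P : Matrix (Fin 2) (Fin 2) F, P.det ≠ 0 ∧ P * A = B * P := by
  obtain ⟨P, hP, hPA⟩ := exists_conj_companion hA
  obtain ⟨Q, hQ, hQB⟩ := exists_conj_companion hB
  rw [← ht, ← hd] at hQB
  refine ⟨Q * P⁻¹, ?_, ?_⟩
  · rw [Matrix.det_mul, Matrix.det_nonsing_inv, Ring.inverse_eq_inv']
    exact mul_ne_zero hQ (inv_ne_zero hP)
  · set C : Matrix (Fin 2) (Fin 2) F := !![0, -A.det; 1, A.trace] with hC
    have hu : IsUnit P.det := Ne.isUnit hP
    calc Q * P⁻¹ * A = Q * P⁻¹ * (A * P) * P⁻¹ := by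
          simp only [Matrix.mul_assoc, Matrix.mul_nonsing_inv P hu, Matrix.mul_one]
      _ = Q * C * P⁻¹ := by
          rw [hPA, ← Matrix.mul_assoc (Q * P⁻¹) P C, Matrix.mul_assoc Q P⁻¹ P,
            Matrix.nonsing_inv_mul P hu, Matrix.mul_one]
      _ = B * (Q * P⁻¹) := by rw [← hQB, Matrix.mul_assoc]

theorem exists_sq_add_mul_sq_eq [Fintype F] (h2 : (2 : F) ≠ 0) {D : F} (hD : D ≠ 0) (c : F) :
    ∃ x y : F, x ^ 2 - D * y ^ 2 = c := by
  have hchar : ringChar F ≠ 2 := by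
    intro h
    apply h2
    have : CharP F 2 := h ▸ ringChar.charP F
    exact CharTwo.two_eq_zero
  obtain ⟨x, y, h⟩ := FiniteField.exists_root_sum_quadratic (R := F)
    (f := Polynomial.X ^ 2) (g := Polynomial.C (-D) * Polynomial.X ^ 2 - Polynomial.C c)
    (Polynomial.degree_X_pow 2)
    (by
      rw [Polynomial.degree_sub_eq_left_of_degree_lt]
      · rw [Polynomial.degree_C_mul_X_pow 2 (neg_ne_zero.mpr hD)]; rfl
      · rw [Polynomial.degree_C_mul_X_pow 2 (neg_ne_zero.mpr hD)]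
        exact lt_of_le_of_lt Polynomial.degree_C_le (by norm_num))
    (FiniteField.odd_card_of_char_ne_two hchar)
  refine ⟨x, y, ?_⟩
  simp only [Polynomial.eval_pow, Polynomial.eval_X, Polynomial.eval_sub, Polynomial.eval_mul,
    Polynomial.eval_C] at h
  linear_combination h

/-- The norm form a² + tab + db² takes all values if the characteristic is two or the discriminant
is non-zero. -/
theorem exists_norm_eq [Fintype F] {t d : F} (h : (2 : F) = 0 ∨ t ^ 2 - 4 * d ≠ 0) (c : F) :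
    ∃ a b : F, a ^ 2 + a * b * t + b ^ 2 * d = c := by
  by_cases h2 : (2 : F) = 0
  · have : CharP F 2 := CharTwo.of_one_ne_zero_of_two_eq_zero one_ne_zero h2
    have hinj : Function.Injective (fun x : F => x ^ 2) := CharTwo.sq_injective
    obtain ⟨a, ha⟩ := (Finite.injective_iff_surjective.mp hinj) c
    exact ⟨a, 0, by simpa using ha⟩
  · obtain ⟨x, y, hxy⟩ := exists_sq_add_mul_sq_eq h2 (h.resolve_left h2) (4 * c)
    refine ⟨(x - y * t) / 2, y, ?_⟩
    have h4 : (4 : F) ≠ 0 := by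
      rw [show (4 : F) = 2 * 2 by norm_num]
      exact mul_ne_zero h2 h2
    apply mul_left_cancel₀ h4
    field_simp
    linear_combination hxy

/-- A conjugator of determinant one exists, in characteristic two or for non-zero discriminant. -/
theorem exists_conj_det_one [Fintype F] {A B : Matrix (Fin 2) (Fin 2) F} (hA : ¬ IsScalarTwo A)
    (hB : ¬ IsScalarTwo B) (ht : A.trace = B.trace) (hd : A.det = B.det)
    (h : (2 : F) = 0 ∨ A.trace ^ 2 - 4 * A.det ≠ 0) :
    ∃ P : Matrix (Fin 2) (Fin 2) F, P.det = 1 ∧ P * A = B * P := by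
  obtain ⟨P, hP, hPA⟩ := exists_conj_of_trace_det hA hB ht hd
  obtain ⟨a, b, hab⟩ := exists_norm_eq h P.det⁻¹
  refine ⟨P * (a • (1 : Matrix (Fin 2) (Fin 2) F) + b • A), ?_, ?_⟩
  · rw [Matrix.det_mul, det_smul_add_smul, hab, mul_inv_cancel₀ hP]
  · rw [Matrix.mul_assoc, commute_smul_add_smul, ← Matrix.mul_assoc, hPA, Matrix.mul_assoc]

end Cfsg.Agent.Linear
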