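import Cfsg.Agent.Linear.Order

/-!
The upper triangular Borel subgroup and the unitriangular Sylow p-subgroup of GL_n and SL_n.
-/

namespace Cfsg.Agent.Linear

open Matrix

variable {n : ℕ} {F : Type*} [Field F]

theorem coe_inv_blockTriangular {g : GL (Fin n) F}
    (hg : (g : Matrix (Fin n) (Fin n) F).BlockTriangular id) :
    ((g⁻¹ : GL (Fin n) F) : Matrix (Fin n) (Fin n) F).BlockTriangular id := by
  have : Invertible (g : Matrix (Fin n) (Fin n) F) := g.invertible
  rw [Matrix.coe_units_inv]
  exact Matrix.blockTriangular_inv_of_blockTriangular hg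

theorem blockTriangular_mul_diag {A B : Matrix (Fin n) (Fin n) F} (hA : A.BlockTriangular id)
    (hB : B.BlockTriangular id) (i : Fin n) : (A * B) i i = A i i * B i i := by
  rw [Matrix.mul_apply]
  refine Finset.sum_eq_single i (fun k _ hk => ?_) (fun h => absurd (Finset.mem_univ i) h)
  rcases lt_or_gt_of_ne hk with h | h
  · rw [hA (show id k < id i from h), zero_mul]
  · rw [hB (show id i < id k from h), mul_zero]

theorem blockTriangular_det {A : Matrix (Fin n) (Fin n) F} (hA : A.BlockTriangular id) :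
    A.det = ∏ i, A i i :=
  Matrix.det_of_isUpperTriangular hA

/-- The upper unitriangular subgroup of GL_n. -/
def unitriGL (n : ℕ) (F : Type*) [Field F] : Subgroup (GL (Fin n) F) where
  carrier := {g | (g : Matrix (Fin n) (Fin n) F).BlockTriangular id ∧
    ∀ i, (g : Matrix (Fin n) (Fin n) F) i i = 1}
  mul_mem' := fun {a b} ha hb => by
    refine ⟨?_, fun i => ?_⟩
    · rw [Units.val_mul]
      exact ha.1.mul hb.1
    · rw [Units.val_mul, blockTriangular_mul_diag ha.1 hb.1, ha.2, hb.2, one_mul]
  one_mem' := ⟨Matrix.blockTriangular_one, fun i => Matrix.one_apply_eq i⟩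
  inv_mem' := fun {a} ha => by
    refine ⟨coe_inv_blockTriangular ha.1, fun i => ?_⟩
    have h := blockTriangular_mul_diag ha.1 (coe_inv_blockTriangular ha.1) i
    rw [Units.mul_inv, Matrix.one_apply_eq, ha.2, one_mul] at h
    exact h.symm

theorem mem_unitriGL {g : GL (Fin n) F} :
    g ∈ unitriGL n F ↔ (g : Matrix (Fin n) (Fin n) F).BlockTriangular id ∧
      ∀ i, (g : Matrix (Fin n) (Fin n) F) i i = 1 := Iff.rfl

/-- The upper triangular matrix with given diagonal and given strictly upper entries. -/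
def triMatrix (d : Fin n → F) (u : {x : Fin n × Fin n // x.1 < x.2} → F) :
    Matrix (Fin n) (Fin n) F :=
  Matrix.of fun i j => if h : i < j then u ⟨(i, j), h⟩ else if i = j then d i else 0

theorem triMatrix_blockTriangular (d : Fin n → F) (u : {x : Fin n × Fin n // x.1 < x.2} → F) :
    (triMatrix d u).BlockTriangular id := by
  intro i j (hij : j < i)
  simp [triMatrix, hij.ne', hij.le, not_lt.mpr]

theorem triMatrix_diag (d : Fin n → F) (u : {x : Fin n × Fin n // x.1 < x.2} → F) (i : Fin n) :
    triMatrix d u i i = d i := by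
  simp [triMatrix]

theorem triMatrix_det (d : Fin n → F) (u : {x : Fin n × Fin n // x.1 < x.2} → F) :
    (triMatrix d u).det = ∏ i, d i := by
  rw [blockTriangular_det (triMatrix_blockTriangular d u)]
  exact Finset.prod_congr rfl fun i _ => triMatrix_diag d u i

theorem triMatrix_eta {A : Matrix (Fin n) (Fin n) F} (hA : A.BlockTriangular id) :
    triMatrix (fun i => A i i) (fun x => A x.1.1 x.1.2) = A := by
  ext i j
  rcases lt_trichotomy i j with h | rfl | h
  · simp [triMatrix, h]
  · simp [triMatrix]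
  · simp [triMatrix, h.ne', not_lt.mpr h.le, hA (show id j < id i from h)]

/-- An element of GL from a matrix with unit determinant. -/
noncomputable def glOfDet (A : Matrix (Fin n) (Fin n) F) (h : IsUnit A.det) : GL (Fin n) F :=
  ⟨A, A⁻¹, Matrix.mul_nonsing_inv A h, Matrix.nonsing_inv_mul A h⟩

@[simp] theorem glOfDet_coe (A : Matrix (Fin n) (Fin n) F) (h : IsUnit A.det) :
    (glOfDet A h : Matrix (Fin n) (Fin n) F) = A := rfl

/-- Parametrisation of the unitriangular group. -/
noncomputable def unitriEquiv :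
    ({x : Fin n × Fin n // x.1 < x.2} → F) ≃ unitriGL n F where
  toFun u := ⟨glOfDet (triMatrix 1 u) (by simp [triMatrix_det]),
    triMatrix_blockTriangular 1 u, triMatrix_diag 1 u⟩
  invFun g x := (g.1 : Matrix (Fin n) (Fin n) F) x.1.1 x.1.2
  left_inv u := by
    funext x
    simp [triMatrix, x.2]
  right_inv g := by
    refine Subtype.ext (Units.ext ?_)
    conv_rhs => rw [← triMatrix_eta g.2.1]
    have : (fun i => (g.1 : Matrix (Fin n) (Fin n) F) i i) = 1 := funext g.2.2
    rw [this]
    rfl

theorem card_lt_pairs (n : ℕ) :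
    Nat.card {x : Fin n × Fin n // x.1 < x.2} = n * (n - 1) / 2 := by
  rw [Nat.card_congr ((Equiv.subtypeProdEquivSigmaSubtype (fun a b : Fin n => a < b))),
    Nat.card_sigma]
  have : ∀ a : Fin n, Nat.card {b : Fin n // a < b} = n - 1 - a := by
    intro a
    rw [Nat.card_eq_fintype_card, Fintype.card_subtype]
    have : (Finset.univ.filter fun b : Fin n => a < b) = Finset.Ioi a := by ext; simp
    rw [this, Fin.card_Ioi]
  rw [Finset.sum_congr rfl fun a _ => this a, Fin.sum_univ_eq_sum_range (fun i => n - 1 - i) n,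
    Finset.sum_range_reflect (fun i => i) n, Finset.sum_range_id]

theorem card_unitriGL [Finite F] :
    Nat.card (unitriGL n F) = Nat.card F ^ (n * (n - 1) / 2) := by
  rw [← Nat.card_congr unitriEquiv, Nat.card_fun, card_lt_pairs]

theorem prod_q_pow_sub [Fintype F] :
    ∏ i : Fin n, (Fintype.card F ^ n - Fintype.card F ^ (i : ℕ))
      = Fintype.card F ^ (n * (n - 1) / 2) * ∏ i : Fin n, (Fintype.card F ^ (n - i) - 1) := by
  rw [← Finset.sum_range_id, ← Finset.prod_pow_eq_pow_sum,
    ← Fin.prod_univ_eq_prod_range (fun i => Fintype.card F ^ i) n, ← Finset.prod_mul_distrib]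
  refine Finset.prod_congr rfl fun i _ => ?_
  rw [Nat.mul_sub, mul_one, ← pow_add]
  congr 2
  omega

theorem not_dvd_prime_part [Fintype F] (p : ℕ) [Fact p.Prime] [CharP F p] :
    ¬ p ∣ ∏ i : Fin n, (Fintype.card F ^ (n - i) - 1) := by
  rw [(Nat.Prime.prime Fact.out).dvd_finsetProd_iff]
  rintro ⟨i, -, hi⟩
  obtain ⟨f, hp, hf⟩ := FiniteField.card F p
  have h1 : p ∣ Fintype.card F ^ (n - i) := by
    rw [hf, ← pow_mul]
    refine dvd_pow_self p ?_
    have := i.isLt
    exact Nat.mul_ne_zero f.ne_zero (by omega)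
  have h2 := Nat.dvd_sub h1 hi
  rw [Nat.sub_sub_self (Nat.one_le_pow _ _ Fintype.card_pos)] at h2
  exact hp.not_dvd_one h2

theorem factorization_card_GL [Fintype F] (p : ℕ) [Fact p.Prime] [CharP F p] :
    p ^ (Nat.card (GL (Fin n) F)).factorization p = Fintype.card F ^ (n * (n - 1) / 2) := by
  obtain ⟨f, hp, hf⟩ := FiniteField.card F p
  have h := not_dvd_prime_part (n := n) (F := F) p
  have h0 : ∏ i : Fin n, (Fintype.card F ^ (n - i) - 1) ≠ 0 := fun e => h (by rw [e]; exact dvd_zero p)
  rw [card_GL_field, prod_q_pow_sub, Nat.factorization_mul (pow_ne_zero _ Fintype.card_ne_zero) h0, Finsupp.add_apply, Nat.factorization_eq_zero_of_not_dvd h,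
    add_zero, hf, ← pow_mul, hp.factorization_pow, Finsupp.single_eq_same]

/-- A Sylow p-subgroup of GL_n in defining characteristic has order q^(n(n-1)/2). -/
theorem card_sylow_GL [Fintype F] (p : ℕ) [Fact p.Prime] [CharP F p] (P : Sylow p (GL (Fin n) F)) :
    Nat.card P = Fintype.card F ^ (n * (n - 1) / 2) := by
  rw [P.card_eq_multiplicity, factorization_card_GL]

/-- The unitriangular group as a Sylow p-subgroup of GL_n. -/
noncomputable def unitriSylow (n : ℕ) (F : Type*) [Field F] [Fintype F] (p : ℕ) [Fact p.Prime]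
    [CharP F p] : Sylow p (GL (Fin n) F) :=
  Sylow.ofCard (unitriGL n F) (by
    rw [card_unitriGL, factorization_card_GL, Nat.card_eq_fintype_card])

@[simp] theorem unitriSylow_coe [Fintype F] (p : ℕ) [Fact p.Prime] [CharP F p] :
    (unitriSylow n F p : Subgroup (GL (Fin n) F)) = unitriGL n F := rfl

theorem isPGroup_unitriGL [Fintype F] (p : ℕ) [Fact p.Prime] [CharP F p] :
    IsPGroup p (unitriGL n F) :=
  (unitriSylow n F p).isPGroup'

/-- The unitriangular subgroup of SL_n. -/
def unitriSL (n : ℕ) (F : Type*) [Field F] : Subgroup (SpecialLinearGroup (Fin n) F) :=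
  (unitriGL n F).comap Matrix.SpecialLinearGroup.toGL

theorem unitriGL_le_range_toGL :
    unitriGL n F ≤ (Matrix.SpecialLinearGroup.toGL :
      SpecialLinearGroup (Fin n) F →* GL (Fin n) F).range := by
  intro g hg
  rw [range_toGL, MonoidHom.mem_ker]
  refine Units.ext ?_
  rw [GeneralLinearGroup.val_det_apply, blockTriangular_det hg.1]
  simp [hg.2]

theorem card_unitriSL [Finite F] :
    Nat.card (unitriSL n F) = Nat.card F ^ (n * (n - 1) / 2) := by
  rw [← card_unitriGL (n := n) (F := F), unitriSL,
    ← Subgroup.card_map_of_injective toGL_injective,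
    Subgroup.map_comap_eq, inf_eq_right.mpr unitriGL_le_range_toGL]

theorem factorization_card_SL [Fintype F] (p : ℕ) [Fact p.Prime] [CharP F p] :
    p ^ (Nat.card (SpecialLinearGroup (Fin n) F)).factorization p
      = Fintype.card F ^ (n * (n - 1) / 2) := by
  rcases Nat.eq_zero_or_pos n with rfl | hn
  · simp
  have : Nonempty (Fin n) := ⟨⟨0, hn⟩⟩
  obtain ⟨f, hp, hf⟩ := FiniteField.card F p
  rw [← factorization_card_GL (n := n) (F := F) p, card_GL_eq,
    Nat.factorization_mul Nat.card_pos.ne' Nat.card_pos.ne', Finsupp.add_apply]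
  congr 1
  have : ¬ p ∣ Nat.card Fˣ := by
    rw [card_units']
    intro h
    have h1 : p ∣ Fintype.card F := hf ▸ dvd_pow_self p f.ne_zero
    have h2 := Nat.dvd_sub h1 h
    rw [Nat.sub_sub_self Fintype.card_pos] at h2
    exact hp.not_dvd_one h2
  rw [Nat.factorization_eq_zero_of_not_dvd this, zero_add]

/-- A Sylow p-subgroup of SL_n in defining characteristic has order q^(n(n-1)/2). -/
theorem card_sylow_SL [Fintype F] (p : ℕ) [Fact p.Prime] [CharP F p]
    (P : Sylow p (SpecialLinearGroup (Fin n) F)) :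
    Nat.card P = Fintype.card F ^ (n * (n - 1) / 2) := by
  rw [P.card_eq_multiplicity, factorization_card_SL]

/-- The unitriangular group as a Sylow p-subgroup of SL_n. -/
noncomputable def unitriSylowSL (n : ℕ) (F : Type*) [Field F] [Fintype F] (p : ℕ) [Fact p.Prime]
    [CharP F p] : Sylow p (SpecialLinearGroup (Fin n) F) :=
  Sylow.ofCard (unitriSL n F) (by
    rw [card_unitriSL, factorization_card_SL, Nat.card_eq_fintype_card])

@[simp] theorem unitriSylowSL_coe [Fintype F] (p : ℕ) [Fact p.Prime] [CharP F p] :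
    (unitriSylowSL n F p : Subgroup (SpecialLinearGroup (Fin n) F)) = unitriSL n F := rfl

/-- Parametrisation of the invertible lower triangular matrices. -/
noncomputable def lowerBorelEquiv :
    (Fin n → Fˣ) × ({x : Fin n × Fin n // x.1 < x.2} → F) ≃
      {g : GL (Fin n) F // ∀ i j : Fin n, i < j → (g : Matrix (Fin n) (Fin n) F) i j = 0} where
  toFun x := ⟨glOfDet (triMatrix (fun i => (x.1 i : F)) x.2)ᵀ (by
      rw [Matrix.det_transpose, triMatrix_det]
      exact isUnit_iff_ne_zero.mpr (Finset.prod_ne_zero_iff.mpr fun i _ => (x.1 i).ne_zero)),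
    fun i j hij => triMatrix_blockTriangular (fun k => (x.1 k : F)) x.2 hij⟩
  invFun g := (fun i => Units.mk0 ((g.1 : Matrix (Fin n) (Fin n) F) i i) (by
      have h : (g.1 : Matrix (Fin n) (Fin n) F)ᵀ.BlockTriangular id := fun a b hab => g.2 b a hab
      have hdet : (g.1 : Matrix (Fin n) (Fin n) F)ᵀ.det ≠ 0 := by
        rw [Matrix.det_transpose]
        exact (GeneralLinearGroup.det g.1).ne_zero
      rw [blockTriangular_det h] at hdet
      exact Finset.prod_ne_zero_iff.mp hdet i (Finset.mem_univ i)),
    fun x => (g.1 : Matrix (Fin n) (Fin n) F) x.1.2 x.1.1)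
  left_inv x := by
    refine Prod.ext (funext fun i => Units.ext ?_) (funext fun y => ?_)
    · simp [triMatrix]
    · simp [triMatrix, y.2]
  right_inv g := by
    refine Subtype.ext (Units.ext ?_)
    have h : (g.1 : Matrix (Fin n) (Fin n) F)ᵀ.BlockTriangular id := fun a b hab => g.2 b a hab
    conv_rhs => rw [← Matrix.transpose_transpose (g.1 : Matrix (Fin n) (Fin n) F),
      ← triMatrix_eta h]
    rfl

theorem card_lowerBorel [Fintype F] :
    Nat.card {g : GL (Fin n) F // ∀ i j : Fin n, i < j → (g : Matrix (Fin n) (Fin n) F) i j = 0}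
      = Fintype.card F ^ (n * (n - 1) / 2) * (Fintype.card F - 1) ^ n := by
  rw [← Nat.card_congr lowerBorelEquiv, Nat.card_prod, Nat.card_fun, Nat.card_fun, card_lt_pairs,
    card_units', Nat.card_fin, Nat.card_eq_fintype_card (α := F), mul_comm]

end Cfsg.Agent.Linear
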