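import Cfsg.Prelude.Def_ParabolicCharacters
import Cfsg.Agent.Linear.TwoMatrix
import Cfsg.Agent.Linear.Unitriangular

/-!
GL_2: centralisers, the unipotent Sylow subgroup, its normaliser.
-/

namespace Cfsg.Agent.Linear

open Matrix
open scoped Pointwise

variable {F : Type*} [Field F]

local notation "M2" => Matrix (Fin 2) (Fin 2) F

theorem GL_ext_two {g h : GL (Fin 2) F} (h00 : (g : M2) 0 0 = (h : M2) 0 0)
    (h01 : (g : M2) 0 1 = (h : M2) 0 1) (h10 : (g : M2) 1 0 = (h : M2) 1 0)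
    (h11 : (g : M2) 1 1 = (h : M2) 1 1) : g = h :=
  Units.ext (ext_two h00 h01 h10 h11)

theorem blockTriangular_two_iff {A : M2} : A.BlockTriangular id ↔ A 1 0 = 0 := by
  refine ⟨fun h => h (show id (0 : Fin 2) < id 1 by decide), fun h i j hij => ?_⟩
  fin_cases i <;> fin_cases j
  · exact absurd hij (by decide)
  · exact absurd hij (by decide)
  · exact h
  · exact absurd hij (by decide)

theorem mem_unitriGL_two {g : GL (Fin 2) F} :
    g ∈ unitriGL 2 F ↔ (g : M2) 1 0 = 0 ∧ (g : M2) 0 0 = 1 ∧ (g : M2) 1 1 = 1 := by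
  rw [mem_unitriGL, blockTriangular_two_iff, Fin.forall_fin_two]

theorem mem_upperTriangularGL_two {g : GL (Fin 2) F} :
    g ∈ Cfsg.upperTriangularGL 2 F ↔ (g : M2) 1 0 = 0 :=
  blockTriangular_two_iff (A := (g : M2))

theorem not_isScalarTwo_of_mem_unitriGL {u : GL (Fin 2) F} (hu : u ∈ unitriGL 2 F) (h1 : u ≠ 1) :
    ¬ IsScalarTwo (u : M2) ∧ (u : M2) 0 1 ≠ 0 := by
  obtain ⟨u10, u00, u11⟩ := mem_unitriGL_two.mp hu
  have u01 : (u : M2) 0 1 ≠ 0 := fun e =>
    h1 (GL_ext_two (by simp [u00]) (by simp [e]) (by simp [u10]) (by simp [u11]))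
  exact ⟨fun hs => u01 hs.1, u01⟩

/-- If a conjugate of a non-trivial element of U lies in U, the conjugator is upper triangular. -/
theorem mem_borel_of_conj_mem {g u : GL (Fin 2) F} (hu : u ∈ unitriGL 2 F) (h1 : u ≠ 1)
    (h : g * u * g⁻¹ ∈ unitriGL 2 F) : (g : M2) 1 0 = 0 := by
  obtain ⟨u10, u00, u11⟩ := mem_unitriGL_two.mp hu
  obtain ⟨-, u01⟩ := not_isScalarTwo_of_mem_unitriGL hu h1
  obtain ⟨w10, w00, w11⟩ := mem_unitriGL_two.mp h
  have e : (g : M2) * (u : M2) = ((g * u * g⁻¹ : GL (Fin 2) F) : M2) * (g : M2) := by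
    rw [← Units.val_mul, ← Units.val_mul, inv_mul_cancel_right]
  have e11 := congrFun (congrFun e 1) 1
  simp only [mul_two_apply, u10, u00, u11, w10, w00, w11] at e11
  have : (g : M2) 1 0 * (u : M2) 0 1 = 0 := by linear_combination e11
  exact (mul_eq_zero.mp this).resolve_right u01

theorem conj_mem_unitriGL {g u : GL (Fin 2) F} (hg : (g : M2) 1 0 = 0) (hu : u ∈ unitriGL 2 F) :
    g * u * g⁻¹ ∈ unitriGL 2 F := by
  obtain ⟨u10, u00, u11⟩ := mem_unitriGL_two.mp hu
  set w := g * u * g⁻¹ with hw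
  have e : (w : M2) * (g : M2) = (g : M2) * (u : M2) := by
    rw [← Units.val_mul, ← Units.val_mul, hw, inv_mul_cancel_right]
  have hd : (g : M2) 0 0 * (g : M2) 1 1 ≠ 0 := by
    have := (GeneralLinearGroup.det g).ne_zero
    rw [GeneralLinearGroup.val_det_apply, Matrix.det_fin_two, hg, mul_zero, sub_zero] at this
    exact this
  obtain ⟨g00, g11⟩ := mul_ne_zero_iff.mp hd
  have e10 := congrFun (congrFun e 1) 0
  have e00 := congrFun (congrFun e 0) 0
  have e11 := congrFun (congrFun e 1) 1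
  simp only [mul_two_apply, hg, u10, u00, u11, mul_zero, add_zero, zero_mul, mul_one,
    zero_add] at e10 e00 e11
  have w10 : (w : M2) 1 0 = 0 := (mul_eq_zero.mp e10).resolve_right g00
  rw [mem_unitriGL_two]
  refine ⟨w10, mul_right_cancel₀ g00 (by rw [e00, one_mul]), mul_right_cancel₀ g11 ?_⟩
  rw [w10, zero_mul, zero_add] at e11
  rw [e11, one_mul]

theorem exists_ne_one_mem_unitriGL : ∃ u ∈ unitriGL 2 F, u ≠ 1 := by
  refine ⟨glOfDet !![1, 1; 0, 1] (by simp), ?_, fun e => ?_⟩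
  · simp [mem_unitriGL_two]
  · have e' : ((glOfDet !![1, 1; 0, 1] (by simp) : GL (Fin 2) F) : M2) = ((1 : GL (Fin 2) F) : M2) := by rw [e]
    simpa using congrFun (congrFun e' 0) 1

theorem normalizer_unitriGL :
    Subgroup.normalizer ((unitriGL 2 F : Subgroup (GL (Fin 2) F)) : Set (GL (Fin 2) F))
      = Cfsg.upperTriangularGL 2 F := by
  ext g
  rw [mem_upperTriangularGL_two, Subgroup.mem_normalizer_iff]
  constructor
  · intro h
    obtain ⟨u, hu, hu1⟩ := exists_ne_one_mem_unitriGL (F := F)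
    exact mem_borel_of_conj_mem hu hu1 ((h u).mp hu)
  · intro hg x
    refine ⟨conj_mem_unitriGL hg, fun hx => ?_⟩
    have hgi : ((g⁻¹ : GL (Fin 2) F) : M2) 1 0 = 0 :=
      blockTriangular_two_iff.mp (coe_inv_blockTriangular (blockTriangular_two_iff.mpr hg))
    have := conj_mem_unitriGL hgi hx
    simpa [mul_assoc] using this

theorem card_unitriGL_two [Fintype F] : Nat.card (unitriGL 2 F) = Fintype.card F := by
  simp [card_unitriGL, Nat.card_eq_fintype_card]

/-- Parametrisation of the Borel subgroup of GL_2. -/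
noncomputable def borelTwoEquiv : (Fˣ × Fˣ) × F ≃ Cfsg.upperTriangularGL 2 F where
  toFun x := ⟨glOfDet !![(x.1.1 : F), x.2; 0, (x.1.2 : F)] (by simp [Matrix.det_fin_two_of]),
    mem_upperTriangularGL_two.mpr (by simp)⟩
  invFun g :=
    have h := mem_upperTriangularGL_two.mp g.2
    have hd : (g.1 : M2) 0 0 * (g.1 : M2) 1 1 ≠ 0 := by
      have := (GeneralLinearGroup.det g.1).ne_zero
      rwa [GeneralLinearGroup.val_det_apply, Matrix.det_fin_two, h, mul_zero, sub_zero] at this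
    ((Units.mk0 _ (mul_ne_zero_iff.mp hd).1, Units.mk0 _ (mul_ne_zero_iff.mp hd).2),
      (g.1 : M2) 0 1)
  left_inv x := by simp
  right_inv g := by
    refine Subtype.ext (GL_ext_two ?_ ?_ ?_ ?_) <;> simp [mem_upperTriangularGL_two.mp g.2]

theorem card_upperTriangularGL_two [Fintype F] :
    Nat.card (Cfsg.upperTriangularGL 2 F) = Fintype.card F * (Fintype.card F - 1) ^ 2 := by
  rw [← Nat.card_congr borelTwoEquiv, Nat.card_prod, Nat.card_prod, card_units',
    Nat.card_eq_fintype_card (α := F)]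
  ring

theorem card_GL_two [Fintype F] :
    Nat.card (GL (Fin 2) F)
      = (Fintype.card F + 1) * (Fintype.card F * (Fintype.card F - 1) ^ 2) := by
  rw [card_GL_eq, card_units', card_SL_two]
  have hq := Fintype.one_lt_card (α := F)
  obtain ⟨k, hk⟩ : ∃ k, Fintype.card F = k + 1 := ⟨Fintype.card F - 1, by omega⟩
  rw [hk, show (k + 1) ^ 2 - 1 = k * (k + 2) from Nat.sub_eq_of_eq_add (by ring), Nat.add_sub_cancel]
  ring

theorem index_upperTriangularGL_two [Fintype F] :
    (Cfsg.upperTriangularGL 2 F).index = Fintype.card F + 1 := by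
  have h := Subgroup.card_mul_index (Cfsg.upperTriangularGL 2 F)
  rw [card_GL_two, card_upperTriangularGL_two, mul_comm] at h
  have hq := Fintype.one_lt_card (α := F)
  exact Nat.eq_of_mul_eq_mul_right (Nat.mul_pos Fintype.card_pos (pow_pos (by omega) 2)) h

section Sylow

variable [Fintype F] (p : ℕ) [Fact p.Prime] [CharP F p]

theorem exists_conj_unitriGL_two (P : Sylow p (GL (Fin 2) F)) :
    ∃ g : GL (Fin 2) F, ∀ x, x ∈ P ↔ g⁻¹ * x * g ∈ unitriGL 2 F := by
  obtain ⟨g, hg⟩ := MulAction.exists_smul_eq (GL (Fin 2) F) (unitriSylow 2 F p) P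
  refine ⟨g, fun x => ?_⟩
  rw [← hg]
  change x ∈ MulAut.conj g • (unitriGL 2 F) ↔ _
  rw [Subgroup.mem_pointwise_smul_iff_inv_smul_mem]
  simp [MulAut.smul_def, MulAut.conj_symm_apply]

/-- Distinct Sylow p-subgroups of GL_2 meet trivially. -/
theorem sylow_GL_two_inf (P Q : Sylow p (GL (Fin 2) F)) (h : P ≠ Q) :
    (P : Subgroup (GL (Fin 2) F)) ⊓ Q = ⊥ := by
  rw [Subgroup.eq_bot_iff_forall]
  rintro x ⟨hxP, hxQ⟩
  by_contra hx
  obtain ⟨g, hg⟩ := exists_conj_unitriGL_two p P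
  obtain ⟨k, hk⟩ := exists_conj_unitriGL_two p Q
  have hu := (hg x).mp hxP
  have hc : (k⁻¹ * g) * (g⁻¹ * x * g) * (k⁻¹ * g)⁻¹ = k⁻¹ * x * k := by group
  have hb := mem_borel_of_conj_mem hu (fun e => hx (mul_left_cancel (a := g⁻¹) (mul_right_cancel (b := g) (by simpa using e)))) (hc ▸ (hk x).mp hxQ)
  have hn : k⁻¹ * g ∈ Subgroup.normalizer
      ((unitriGL 2 F : Subgroup (GL (Fin 2) F)) : Set (GL (Fin 2) F)) := by
    rw [normalizer_unitriGL, mem_upperTriangularGL_two]; exact hb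
  refine h (Sylow.ext (Subgroup.ext fun y => ?_))
  have e := Subgroup.mem_normalizer_iff.mp hn (g⁻¹ * y * g)
  rw [show (k⁻¹ * g) * (g⁻¹ * y * g) * (k⁻¹ * g)⁻¹ = k⁻¹ * y * k by group] at e
  exact (hg y).trans (e.trans (hk y).symm)

/-- GL_2(q) has q+1 Sylow p-subgroups. -/
theorem card_sylow_GL_two : Nat.card (Sylow p (GL (Fin 2) F)) = Fintype.card F + 1 := by
  rw [(unitriSylow 2 F p).card_eq_index_normalizer,
    show Subgroup.normalizer ((unitriSylow 2 F p : Sylow p (GL (Fin 2) F)) : Set (GL (Fin 2) F))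
      = Cfsg.upperTriangularGL 2 F from normalizer_unitriGL, index_upperTriangularGL_two]

theorem card_normalizer_sylow_GL_two (P : Sylow p (GL (Fin 2) F)) :
    Nat.card (Subgroup.normalizer ((P : Subgroup (GL (Fin 2) F)) : Set (GL (Fin 2) F)))
      = Fintype.card F * (Fintype.card F - 1) ^ 2 := by
  have h := Subgroup.card_mul_index
    (Subgroup.normalizer ((P : Subgroup (GL (Fin 2) F)) : Set (GL (Fin 2) F)))
  rw [show (Subgroup.normalizer ((P : Subgroup (GL (Fin 2) F)) : Set (GL (Fin 2) F))).index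
      = Nat.card (Sylow p (GL (Fin 2) F)) from P.card_eq_index_normalizer.symm,
    card_sylow_GL_two, card_GL_two] at h
  exact Nat.eq_of_mul_eq_mul_right (Nat.succ_pos _) (h.trans (mul_comm _ _))

end Sylow

theorem mem_centralizer_GL_two {g : GL (Fin 2) F} (hg : ¬ IsScalarTwo (g : M2)) {x : GL (Fin 2) F} :
    x ∈ Subgroup.centralizer {g} ↔ ∃ a b : F, (x : M2) = a • (1 : M2) + b • (g : M2) := by
  rw [Subgroup.mem_centralizer_singleton_iff]
  constructor
  · intro h
    refine exists_of_commute hg ?_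
    rw [← Units.val_mul, ← Units.val_mul, h]
  · rintro ⟨a, b, hx⟩
    refine Units.ext ?_
    simp only [Units.val_mul, hx]
    exact commute_smul_add_smul _ a b

/-- The centraliser of a nonscalar element of GL_2 is parametrised by the non-zeros of the norm
form. -/
noncomputable def centralizerEquiv {g : GL (Fin 2) F} (hg : ¬ IsScalarTwo (g : M2)) :
    {x : F × F // (x.1 • (1 : M2) + x.2 • (g : M2)).det ≠ 0} ≃ Subgroup.centralizer {g} :=
  Equiv.ofBijective
    (fun x => ⟨glOfDet (x.1.1 • (1 : M2) + x.1.2 • (g : M2)) (isUnit_iff_ne_zero.mpr x.2),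
      (mem_centralizer_GL_two hg).mpr ⟨x.1.1, x.1.2, rfl⟩⟩)
    ⟨fun x y h => by
      have h' : (x.1.1 • (1 : M2) + x.1.2 • (g : M2)) = y.1.1 • (1 : M2) + y.1.2 • (g : M2) :=
        congrArg (fun z : Subgroup.centralizer {g} => ((z.1 : GL (Fin 2) F) : M2)) h
      obtain ⟨e1, e2⟩ := smul_add_smul_injective hg h'
      exact Subtype.ext (Prod.ext e1 e2),
    fun z => by
      obtain ⟨a, b, hab⟩ := (mem_centralizer_GL_two hg).mp z.2
      exact ⟨⟨(a, b), hab ▸ (GeneralLinearGroup.det z.1).ne_zero⟩,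
        Subtype.ext (Units.ext hab.symm)⟩⟩

/-- No eigenvector in F^2 iff the characteristic polynomial has no root. -/
theorem noEigen_iff {A : M2} :
    (∀ (c : F) (v : Fin 2 → F), v ≠ 0 → A.mulVec v ≠ c • v)
      ↔ ∀ c : F, c ^ 2 - c * A.trace + A.det ≠ 0 := by
  constructor
  · intro h c hc
    have hdet : (A - c • (1 : M2)).det = 0 := by
      rw [← hc, sub_eq_add_neg, ← neg_smul, ← one_smul F A, add_comm, det_smul_add_smul, one_smul]
      ring
    obtain ⟨v, hv, hv'⟩ := Matrix.exists_mulVec_eq_zero_iff.mpr hdet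
    refine h c v hv ?_
    rw [Matrix.sub_mulVec, Matrix.smul_mulVec, Matrix.one_mulVec, sub_eq_zero] at hv'
    exact hv'
  · intro h c v hv e
    refine h c ?_
    have hdet : (A - c • (1 : M2)).det = 0 := Matrix.exists_mulVec_eq_zero_iff.mp
      ⟨v, hv, by rw [Matrix.sub_mulVec, Matrix.smul_mulVec, Matrix.one_mulVec, sub_eq_zero, e]⟩
    rw [← hdet, sub_eq_add_neg A, ← neg_smul, ← one_smul F A, add_comm _ ((-c) • (1 : M2)),
      det_smul_add_smul, one_smul]
    ring

theorem not_isScalarTwo_of_noEigen {A : M2}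
    (h : ∀ c : F, c ^ 2 - c * A.trace + A.det ≠ 0) : ¬ IsScalarTwo A := by
  intro hs
  refine h (A 0 0) ?_
  obtain ⟨h1, h2, h3⟩ := hs
  rw [Matrix.trace_fin_two, Matrix.det_fin_two, h1, h2, h3]
  ring

theorem norm_ne_zero_of_noEigen {A : M2} (h : ∀ c : F, c ^ 2 - c * A.trace + A.det ≠ 0) (a b : F)
    (hab : a ≠ 0 ∨ b ≠ 0) : (a • (1 : M2) + b • A).det ≠ 0 := by
  rw [det_smul_add_smul]
  rcases eq_or_ne b 0 with rfl | hb
  · simpa using hab
  · intro e
    refine h (-a / b) ?_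
    field_simp
    linear_combination e

/-- The centraliser of an element without eigenvector has order q^2 - 1. -/
theorem card_centralizer_noEigen [Fintype F] {g : GL (Fin 2) F}
    (h : ∀ c : F, c ^ 2 - c * (g : M2).trace + (g : M2).det ≠ 0) :
    Nat.card (Subgroup.centralizer {g}) = Fintype.card F ^ 2 - 1 := by
  classical
  rw [← Nat.card_congr (centralizerEquiv (not_isScalarTwo_of_noEigen h)), Nat.card_eq_fintype_card,
    Fintype.card_subtype]
  have : (Finset.univ.filter fun x : F × F => (x.1 • (1 : M2) + x.2 • (g : M2)).det ≠ 0)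
      = Finset.univ.erase (0, 0) := by
    ext ⟨a, b⟩
    simp only [Finset.mem_filter, Finset.mem_univ, true_and, Finset.mem_erase, and_true, ne_eq,
      Prod.mk.injEq]
    refine ⟨fun hd hab => hd ?_, fun hab => norm_ne_zero_of_noEigen h a b ?_⟩
    · obtain ⟨rfl, rfl⟩ := hab
      simp
    · rcases eq_or_ne a 0 with ha | ha
      · exact Or.inr fun hb => hab ⟨ha, hb⟩
      · exact Or.inl ha
  rw [this, Finset.card_erase_of_mem (Finset.mem_univ _), Finset.card_univ, Fintype.card_prod, sq]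

/-- The centraliser of a non-trivial element of U has order q(q-1). -/
theorem card_centralizer_unitri [Fintype F] {u : GL (Fin 2) F} (hu : u ∈ unitriGL 2 F)
    (h1 : u ≠ 1) :
    Nat.card (Subgroup.centralizer {u}) = Fintype.card F * (Fintype.card F - 1) := by
  classical
  obtain ⟨hns, u01⟩ := not_isScalarTwo_of_mem_unitriGL hu h1
  obtain ⟨u10, u00, u11⟩ := mem_unitriGL_two.mp hu
  rw [← Nat.card_congr (centralizerEquiv hns)]
  have e : ∀ x : F × F, (x.1 • (1 : M2) + x.2 • (u : M2)).det ≠ 0 ↔ x.1 + x.2 ≠ 0 := by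
    intro x
    rw [det_smul_add_smul, Matrix.trace_fin_two, Matrix.det_fin_two, u00, u11, u10, mul_zero,
      sub_zero, one_mul, mul_one, show x.1 ^ 2 + x.1 * x.2 * (1 + 1) + x.2 ^ 2 = (x.1 + x.2) ^ 2 by ring]
    simp
  rw [Nat.card_congr (Equiv.subtypeEquivRight e)]
  let k : {x : F × F // x.1 + x.2 ≠ 0} ≃ {c : F // c ≠ 0} × F :=
    { toFun := fun x => (⟨x.1.1 + x.1.2, x.2⟩, x.1.2)
      invFun := fun y => ⟨(y.1.1 - y.2, y.2), by simpa using y.1.2⟩
      left_inv := fun x => by simp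
      right_inv := fun y => by simp }
  rw [Nat.card_congr k, Nat.card_prod, ← Nat.card_congr unitsEquivNeZero, card_units',
    Nat.card_eq_fintype_card (α := F), mul_comm]

/-- The centraliser of diag(a, b), a ≠ b, has order (q-1)^2. -/
theorem card_centralizer_diag [Fintype F] {g : GL (Fin 2) F} (h01 : (g : M2) 0 1 = 0)
    (h10 : (g : M2) 1 0 = 0) (hne : (g : M2) 0 0 ≠ (g : M2) 1 1) :
    Nat.card (Subgroup.centralizer {g}) = (Fintype.card F - 1) ^ 2 := by
  classical
  have hns : ¬ IsScalarTwo (g : M2) := fun h => hne h.2.2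
  rw [← Nat.card_congr (centralizerEquiv hns)]
  have e : ∀ x : F × F, (x.1 • (1 : M2) + x.2 • (g : M2)).det ≠ 0 ↔
      x.1 + x.2 * (g : M2) 0 0 ≠ 0 ∧ x.1 + x.2 * (g : M2) 1 1 ≠ 0 := by
    intro x
    rw [← mul_ne_zero_iff, det_smul_add_smul, Matrix.trace_fin_two, Matrix.det_fin_two, h01, h10,
      mul_zero, sub_zero]
    ring_nf
  rw [Nat.card_congr (Equiv.subtypeEquivRight e)]
  have hd : (g : M2) 0 0 - (g : M2) 1 1 ≠ 0 := sub_ne_zero.mpr hne
  let k : {x : F × F // x.1 + x.2 * (g : M2) 0 0 ≠ 0 ∧ x.1 + x.2 * (g : M2) 1 1 ≠ 0}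
      ≃ {c : F // c ≠ 0} × {c : F // c ≠ 0} :=
    { toFun := fun x => (⟨_, x.2.1⟩, ⟨_, x.2.2⟩)
      invFun := fun y => ⟨(y.1.1 - (y.1.1 - y.2.1) / ((g : M2) 0 0 - (g : M2) 1 1) * (g : M2) 0 0,
          (y.1.1 - y.2.1) / ((g : M2) 0 0 - (g : M2) 1 1)), by
        refine ⟨?_, ?_⟩
        · simpa using y.1.2
        · convert y.2.2 using 1
          field_simp
          ring⟩
      left_inv := fun x => by
        refine Subtype.ext (Prod.ext ?_ ?_) <;> simp only
        · field_simp; ring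
        · field_simp; ring
      right_inv := fun y => by
        refine Prod.ext (Subtype.ext ?_) (Subtype.ext ?_) <;> simp only
        · ring
        · field_simp; ring }
  rw [Nat.card_congr k, Nat.card_prod, ← Nat.card_congr unitsEquivNeZero, card_units', sq]

end Cfsg.Agent.Linear
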