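import Cfsg.Agent.Linear.Generation
import Cfsg.Agent.Linear.TwoGL

/-!
SL_2: centre, involutions, unipotent elements, conjugacy by trace, tori.
-/

namespace Cfsg.Agent.Linear

open Matrix
open scoped Pointwise

variable {F : Type*} [Field F]

local notation "M2" => Matrix (Fin 2) (Fin 2) F
local notation "S2" => Matrix.SpecialLinearGroup (Fin 2) F
local notation "T" => Matrix.SpecialLinearGroup.transvection

theorem SL_ext_two {g h : S2} (h00 : (g : M2) 0 0 = (h : M2) 0 0) (h01 : (g : M2) 0 1 = (h : M2) 0 1)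
    (h10 : (g : M2) 1 0 = (h : M2) 1 0) (h11 : (g : M2) 1 1 = (h : M2) 1 1) : g = h :=
  Subtype.ext (ext_two h00 h01 h10 h11)

theorem SL_det_two (g : S2) : (g : M2) 0 0 * (g : M2) 1 1 - (g : M2) 0 1 * (g : M2) 1 0 = 1 := by
  rw [← Matrix.det_fin_two]
  exact g.2

theorem isScalarTwo_SL_iff {g : S2} : IsScalarTwo (g : M2) ↔ g = 1 ∨ g = -1 := by
  constructor
  · rintro ⟨h01, h10, h00⟩
    have hd := SL_det_two g
    rw [h01, h10, ← h00, mul_zero, sub_zero, mul_self_eq_one_iff] at hd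
    rcases hd with hd | hd
    · exact Or.inl (SL_ext_two (by simp [hd]) (by simp [h01]) (by simp [h10]) (by simp [← h00, hd]))
    · exact Or.inr (SL_ext_two (by simp [hd]) (by simp [h01]) (by simp [h10]) (by simp [← h00, hd]))
  · rintro (rfl | rfl) <;> simp [IsScalarTwo]

theorem mem_center_SL_two {g : S2} : g ∈ Subgroup.center S2 ↔ g = 1 ∨ g = -1 := by
  rw [← isScalarTwo_SL_iff, isScalarTwo_iff, Matrix.SpecialLinearGroup.mem_center_iff]
  refine ⟨fun ⟨r, _, hr⟩ => ⟨r, ?_⟩, fun ⟨c, hc⟩ => ⟨c, ?_, ?_⟩⟩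
  · rw [← hr, Matrix.smul_one_eq_diagonal]
    rfl
  · have h := g.2
    rw [hc] at h
    simpa using h
  · rw [hc, Matrix.smul_one_eq_diagonal]
    rfl

theorem SL_inv_entries (g : S2) : ((g⁻¹ : S2) : M2) 0 0 = (g : M2) 1 1 ∧
    ((g⁻¹ : S2) : M2) 1 1 = (g : M2) 0 0 ∧ ((g⁻¹ : S2) : M2) 0 1 = -(g : M2) 0 1 ∧
    ((g⁻¹ : S2) : M2) 1 0 = -(g : M2) 1 0 := by
  simp [Matrix.SpecialLinearGroup.coe_inv, Matrix.adjugate_fin_two]

theorem SL_mul_entries (g h : S2) (i j : Fin 2) :
    ((g * h : S2) : M2) i j = (g : M2) i 0 * (h : M2) 0 j + (g : M2) i 1 * (h : M2) 1 j := by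
  rw [Matrix.SpecialLinearGroup.coe_mul, mul_two_apply]

/-- In odd characteristic the only involution of SL_2 is -1. -/
theorem eq_one_or_neg_one_of_sq (h2 : (2 : F) ≠ 0) {g : S2} (h : g * g = 1) : g = 1 ∨ g = -1 := by
  have e : g⁻¹ = g := inv_eq_of_mul_eq_one_right h
  obtain ⟨i00, i11, i01, i10⟩ := SL_inv_entries g
  rw [e] at i00 i11 i01 i10
  refine isScalarTwo_SL_iff.mp ⟨?_, ?_, i00⟩
  · have : (2 : F) * (g : M2) 0 1 = 0 := by linear_combination i01
    exact (mul_eq_zero.mp this).resolve_left h2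
  · have : (2 : F) * (g : M2) 1 0 = 0 := by linear_combination i10
    exact (mul_eq_zero.mp this).resolve_left h2

theorem two_ne_zero_of_odd_card [Fintype F] (h : Odd (Fintype.card F)) : (2 : F) ≠ 0 := by
  intro h2
  have : CharP F 2 := CharTwo.of_one_ne_zero_of_two_eq_zero one_ne_zero h2
  obtain ⟨f, -, hf⟩ := FiniteField.card F 2
  rw [hf] at h
  exact (Nat.not_odd_iff_even.mpr ((Nat.even_pow).mpr ⟨even_two, f.ne_zero⟩)) h

/-- Elements of SL_2 with the same trace are conjugate when the characteristic is two or the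
trace is not ±2. -/
theorem isConj_of_trace_eq [Fintype F] {g h : S2} (hg : ¬ IsScalarTwo (g : M2))
    (hh : ¬ IsScalarTwo (h : M2)) (ht : (g : M2).trace = (h : M2).trace)
    (hs : (2 : F) = 0 ∨ (g : M2).trace ^ 2 ≠ 4) : IsConj g h := by
  obtain ⟨P, hP, hPA⟩ := exists_conj_det_one hg hh ht (g.2.trans h.2.symm) (hs.imp id fun e => by
    rw [g.2, mul_one]
    exact sub_ne_zero.mpr e)
  rw [isConj_iff]
  obtain ⟨c, hc⟩ : ∃ c : S2, (c : M2) = P := ⟨⟨P, hP⟩, rfl⟩
  refine ⟨c, ?_⟩
  rw [mul_inv_eq_iff_eq_mul]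
  refine Subtype.ext ?_
  rw [Matrix.SpecialLinearGroup.coe_mul, Matrix.SpecialLinearGroup.coe_mul, hc, hPA]

theorem toGL_mem_centralizer_iff {g x : S2} :
    Matrix.SpecialLinearGroup.toGL x ∈ Subgroup.centralizer {Matrix.SpecialLinearGroup.toGL g}
      ↔ x ∈ Subgroup.centralizer {g} := by
  rw [Subgroup.mem_centralizer_singleton_iff, Subgroup.mem_centralizer_singleton_iff, ← map_mul,
    ← map_mul, toGL_injective.eq_iff]

theorem mem_centralizer_SL_two {g : S2} (hg : ¬ IsScalarTwo (g : M2)) {x : S2} :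
    x ∈ Subgroup.centralizer {g} ↔ ∃ a b : F, (x : M2) = a • (1 : M2) + b • (g : M2) := by
  rw [← toGL_mem_centralizer_iff, mem_centralizer_GL_two (g := Matrix.SpecialLinearGroup.toGL g) hg]
  rfl

/-- The centraliser of a nonscalar element is abelian. -/
theorem centralizer_comm {g : S2} (hg : ¬ IsScalarTwo (g : M2)) {x y : S2}
    (hx : x ∈ Subgroup.centralizer {g}) (hy : y ∈ Subgroup.centralizer {g}) : x * y = y * x := by
  obtain ⟨a, b, hab⟩ := (mem_centralizer_SL_two hg).mp hx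
  obtain ⟨c, d, hcd⟩ := (mem_centralizer_SL_two hg).mp hy
  refine Subtype.ext ?_
  simp only [Matrix.SpecialLinearGroup.coe_mul, hab, hcd, add_mul, mul_add, Matrix.smul_mul,
    Matrix.mul_smul, smul_add, smul_smul, one_mul, mul_one]
  rw [mul_comm c a, mul_comm d a, mul_comm c b, mul_comm d b]
  abel

/-- If x centralises g and y centralises the nonscalar x, then the centralisers agree. -/
theorem centralizer_eq_of_mem {g x : S2} (hg : ¬ IsScalarTwo (g : M2))
    (hx : x ∈ Subgroup.centralizer {g}) (hxs : ¬ IsScalarTwo (x : M2)) :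
    Subgroup.centralizer {x} = Subgroup.centralizer ({g} : Set S2) := by
  refine le_antisymm (fun y hy => ?_) (fun y hy => ?_)
  · have hgx : g ∈ Subgroup.centralizer {x} := by
      rw [Subgroup.mem_centralizer_singleton_iff] at hx ⊢
      exact hx.symm
    rw [Subgroup.mem_centralizer_singleton_iff]
    exact centralizer_comm hxs hy hgx
  · rw [Subgroup.mem_centralizer_singleton_iff]
    exact centralizer_comm hg hy hx

section Generation

theorem unitriSL_two_eq {x : S2} :
    x ∈ unitriSL 2 F ↔ (x : M2) 1 0 = 0 ∧ (x : M2) 0 0 = 1 ∧ (x : M2) 1 1 = 1 :=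
  mem_unitriGL_two (g := Matrix.SpecialLinearGroup.toGL x)

theorem transvection_mem_unitriSL (c : F) : (T (zero_ne_one (α := Fin 2)) c : S2) ∈ unitriSL 2 F := by
  simp [unitriSL_two_eq, Matrix.SpecialLinearGroup.transvection_coe]

/-- U and a conjugate of U by an element outside the Borel subgroup generate SL_2. -/
theorem unitriSL_sup_conj_eq_top {g : S2} (hg : (g : M2) 1 0 ≠ 0) :
    unitriSL 2 F ⊔ (MulAut.conj g • unitriSL 2 F : Subgroup S2) = ⊤ := by
  set H := unitriSL 2 F ⊔ (MulAut.conj g • unitriSL 2 F : Subgroup S2) with hH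
  have hu : ∀ c : F, (T (zero_ne_one (α := Fin 2)) c : S2) ∈ H := fun c =>
    Subgroup.mem_sup_left (transvection_mem_unitriSL c)
  set a := (g : M2) 0 0 / (g : M2) 1 0 with ha
  have hl : ∀ c : F, (T (one_ne_zero (α := Fin 2)) c : S2) ∈ H := by
    intro c
    let x : S2 := T (zero_ne_one (α := Fin 2)) (-c / ((g : M2) 1 0 * (g : M2) 1 0))
    have hx : g * x * g⁻¹ ∈ H :=
      Subgroup.mem_sup_right (Subgroup.smul_mem_pointwise_smul _ _ _ (transvection_mem_unitriSL _))
    have key : T (zero_ne_one (α := Fin 2)) (-a) * (g * x * g⁻¹) * T (zero_ne_one (α := Fin 2)) a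
        = (T (one_ne_zero (α := Fin 2)) c : S2) := by
      obtain ⟨i00, i11, i01, i10⟩ := SL_inv_entries g
      have hd := SL_det_two g
      refine SL_ext_two ?_ ?_ ?_ ?_ <;>
        simp only [SL_mul_entries, i00, i11, i01, i10, x,
          Matrix.SpecialLinearGroup.transvection_coe, Matrix.add_apply, Matrix.single_apply,
          Matrix.one_apply_eq, Matrix.one_apply_ne (show (0 : Fin 2) ≠ 1 by decide),
          Matrix.one_apply_ne (show (1 : Fin 2) ≠ 0 by decide), zero_ne_one, one_ne_zero,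
          and_true, true_and, and_false, false_and, and_self, if_true, if_false, ha] <;>
        field_simp <;> ring_nf <;> grind
    rw [← key]
    exact H.mul_mem (H.mul_mem (hu _) hx) (hu _)
  refine eq_top_of_transvection_mem fun i j hij c => ?_
  fin_cases i <;> fin_cases j
  · exact absurd rfl hij
  · exact hu c
  · exact hl c
  · exact absurd rfl hij

/-- Two distinct Sylow p-subgroups of SL_2 generate. -/
theorem sylow_SL_two_sup [Fintype F] (p : ℕ) [Fact p.Prime] [CharP F p] (P Q : Sylow p S2)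
    (h : P ≠ Q) : (P : Subgroup S2) ⊔ Q = ⊤ := by
  obtain ⟨g, hg⟩ := MulAction.exists_smul_eq S2 (unitriSylowSL 2 F p) P
  obtain ⟨k, hk⟩ := MulAction.exists_smul_eq S2 (unitriSylowSL 2 F p) Q
  have hP : (P : Subgroup S2) = MulAut.conj g • unitriSL 2 F := by rw [← hg]; rfl
  have hQ : (Q : Subgroup S2) = MulAut.conj g • (MulAut.conj (g⁻¹ * k) • unitriSL 2 F) := by
    rw [← mul_smul, ← map_mul, mul_inv_cancel_left, ← hk]; rfl
  rw [hP, hQ, ← Subgroup.smul_sup]
  have hb : ((g⁻¹ * k : S2) : M2) 1 0 ≠ 0 := by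
    intro e
    refine h (Sylow.ext ?_)
    rw [hP, hQ]
    congr 1
    have hn : ∀ m : S2, (m : M2) 1 0 = 0 → ∀ x ∈ unitriSL 2 F, m * x * m⁻¹ ∈ unitriSL 2 F := by
      intro m hm x hx
      change Matrix.SpecialLinearGroup.toGL (m * x * m⁻¹) ∈ unitriGL 2 F
      rw [map_mul, map_mul, map_inv]
      exact conj_mem_unitriGL hm hx
    ext x
    rw [Subgroup.mem_pointwise_smul_iff_inv_smul_mem, ← map_inv, MulAut.smul_def,
      MulAut.conj_apply]
    have e' : (((g⁻¹ * k)⁻¹ : S2) : M2) 1 0 = 0 := by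
      rw [(SL_inv_entries (g⁻¹ * k)).2.2.2, e, neg_zero]
    refine ⟨hn _ e' x, fun hx => ?_⟩
    have := hn _ e _ hx
    simpa [mul_assoc] using this
  rw [unitriSL_sup_conj_eq_top hb, eq_top_iff]
  intro x _
  rw [Subgroup.mem_pointwise_smul_iff_inv_smul_mem]
  exact Subgroup.mem_top _

end Generation

end Cfsg.Agent.Linear
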