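import Mathlib

/-!
Generation of SL_n by elementary transvections, perfectness of SL_n, derived group of GL_n.
-/

namespace Cfsg.Agent.Linear

open Matrix
open scoped commutatorElement

variable {ι : Type*} [Fintype ι] [DecidableEq ι] {F : Type*} [Field F]

local notation "T" => Matrix.SpecialLinearGroup.transvection

theorem transvection_smul_apply {i j : ι} (hij : i ≠ j) (b : F) (v : ι → F) (k : ι) :
    (T hij b • v) k = v k + (if k = i then b * v j else 0) := by
  simp [Matrix.SpecialLinearGroup.smul_def, Matrix.SpecialLinearGroup.transvection_coe, Matrix.add_mulVec,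
    Matrix.single_mulVec_eq, Pi.single_apply]

theorem SL_ext_smul {g h : SpecialLinearGroup ι F} (H : ∀ v : ι → F, g • v = h • v) : g = h :=
  Subtype.ext <| Matrix.ext_iff_mulVec.mpr fun v => by
    simpa [Matrix.SpecialLinearGroup.smul_def] using H v

theorem diag2n_smul_apply {i j : ι} (hij : i ≠ j) (a : F) (ha : a ≠ 0) (v : ι → F) (k : ι) :
    (Matrix.SpecialLinearGroup.diag2n hij a ha • v) k
      = (if k = i then a else if k = j then a⁻¹ else 1) * v k := by
  simp [Matrix.SpecialLinearGroup.smul_def, Matrix.SpecialLinearGroup.diag2n_coe, Matrix.mulVec_diagonal]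

theorem diag2n_eq_transvections {i j : ι} (hij : i ≠ j) (a : F) (ha : a ≠ 0) :
    Matrix.SpecialLinearGroup.diag2n hij a ha
      = T hij a * T hij.symm (-a⁻¹) * T hij a * T hij (-1) * T hij.symm 1 * T hij (-1) := by
  refine SL_ext_smul fun v => funext fun k => ?_
  simp only [mul_smul, diag2n_smul_apply, transvection_smul_apply, if_pos, if_neg hij,
    if_neg hij.symm]
  rcases eq_or_ne k i with rfl | hki
  · simp only [if_pos, if_neg hij]
    field_simp
    ring
  · rcases eq_or_ne k j with rfl | hkj
    · simp only [if_neg hki, if_pos]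
      field_simp
      ring
    · simp [hki, hkj]

/-- Induction principle: SL is generated by elementary transvections. -/
theorem transvection_induction {P : SpecialLinearGroup ι F → Prop}
    (one : P 1)
    (htr : ∀ (i j : ι) (hij : i ≠ j) (c : F), P (T hij c))
    (hmul : ∀ A B, P A → P B → P (A * B)) (A : SpecialLinearGroup ι F) : P A := by
  cases subsingleton_or_nontrivial ι
  · rw [Subsingleton.elim A 1]; exact one
  · refine Matrix.SpecialLinearGroup.diagonal_transvection_induction' P A (fun i j hij c hc => ?_) htr hmul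
    rw [diag2n_eq_transvections hij c hc]
    repeat' apply hmul
    all_goals apply htr

theorem eq_top_of_transvection_mem {H : Subgroup (SpecialLinearGroup ι F)}
    (h : ∀ (i j : ι) (hij : i ≠ j) (c : F), T hij c ∈ H) : H = ⊤ :=
  top_le_iff.mp fun A _ =>
    transvection_induction (P := (· ∈ H)) H.one_mem h (fun _ _ => H.mul_mem) A

theorem closure_transvections :
    Subgroup.closure {g : SpecialLinearGroup ι F | ∃ (i j : ι) (hij : i ≠ j) (c : F), g = T hij c}
      = ⊤ :=
  eq_top_of_transvection_mem fun i j hij c => Subgroup.subset_closure ⟨i, j, hij, c, rfl⟩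

/-- `[E_ik(a), E_kj(b)] = E_ij(ab)`. -/
theorem commutator_transvections {i j k : ι} (hik : i ≠ k) (hkj : k ≠ j) (hij : i ≠ j) (a b : F) :
    ⁅(T hik a : SpecialLinearGroup ι F), T hkj b⁆ = T hij (a * b) := by
  refine SL_ext_smul fun v => funext fun l => ?_
  simp only [commutatorElement_def, Matrix.SpecialLinearGroup.transvection_inv, mul_smul,
    transvection_smul_apply, if_pos, if_neg hik, if_neg hik.symm, if_neg hkj.symm,
    if_neg hij.symm]
  rcases eq_or_ne l i with rfl | hli
  · simp only [if_pos, if_neg hik]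
    ring
  · rcases eq_or_ne l k with rfl | hlk
    · simp only [if_pos, if_neg hli]
      ring
    · simp [hli, hlk]

/-- `[diag(a, a⁻¹), E_ij(b)] = E_ij(b (a² - 1))`. -/
theorem commutator_diag2n_transvection {i j : ι} (hij : i ≠ j) (a : F) (ha : a ≠ 0) (b : F) :
    ⁅Matrix.SpecialLinearGroup.diag2n hij a ha, T hij b⁆ = T hij (b * (a ^ 2 - 1)) := by
  have hinv : (Matrix.SpecialLinearGroup.diag2n hij a ha)⁻¹
      = Matrix.SpecialLinearGroup.diag2n hij a⁻¹ (inv_ne_zero ha) := by
    refine inv_eq_of_mul_eq_one_right (SL_ext_smul fun v => funext fun l => ?_)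
    simp only [mul_smul, diag2n_smul_apply, one_smul, inv_inv]
    split_ifs <;> simp [ha]
  refine SL_ext_smul fun v => funext fun l => ?_
  simp only [commutatorElement_def, hinv, Matrix.SpecialLinearGroup.transvection_inv, mul_smul,
    transvection_smul_apply, diag2n_smul_apply, if_pos, if_neg hij, if_neg hij.symm, inv_inv]
  rcases eq_or_ne l i with rfl | hli
  · simp only [if_pos]
    field_simp
    ring
  · rcases eq_or_ne l j with rfl | hlj
    · simp only [if_pos, if_neg hli]
      field_simp
      ring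
    · simp [hli, hlj]

theorem exists_third (h : 3 ≤ Fintype.card ι) (i j : ι) : ∃ k : ι, k ≠ i ∧ k ≠ j := by
  by_contra hc
  push Not at hc
  have hsub : (Finset.univ : Finset ι) ⊆ {i, j} := by
    intro k _
    rcases eq_or_ne k i with rfl | hk
    · simp
    · simp [hc k hk]
  have := (Finset.card_le_card hsub).trans Finset.card_le_two
  rw [Finset.card_univ] at this
  omega

theorem transvection_mem_commutatorSet
    (h : 3 ≤ Fintype.card ι ∨ ∃ a : F, a ≠ 0 ∧ a ^ 2 ≠ 1) {i j : ι} (hij : i ≠ j) (c : F) :
    (T hij c : SpecialLinearGroup ι F) ∈ commutatorSet (SpecialLinearGroup ι F) := by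
  rcases h with h | ⟨a, ha, ha2⟩
  · obtain ⟨k, hki, hkj⟩ := exists_third h i j
    exact ⟨T hki.symm c, T hkj 1, by rw [commutator_transvections hki.symm hkj hij, mul_one]⟩
  · refine ⟨Matrix.SpecialLinearGroup.diag2n hij a ha, T hij (c / (a ^ 2 - 1)), ?_⟩
    rw [commutator_diag2n_transvection, div_mul_cancel₀ c (sub_ne_zero.mpr ha2)]

/-- SL_n is perfect for n ≥ 3, or for |F| ≥ 4. -/
theorem commutator_SL_eq_top (h : 3 ≤ Fintype.card ι ∨ ∃ a : F, a ≠ 0 ∧ a ^ 2 ≠ 1) :
    commutator (SpecialLinearGroup ι F) = ⊤ :=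
  eq_top_of_transvection_mem fun i j hij c => by
    rw [commutator_eq_closure]
    exact Subgroup.subset_closure (transvection_mem_commutatorSet h hij c)

theorem exists_sq_ne_one_of_card [Finite F] (h : 4 ≤ Nat.card F) :
    ∃ a : F, a ≠ 0 ∧ a ^ 2 ≠ 1 := by
  have := Fintype.ofFinite F
  classical
  by_contra hc
  push Not at hc
  have hsub : (Finset.univ : Finset F) ⊆ {0, 1, -1} := by
    intro x _
    rcases eq_or_ne x 0 with rfl | hx
    · simp
    · rcases sq_eq_one_iff.mp (hc x hx) with rfl | rfl <;> simp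
  have := (Finset.card_le_card hsub).trans Finset.card_le_three
  rw [Finset.card_univ, ← Nat.card_eq_fintype_card] at this
  omega

theorem commutator_SL_eq_top_of_card [Finite F] (h : 3 ≤ Fintype.card ι ∨ 4 ≤ Nat.card F) :
    commutator (SpecialLinearGroup ι F) = ⊤ :=
  commutator_SL_eq_top (h.imp id exists_sq_ne_one_of_card)

/-- An element of GL with `diag` entries. -/
noncomputable def diagGL (d : ι → Fˣ) : GL ι F :=
  Units.map (Matrix.diagonalRingHom ι F).toMonoidHom (MulEquiv.piUnits.symm d)

@[simp] theorem diagGL_coe (d : ι → Fˣ) :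
    (diagGL d : Matrix ι ι F) = Matrix.diagonal (fun i => (d i : F)) := rfl

theorem diagGL_mul (d e : ι → Fˣ) : diagGL (d * e) = diagGL d * diagGL e := by
  rw [diagGL, diagGL, diagGL, map_mul, map_mul]

theorem diagGL_one : diagGL (1 : ι → Fˣ) = 1 := by
  rw [diagGL, map_one, map_one]

theorem diagGL_inv (d : ι → Fˣ) : (diagGL d)⁻¹ = diagGL d⁻¹ :=
  inv_eq_of_mul_eq_one_right (by rw [← diagGL_mul, mul_inv_cancel, diagGL_one])

/-- `[diag(a), E_ij(b)] = E_ij((a-1) b)` in GL. -/
theorem commutator_diagGL_transvection {i j : ι} (hij : i ≠ j) (a : Fˣ) (b : F) :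
    ⁅diagGL (Pi.mulSingle i a), Matrix.SpecialLinearGroup.toGL (T hij b)⁆
      = Matrix.SpecialLinearGroup.toGL (T hij (((a : F) - 1) * b)) := by
  rw [commutatorElement_def, diagGL_inv, ← map_inv Matrix.SpecialLinearGroup.toGL,
    Matrix.SpecialLinearGroup.transvection_inv]
  refine Units.ext (Matrix.ext_iff_mulVec.mpr fun v => funext fun l => ?_)
  simp only [Units.val_mul, diagGL_coe, Matrix.SpecialLinearGroup.coe_GL_coe_matrix,
    ← Matrix.mulVec_mulVec, Matrix.SpecialLinearGroup.transvection_coe, Matrix.add_mulVec,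
    Matrix.one_mulVec, Matrix.single_mulVec_eq, Matrix.mulVec_diagonal, Pi.add_apply,
    Pi.smul_apply, Pi.single_apply, smul_eq_mul, Pi.inv_apply, Pi.mulSingle_apply]
  rcases eq_or_ne l i with rfl | hli
  · simp only [if_pos, if_neg hij.symm, inv_one, Units.val_one, mul_one, one_mul,
      Units.val_inv_eq_inv_val]
    have := a.ne_zero
    field_simp
    ring
  · simp [hli]

/-- `GL' = SL`. -/
theorem commutator_GL (h : 3 ≤ Fintype.card ι ∨ Subsingleton ι ∨ ∃ a : F, a ≠ 0 ∧ a ≠ 1) :
    commutator (GL ι F) = (GeneralLinearGroup.det : GL ι F →* Fˣ).ker := by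
  refine le_antisymm (Abelianization.commutator_subset_ker _) ?_
  intro g hg
  have hg' : (g : Matrix ι ι F).det = 1 := by
    simpa using congrArg Units.val (MonoidHom.mem_ker.mp hg)
  have key : (⊤ : Subgroup (SpecialLinearGroup ι F))
      = (commutator (GL ι F)).comap Matrix.SpecialLinearGroup.toGL := by
    rcases h with h | h | ⟨a, ha, ha1⟩
    · rw [eq_comm, eq_top_iff, ← commutator_SL_eq_top (Or.inl h), ← Subgroup.map_le_iff_le_comap,
        commutator_def, Subgroup.map_commutator]
      exact Subgroup.commutator_mono le_top le_top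
    · exact Subsingleton.elim _ _
    · symm
      refine eq_top_of_transvection_mem fun i j hij c => ?_
      rw [Subgroup.mem_comap]
      have := commutator_diagGL_transvection hij (Units.mk0 a ha) (c / (a - 1))
      rw [Units.val_mk0, mul_div_cancel₀ c (sub_ne_zero.mpr ha1)] at this
      rw [← this]
      exact Subgroup.commutator_mem_commutator (Subgroup.mem_top _) (Subgroup.mem_top _)
  obtain ⟨s, rfl⟩ : ∃ s : SpecialLinearGroup ι F, Matrix.SpecialLinearGroup.toGL s = g :=
    ⟨⟨g, hg'⟩, Units.ext rfl⟩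
  exact Subgroup.mem_comap.mp (key ▸ Subgroup.mem_top s)

end Cfsg.Agent.Linear
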