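import Cfsg.Agent.Linear.TwoSL

/-!
SL_2: unipotent elements, cyclic tori and their normalisers.
-/

namespace Cfsg.Agent.Linear

open Matrix

variable {F : Type*} [Field F]

local notation "M2" => Matrix (Fin 2) (Fin 2) F
local notation "S2" => Matrix.SpecialLinearGroup (Fin 2) F

theorem trace_SL_two (g : S2) : (g : M2).trace = (g : M2) 0 0 + (g : M2) 1 1 :=
  Matrix.trace_fin_two _

theorem SL_sq_eq (g : S2) : (g : M2) * (g : M2) = (g : M2).trace • (g : M2) - 1 := by
  have hd := SL_det_two g
  apply ext_two <;> simp [mul_two_apply, Matrix.trace_fin_two] <;> first | ring1 | linear_combination hd | linear_combination -hd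

theorem SL_inv_eq (g : S2) : ((g⁻¹ : S2) : M2) = (g : M2).trace • (1 : M2) + (-1 : F) • (g : M2) := by
  obtain ⟨i00, i11, i01, i10⟩ := SL_inv_entries g
  apply ext_two <;> simp [i00, i11, i01, i10, Matrix.trace_fin_two]

section Unipotent

variable (p : ℕ) [Fact p.Prime] [CharP F p]

theorem pow_char_eq_one_iff (g : S2) : g ^ p = 1 ↔ (g : M2).trace = 2 := by
  have hp : p.Prime := Fact.out
  constructor
  · intro h
    have e : ((g : M2) - 1) ^ p = 0 := by
      rw [sub_pow_char_of_commute _ (Commute.one_right (g : M2)), one_pow,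
        ← Matrix.SpecialLinearGroup.coe_pow, h, Matrix.SpecialLinearGroup.coe_one, sub_self]
    have ht := IsNilpotent.eq_zero (Matrix.isNilpotent_trace_of_isNilpotent ⟨p, e⟩)
    rw [Matrix.trace_sub, Matrix.trace_one, sub_eq_zero, Fintype.card_fin] at ht
    simpa using ht
  · intro ht
    have e : ((g : M2) - 1) ^ 2 = 0 := by
      rw [sq, sub_mul, mul_sub, SL_sq_eq, ht, one_mul, mul_one, two_smul]
      abel
    have e' : ((g : M2) - 1) ^ p = 0 := pow_eq_zero_of_le hp.two_le e
    rw [sub_pow_char_of_commute _ (Commute.one_right (g : M2)), one_pow, sub_eq_zero,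
      ← Matrix.SpecialLinearGroup.coe_pow] at e'
    exact Subtype.ext e'

theorem pow_char_eq_neg_one {g : S2} (ht : (g : M2).trace = -2) : g ^ p = (-1) ^ p := by
  have h : (-g) ^ p = 1 := by
    rw [pow_char_eq_one_iff]
    simp [ht]
  calc g ^ p = ((-1) * (-g)) ^ p := by simp
    _ = (-1) ^ p := by rw [(Commute.neg_one_left (-g)).mul_pow, h, mul_one]

theorem pow_two_mul_char_eq_one {g : S2} (ht : (g : M2).trace ^ 2 = 4) : g ^ (2 * p) = 1 := by
  have : (g : M2).trace ^ 2 = 2 ^ 2 := by rw [ht]; norm_num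
  rcases eq_or_eq_neg_of_sq_eq_sq _ _ this with h | h
  · rw [pow_mul', (pow_char_eq_one_iff p g).mpr h, one_pow]
  · rw [pow_mul', pow_char_eq_neg_one p h, ← pow_mul, mul_comm, pow_mul, neg_one_sq, one_pow]

/-- A nonscalar element of order prime to p has trace different from ±2. -/
theorem trace_sq_ne_four {g : S2} (hns : ¬ IsScalarTwo (g : M2))
    (h : (orderOf g).Coprime p) : (g : M2).trace ^ 2 ≠ 4 := by
  intro ht
  have h1 : orderOf g ∣ 2 := h.dvd_of_dvd_mul_right (orderOf_dvd_of_pow_eq_one (pow_two_mul_char_eq_one p ht))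
  have hsq : g * g = 1 := by rw [← sq]; exact orderOf_dvd_iff_pow_eq_one.mp h1
  rcases (Nat.dvd_prime Nat.prime_two).mp h1 with h1 | h1
  · exact hns (isScalarTwo_SL_iff.mpr (Or.inl (orderOf_eq_one_iff.mp h1)))
  · rw [h1] at h
    have hp2 : p ≠ 2 := fun e => by rw [e] at h; exact absurd h (by decide)
    have h2 : (2 : F) ≠ 0 := Ring.two_ne_zero (by rwa [ringChar.eq F p])
    exact hns (isScalarTwo_SL_iff.mpr (eq_one_or_neg_one_of_sq h2 hsq))

theorem orderOf_eq_char_of_trace {g : S2} (h1 : g ≠ 1) (ht : (g : M2).trace = 2) : orderOf g = p :=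
  orderOf_eq_prime ((pow_char_eq_one_iff p g).mpr ht) h1

theorem orderOf_eq_char_iff {g : S2} : orderOf g = p ↔ g ≠ 1 ∧ (g : M2).trace = 2 := by
  refine ⟨fun h => ⟨fun e => ?_, ?_⟩, fun h => orderOf_eq_char_of_trace p h.1 h.2⟩
  · rw [e, orderOf_one] at h
    exact (Fact.out : p.Prime).one_lt.ne h
  · rw [← pow_char_eq_one_iff p, ← h]
    exact pow_orderOf_eq_one g

theorem not_scalar_of_orderOf_eq_char {g : S2} (h : orderOf g = p) : ¬ IsScalarTwo (g : M2) := by
  obtain ⟨h1, ht⟩ := (orderOf_eq_char_iff p).mp h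
  intro hs
  rcases isScalarTwo_SL_iff.mp hs with e | e
  · exact h1 e
  · apply h1
    rw [e] at ht
    have h4 : (4 : F) = 0 := by
      simp at ht
      linear_combination -ht
    have h2 : (2 : F) = 0 := by
      rw [show (4 : F) = 2 * 2 by norm_num] at h4
      exact mul_self_eq_zero.mp h4
    have : (-1 : F) = 1 := by linear_combination -h2
    rw [e]
    exact SL_ext_two (by simp [this]) (by simp) (by simp) (by simp [this])

end Unipotent

section Torus

/-- The element g ∈ SL_2 is regular semisimple (over the algebraic closure). -/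
theorem not_isScalarTwo_of_trace {g : S2} (ht : (g : M2).trace ^ 2 ≠ 4) : ¬ IsScalarTwo (g : M2) := by
  intro hs
  apply ht
  rcases isScalarTwo_SL_iff.mp hs with e | e <;> subst e <;> simp [Matrix.trace_fin_two] <;> norm_num

/-- The centraliser of a regular semisimple element of SL_2 embeds in the multiplicative group of
a field, so is cyclic. -/
theorem isCyclic_centralizer [Finite F] {g : S2} (ht : (g : M2).trace ^ 2 ≠ 4) :
    IsCyclic (Subgroup.centralizer ({g} : Set S2)) := by
  have hns := not_isScalarTwo_of_trace ht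
  let K := AlgebraicClosure F
  let i : F →+* K := algebraMap F K
  set t : F := (g : M2).trace
  obtain ⟨r, hr⟩ : ∃ r : K, r ^ 2 - i t * r + 1 = 0 := by
    obtain ⟨r, hr⟩ := IsAlgClosed.exists_root
      (Polynomial.X ^ 2 - Polynomial.C (i t) * Polynomial.X + 1) (by
        rw [show (Polynomial.X ^ 2 - Polynomial.C (i t) * Polynomial.X + 1 : Polynomial K)
          = Polynomial.C 1 * Polynomial.X ^ 2 + Polynomial.C (-i t) * Polynomial.X + Polynomial.C 1 by
          simp; ring, Polynomial.degree_quadratic one_ne_zero]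
        decide)
    exact ⟨r, by simpa using hr⟩
  have hrs : i t - r ≠ r := by
    intro e
    apply ht
    apply i.injective
    rw [map_pow, map_ofNat]
    linear_combination (i t - 2 * r) * e - 4 * hr
  let C := Subgroup.centralizer ({g} : Set S2)
  have hco : ∀ x : C, ∃ ab : F × F, ((x : S2) : M2) = ab.1 • (1 : M2) + ab.2 • (g : M2) := fun x => by
    obtain ⟨a, b, h⟩ := (mem_centralizer_SL_two hns).mp x.2
    exact ⟨(a, b), h⟩
  choose co hco using hco
  have huniq : ∀ (x : C) (a b : F), ((x : S2) : M2) = a • (1 : M2) + b • (g : M2) → co x = (a, b) :=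
    fun x a b h => by
      obtain ⟨e1, e2⟩ := smul_add_smul_injective hns ((hco x).symm.trans h)
      exact Prod.ext e1 e2
  let χ : C →* K :=
    { toFun := fun x => i (co x).1 + i (co x).2 * r
      map_one' := by
        rw [huniq 1 1 0 (by simp)]
        simp
      map_mul' := fun x y => by
        have h := huniq (x * y) ((co x).1 * (co y).1 - (co x).2 * (co y).2)
          ((co x).1 * (co y).2 + (co x).2 * (co y).1 + (co x).2 * (co y).2 * t) (by
            rw [Subgroup.coe_mul, Matrix.SpecialLinearGroup.coe_mul, hco x, hco y]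
            simp only [add_mul, mul_add, Matrix.smul_mul, Matrix.mul_smul, smul_smul, one_mul,
              mul_one, SL_sq_eq, smul_sub, sub_smul, add_smul]
            module)
        rw [h]
        simp only [map_sub, map_add, map_mul]
        linear_combination -(i (co x).2 * i (co y).2) * hr }
  refine isCyclic_of_subgroup_isDomain χ ?_
  rw [injective_iff_map_eq_one]
  intro x hx
  replace hx : i (co x).1 + i (co x).2 * r = 1 := hx
  have hdet : (co x).1 ^ 2 + (co x).1 * (co x).2 * t + (co x).2 ^ 2 = 1 := by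
    have h : ((x : S2) : M2).det = 1 := (x : S2).2
    rw [hco x, det_smul_add_smul, g.2, mul_one] at h
    exact h
  have hdet' : (i (co x).1 + i (co x).2 * r) * (i (co x).1 + i (co x).2 * (i t - r)) = 1 := by
    rw [← map_one i, ← hdet]
    simp only [map_add, map_mul, map_pow]
    linear_combination -(i (co x).2) ^ 2 * hr
  rw [hx, one_mul] at hdet'
  have hb : i (co x).2 = 0 := by
    have : i (co x).2 * ((i t - r) - r) = 0 := by linear_combination hdet' - hx
    exact (mul_eq_zero.mp this).resolve_right (sub_ne_zero.mpr hrs)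
  rw [hb, zero_mul, add_zero, ← map_one i] at hx
  rw [← map_zero i] at hb
  refine Subtype.ext (Subtype.ext ?_)
  rw [hco x, i.injective hx, i.injective hb]
  simp

theorem card_centralizer_SL_mul [Fintype F] {g : S2} (ht : (g : M2).trace ^ 2 ≠ 4) :
    (Fintype.card F - 1) * Nat.card (Subgroup.centralizer ({g} : Set S2))
      = Nat.card (Subgroup.centralizer ({Matrix.SpecialLinearGroup.toGL g} : Set (GL (Fin 2) F))) := by
  let G' := Subgroup.centralizer ({Matrix.SpecialLinearGroup.toGL g} : Set (GL (Fin 2) F))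
  let d : G' →* Fˣ := GeneralLinearGroup.det.comp G'.subtype
  have hns := not_isScalarTwo_of_trace ht
  have hd : Function.Surjective d := by
    intro c
    obtain ⟨a, b, hab⟩ := exists_norm_eq (t := (g : M2).trace) (d := 1)
      (Or.inr (by rw [mul_one]; exact sub_ne_zero.mpr ht)) (c : F)
    have hdet : (a • (1 : M2) + b • (g : M2)).det = c := by rw [det_smul_add_smul, g.2, hab]
    refine ⟨⟨glOfDet (a • (1 : M2) + b • (g : M2)) (by rw [hdet]; exact c.isUnit),
      (mem_centralizer_GL_two hns).mpr ⟨a, b, rfl⟩⟩, Units.ext ?_⟩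
    simp only [d, MonoidHom.comp_apply, Subgroup.coe_subtype, GeneralLinearGroup.val_det_apply,
      glOfDet_coe, hdet]
  let e : Subgroup.centralizer ({g} : Set S2) ≃ d.ker :=
    Equiv.ofBijective (fun x => ⟨⟨Matrix.SpecialLinearGroup.toGL x.1,
        toGL_mem_centralizer_iff.mpr x.2⟩, by
        rw [MonoidHom.mem_ker]
        refine Units.ext ?_
        simp [d]⟩)
      ⟨fun x y h => Subtype.ext (toGL_injective
          (congrArg (fun z : d.ker => (z.1 : GL (Fin 2) F)) h)),
      fun z => by
        have hz : (z.1.1 : GL (Fin 2) F) ∈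
            (GeneralLinearGroup.det : GL (Fin 2) F →* Fˣ).ker := z.2
        rw [← range_toGL] at hz
        obtain ⟨s, hs⟩ := hz
        exact ⟨⟨s, toGL_mem_centralizer_iff.mp (hs ▸ z.1.2)⟩, Subtype.ext (Subtype.ext hs)⟩⟩
  rw [Nat.card_congr e, ← Subgroup.card_mul_index d.ker, Subgroup.index_ker,
    MonoidHom.range_eq_top.mpr hd, Subgroup.card_top, card_units', mul_comm]

/-- If the characteristic polynomial has two distinct roots, the centraliser has order (q-1)^2. -/
theorem card_centralizer_split [Fintype F] {g : GL (Fin 2) F} {r s : F} (hrs : r ≠ s)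
    (ht : r + s = (g : M2).trace) (hd : r * s = (g : M2).det) :
    Nat.card (Subgroup.centralizer {g}) = (Fintype.card F - 1) ^ 2 := by
  have hns : ¬ IsScalarTwo (g : M2) := by
    rintro ⟨h01, h10, h00⟩
    rw [Matrix.det_fin_two, h01, h10, ← h00] at hd
    rw [Matrix.trace_fin_two, ← h00] at ht
    apply hrs
    have : (r - s) ^ 2 = 0 := by linear_combination (r + s + ((g : M2) 0 0 + (g : M2) 0 0)) * ht - 4 * hd
    exact sub_eq_zero.mp (by simpa using this)
  rw [← Nat.card_congr (centralizerEquiv hns)]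
  have e : ∀ x : F × F, (x.1 • (1 : M2) + x.2 • (g : M2)).det ≠ 0 ↔
      x.1 + x.2 * r ≠ 0 ∧ x.1 + x.2 * s ≠ 0 := by
    intro x
    rw [← mul_ne_zero_iff, det_smul_add_smul, ← ht, ← hd]
    ring_nf
  rw [Nat.card_congr (Equiv.subtypeEquivRight e)]
  have hd' : r - s ≠ 0 := sub_ne_zero.mpr hrs
  let k : {x : F × F // x.1 + x.2 * r ≠ 0 ∧ x.1 + x.2 * s ≠ 0} ≃ {c : F // c ≠ 0} × {c : F // c ≠ 0} :=
    { toFun := fun x => (⟨_, x.2.1⟩, ⟨_, x.2.2⟩)
      invFun := fun y => ⟨(y.1.1 - (y.1.1 - y.2.1) / (r - s) * r, (y.1.1 - y.2.1) / (r - s)), by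
        refine ⟨?_, ?_⟩
        · simpa using y.1.2
        · convert y.2.2 using 1
          field_simp
          ring⟩
      left_inv := fun x => by
        refine Subtype.ext (Prod.ext ?_ ?_) <;> simp only
        · field_simp; ring
        · field_simp; ring
      right_inv := fun y => by
        refine Prod.ext (Subtype.ext ?_) (Subtype.ext ?_) <;> simp only
        · ring
        · field_simp; ring }
  rw [Nat.card_congr k, Nat.card_prod, ← Nat.card_congr unitsEquivNeZero, card_units', sq]

theorem card_centralizer_split_SL [Fintype F] {g : S2} (ht : (g : M2).trace ^ 2 ≠ 4)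
    (hr : ∃ c : F, c ^ 2 - c * (g : M2).trace + 1 = 0) :
    Nat.card (Subgroup.centralizer ({g} : Set S2)) = Fintype.card F - 1 := by
  obtain ⟨r, hr⟩ := hr
  have hrs : r ≠ (g : M2).trace - r := fun e => ht (by
    linear_combination -((g : M2).trace - 2 * r) * e - 4 * hr)
  have h := card_centralizer_SL_mul ht
  rw [card_centralizer_split hrs (by simp) (by
    simp only [Matrix.SpecialLinearGroup.coe_GL_coe_matrix, g.2]
    linear_combination -hr), sq] at h
  have := Fintype.one_lt_card (α := F)
  exact Nat.eq_of_mul_eq_mul_left (by omega) h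

theorem card_centralizer_nonsplit_SL [Fintype F] {g : S2} (ht : (g : M2).trace ^ 2 ≠ 4)
    (hr : ∀ c : F, c ^ 2 - c * (g : M2).trace + 1 ≠ 0) :
    Nat.card (Subgroup.centralizer ({g} : Set S2)) = Fintype.card F + 1 := by
  have h := card_centralizer_SL_mul ht
  rw [card_centralizer_noEigen (by
    simp only [Matrix.SpecialLinearGroup.coe_GL_coe_matrix, g.2]
    exact hr)] at h
  have := Fintype.one_lt_card (α := F)
  refine Nat.eq_of_mul_eq_mul_left (show 0 < Fintype.card F - 1 by omega) (h.trans ?_)
  rw [mul_comm, ← Nat.sq_sub_sq, one_pow]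

theorem card_centralizer_cases [Fintype F] {g : S2} (ht : (g : M2).trace ^ 2 ≠ 4) :
    Nat.card (Subgroup.centralizer ({g} : Set S2)) = Fintype.card F - 1 ∨
      Nat.card (Subgroup.centralizer ({g} : Set S2)) = Fintype.card F + 1 := by
  by_cases hr : ∃ c : F, c ^ 2 - c * (g : M2).trace + 1 = 0
  · exact Or.inl (card_centralizer_split_SL ht hr)
  · exact Or.inr (card_centralizer_nonsplit_SL ht (not_exists.mp hr))

theorem inv_ne_self {g : S2} (ht : (g : M2).trace ^ 2 ≠ 4) : g⁻¹ ≠ g := by
  intro e
  obtain ⟨i00, i11, i01, i10⟩ := SL_inv_entries g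
  rw [e] at i00 i11 i01 i10
  by_cases h2 : (2 : F) = 0
  · apply ht
    rw [Matrix.trace_fin_two, ← i00]
    linear_combination (2 * (g : M2) 0 0 ^ 2 - 2) * h2
  · refine not_isScalarTwo_of_trace ht ⟨?_, ?_, i00⟩
    · exact (mul_eq_zero.mp (show (2 : F) * (g : M2) 0 1 = 0 by linear_combination i01)).resolve_left h2
    · exact (mul_eq_zero.mp (show (2 : F) * (g : M2) 1 0 = 0 by linear_combination i10)).resolve_left h2

/-- An element of the centraliser of g with the same trace is g or g⁻¹. -/
theorem eq_or_eq_inv_of_trace {g x : S2} (ht : (g : M2).trace ^ 2 ≠ 4)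
    (hx : x ∈ Subgroup.centralizer ({g} : Set S2)) (he : (x : M2).trace = (g : M2).trace) :
    x = g ∨ x = g⁻¹ := by
  obtain ⟨a, b, hab⟩ := (mem_centralizer_SL_two (not_isScalarTwo_of_trace ht)).mp hx
  set t := (g : M2).trace with htdef
  have hd : a ^ 2 + a * b * t + b ^ 2 = 1 := by
    have h : (x : M2).det = 1 := x.2
    rw [hab, det_smul_add_smul, g.2, mul_one] at h
    exact h
  rw [hab, trace_smul_add_smul, ← htdef] at he
  have hb : (b - 1) * (b + 1) * (4 - t ^ 2) = 0 := by
    linear_combination (-(2 * a + b * t + t)) * he + 4 * hd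
  rcases mul_eq_zero.mp ((mul_eq_zero.mp hb).resolve_right (sub_ne_zero.mpr (Ne.symm ht))) with h | h
  · obtain rfl : b = 1 := sub_eq_zero.mp h
    have h2a : 2 * a = 0 := by linear_combination he
    rcases mul_eq_zero.mp (show a * (a + t) = 0 by linear_combination hd) with ha | ha
    · subst ha
      exact Or.inl (Subtype.ext (by rw [hab]; simp))
    · rcases mul_eq_zero.mp h2a with h2 | ha'
      · refine Or.inr (Subtype.ext ?_)
        rw [hab, SL_inv_eq, ← htdef]
        have e1 : (1 : F) = -1 := by linear_combination h2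
        have e2 : a = t := by linear_combination ha - t * h2
        rw [e2, ← e1]
      · subst ha'
        exact Or.inl (Subtype.ext (by rw [hab]; simp))
  · obtain rfl : b = -1 := eq_neg_of_add_eq_zero_left h
    rcases mul_eq_zero.mp (show a * (a - t) = 0 by linear_combination hd) with ha | ha
    · subst ha
      have h2 : 2 * t = 0 := by linear_combination -he
      rcases mul_eq_zero.mp h2 with h2 | ht0
      · refine Or.inl (Subtype.ext ?_)
        rw [hab]
        have e1 : (-1 : F) = 1 := by linear_combination -h2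
        simp [e1]
      · refine Or.inr (Subtype.ext ?_)
        rw [hab, SL_inv_eq, ← htdef, ht0]
    · refine Or.inr (Subtype.ext ?_)
      rw [hab, SL_inv_eq, ← htdef, sub_eq_zero.mp ha]

theorem trace_conj (g h : S2) : ((h * g * h⁻¹ : S2) : M2).trace = (g : M2).trace := by
  rw [Matrix.SpecialLinearGroup.coe_mul, Matrix.trace_mul_comm, ← Matrix.SpecialLinearGroup.coe_mul,
    ← mul_assoc, inv_mul_cancel, one_mul]

theorem trace_inv (g : S2) : ((g⁻¹ : S2) : M2).trace = (g : M2).trace := by
  rw [SL_inv_eq, trace_smul_add_smul]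
  ring

theorem exists_inverter [Fintype F] {g : S2} (ht : (g : M2).trace ^ 2 ≠ 4) :
    ∃ h : S2, h * g * h⁻¹ = g⁻¹ :=
  isConj_iff.mp (isConj_of_trace_eq (not_isScalarTwo_of_trace ht)
    (not_isScalarTwo_of_trace (by rwa [trace_inv])) (trace_inv g).symm (Or.inr ht))

theorem mem_normalizer_centralizer_iff {g h : S2} (ht : (g : M2).trace ^ 2 ≠ 4) :
    h ∈ Subgroup.normalizer ((Subgroup.centralizer ({g} : Set S2)) : Set S2) ↔
      h * g * h⁻¹ = g ∨ h * g * h⁻¹ = g⁻¹ := by
  constructor
  · intro hh
    refine eq_or_eq_inv_of_trace ht ((Subgroup.mem_normalizer_iff.mp hh g).mp ?_) (trace_conj g h)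
    rw [Subgroup.mem_centralizer_singleton_iff]
  · intro hh
    rw [Subgroup.mem_normalizer_iff]
    intro x
    have key : ∀ y : S2, y * g = g * y ↔ y * g⁻¹ = g⁻¹ * y := fun y =>
      (Commute.inv_right_iff (a := y) (b := g)).symm
    rw [Subgroup.mem_centralizer_singleton_iff, Subgroup.mem_centralizer_singleton_iff]
    have e1 : ∀ y : S2, y * g = g * y ↔ (h * y * h⁻¹) * (h * g * h⁻¹) = (h * g * h⁻¹) * (h * y * h⁻¹) := by
      intro y
      have : ∀ u v : S2, (h * u * h⁻¹) * (h * v * h⁻¹) = h * (u * v) * h⁻¹ := fun u v => by group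
      rw [this, this, mul_left_inj, mul_right_inj]
    rw [e1 x]
    rcases hh with e | e <;> rw [e]
    exact (key _).symm

theorem inverter_not_mem {g h : S2} (ht : (g : M2).trace ^ 2 ≠ 4) (hh : h * g * h⁻¹ = g⁻¹) :
    h ∉ Subgroup.centralizer ({g} : Set S2) := by
  intro hc
  rw [Subgroup.mem_centralizer_singleton_iff] at hc
  rw [hc, mul_inv_cancel_right] at hh
  exact inv_ne_self ht hh.symm

theorem inverter_sq {g h : S2} (ht : (g : M2).trace ^ 2 ≠ 4) (hh : h * g * h⁻¹ = g⁻¹) :
    h * h = -1 := by
  have hcomm : (h * h) * g = g * (h * h) := by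
    have e2 : h * g⁻¹ * h⁻¹ = g := by
      have := congrArg (·⁻¹) hh
      simpa [mul_assoc] using this
    calc h * h * g = h * (h * g * h⁻¹) * h⁻¹ * (h * h) := by group
      _ = g * (h * h) := by rw [hh, e2]
  have hs : (h : M2).trace = 0 := by
    by_contra hne
    apply inverter_not_mem ht hh
    rw [Subgroup.mem_centralizer_singleton_iff]
    refine Subtype.ext ?_
    have e : (h : M2) * (h : M2) * (g : M2) = (g : M2) * ((h : M2) * (h : M2)) := by
      simpa [Matrix.SpecialLinearGroup.coe_mul] using congrArg (fun z : S2 => (z : M2)) hcomm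
    rw [SL_sq_eq, sub_mul, mul_sub, one_mul, mul_one, Matrix.smul_mul, Matrix.mul_smul,
      sub_left_inj] at e
    simpa [Matrix.SpecialLinearGroup.coe_mul] using smul_right_injective _ hne e
  refine Subtype.ext ?_
  rw [Matrix.SpecialLinearGroup.coe_mul, SL_sq_eq, hs, zero_smul, zero_sub,
    Matrix.SpecialLinearGroup.coe_neg, Matrix.SpecialLinearGroup.coe_one]

theorem card_normalizer_centralizer [Fintype F] {g : S2} (ht : (g : M2).trace ^ 2 ≠ 4) :
    Nat.card (Subgroup.normalizer ((Subgroup.centralizer ({g} : Set S2)) : Set S2))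
      = 2 * Nat.card (Subgroup.centralizer ({g} : Set S2)) := by
  set C := Subgroup.centralizer ({g} : Set S2)
  set N := Subgroup.normalizer (C : Set S2)
  obtain ⟨h, hh⟩ := exists_inverter ht
  have hCN : C ≤ N := Subgroup.le_normalizer
  have hidx : (C.subgroupOf N).index = 2 := by
    rw [Subgroup.index_eq_two_iff]
    refine ⟨⟨h, (mem_normalizer_centralizer_iff ht).mpr (Or.inr hh)⟩, fun b => ?_⟩
    simp only [Subgroup.mem_subgroupOf, Subgroup.coe_mul]
    rcases (mem_normalizer_centralizer_iff ht).mp b.2 with hb | hb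
    · have hbc : (b : S2) ∈ C := by
        rw [Subgroup.mem_centralizer_singleton_iff, ← mul_inv_eq_iff_eq_mul, hb]
      refine Or.inr ⟨hbc, fun hbh => inverter_not_mem ht hh ?_⟩
      simpa using C.mul_mem (C.inv_mem hbc) hbh
    · refine Or.inl ⟨?_, fun hbc => inverter_not_mem ht hb hbc⟩
      rw [Subgroup.mem_centralizer_singleton_iff, ← mul_inv_eq_iff_eq_mul]
      have hb' : (b : S2) * g⁻¹ * (b : S2)⁻¹ = g := by
        have := congrArg (·⁻¹) hb
        simpa [mul_assoc] using this
      calc (b : S2) * h * g * ((b : S2) * h)⁻¹ = (b : S2) * (h * g * h⁻¹) * (b : S2)⁻¹ := by group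
        _ = g := by rw [hh, hb']
  rw [← Subgroup.card_mul_index (C.subgroupOf N), hidx,
    Nat.card_congr (Subgroup.subgroupOfEquivOfLe hCN).toEquiv, mul_comm]

end Torus

/-- For an odd prime r different from the characteristic, r-subgroups of SL_2 are cyclic. -/
theorem isCyclic_of_isPGroup [Finite F] (p : ℕ) [Fact p.Prime] [CharP F p] {r : ℕ} [Fact r.Prime]
    (hr : r ≠ 2) (hrp : r ≠ p) {R : Subgroup S2} (hR : IsPGroup r R) : IsCyclic R := by
  cases subsingleton_or_nontrivial R
  · infer_instance
  have := hR.center_nontrivial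
  obtain ⟨z, hz⟩ := exists_ne (1 : Subgroup.center R)
  obtain ⟨k, hk⟩ := IsPGroup.iff_orderOf.mp hR (z : R)
  have hord : orderOf ((z : R) : S2) = r ^ k := by rw [Subgroup.orderOf_coe, hk]
  have hz1 : ((z : R) : S2) ≠ 1 := fun e => hz (Subtype.ext (Subtype.ext e))
  have hk0 : k ≠ 0 := fun e => hz1 (orderOf_eq_one_iff.mp (by rw [hord, e, pow_zero]))
  have hns : ¬ IsScalarTwo (((z : R) : S2) : M2) := by
    intro hs
    rcases isScalarTwo_SL_iff.mp hs with e | e
    · exact hz1 e
    · have h2 : orderOf ((z : R) : S2) ∣ 2 := orderOf_dvd_of_pow_eq_one (by rw [e, neg_one_sq])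
      rw [hord] at h2
      have := (Nat.prime_dvd_prime_iff_eq Fact.out Nat.prime_two).mp
        ((dvd_pow_self r hk0).trans h2)
      exact hr this
  have hcop : (orderOf ((z : R) : S2)).Coprime p := by
    rw [hord]
    exact ((Nat.coprime_primes Fact.out Fact.out).mpr hrp).pow_left k
  have := isCyclic_centralizer (trace_sq_ne_four p hns hcop)
  have hle : R ≤ Subgroup.centralizer ({((z : R) : S2)} : Set S2) := by
    intro x hx
    rw [Subgroup.mem_centralizer_singleton_iff]
    exact congrArg Subtype.val (Subgroup.mem_center_iff.mp z.2 ⟨x, hx⟩)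
  exact isCyclic_of_injective (Subgroup.inclusion hle) (Subgroup.inclusion_injective hle)

end Cfsg.Agent.Linear
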