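import Cfsg.Agent.Linear.TwoTorus

/-!
SL_2: conjugacy classes, and the structure of torus normalisers.
-/

namespace Cfsg.Agent.Linear

open Matrix
open scoped Pointwise

variable {F : Type*} [Field F]

local notation "M2" => Matrix (Fin 2) (Fin 2) F
local notation "S2" => Matrix.SpecialLinearGroup (Fin 2) F

/-- The upper unitriangular element with entry b. -/
noncomputable def upSL (b : F) : S2 :=
  Matrix.SpecialLinearGroup.transvection (zero_ne_one (α := Fin 2)) b

/-- The companion element of trace t. -/
def compSL (t : F) : S2 := ⟨!![0, -1; 1, t], by simp [Matrix.det_fin_two_of]⟩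

theorem upSL_coe (b : F) : ((upSL b : S2) : M2) = !![1, b; 0, 1] := by
  apply ext_two <;> simp [upSL, Matrix.SpecialLinearGroup.transvection_coe]

theorem compSL_coe (t : F) : ((compSL t : S2) : M2) = !![0, -1; 1, t] := rfl

theorem trace_compSL (t : F) : ((compSL t : S2) : M2).trace = t := by
  simp [compSL_coe, Matrix.trace_fin_two]

theorem not_isScalarTwo_compSL (t : F) : ¬ IsScalarTwo ((compSL t : S2) : M2) := by
  simp [IsScalarTwo, compSL_coe]

theorem trace_upSL (b : F) : ((upSL b : S2) : M2).trace = 2 := by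
  simp [upSL_coe, Matrix.trace_fin_two]
  norm_num

theorem not_isScalarTwo_upSL {b : F} (hb : b ≠ 0) : ¬ IsScalarTwo ((upSL b : S2) : M2) := by
  simp [IsScalarTwo, upSL_coe, hb]

theorem exists_conj_upSL {g : S2} (hns : ¬ IsScalarTwo (g : M2)) (ht : (g : M2).trace = 2) :
    ∃ b : F, b ≠ 0 ∧ IsConj (upSL b) g := by
  have htr : (g : M2) 0 0 + (g : M2) 1 1 = 2 := by rw [← Matrix.trace_fin_two]; exact ht
  have hd := SL_det_two g
  by_cases h10 : (g : M2) 1 0 = 0
  · have h00 : (g : M2) 0 0 = 1 := by
      have : ((g : M2) 0 0 - 1) ^ 2 = 0 := by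
        rw [h10, mul_zero, sub_zero] at hd
        linear_combination (g : M2) 0 0 * htr - hd
      exact sub_eq_zero.mp (by simpa using this)
    have h11 : (g : M2) 1 1 = 1 := by linear_combination htr - h00
    refine ⟨(g : M2) 0 1, fun e => hns ⟨e, h10, h00.trans h11.symm⟩, ?_⟩
    rw [show upSL ((g : M2) 0 1) = g from
      SL_ext_two (by simp [upSL_coe, h00]) (by simp [upSL_coe]) (by simp [upSL_coe, h10])
        (by simp [upSL_coe, h11])]
  · refine ⟨-1 / (g : M2) 1 0, div_ne_zero (neg_ne_zero.mpr one_ne_zero) h10, ?_⟩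
    let P : S2 := ⟨!![(g : M2) 0 0 - 1, -1 / (g : M2) 1 0; (g : M2) 1 0, 0], by
      simp [Matrix.det_fin_two_of]
      field_simp⟩
    have hP : ((P : S2) : M2) = !![(g : M2) 0 0 - 1, -1 / (g : M2) 1 0; (g : M2) 1 0, 0] := rfl
    refine isConj_iff.mpr ⟨P, ?_⟩
    rw [mul_inv_eq_iff_eq_mul]
    refine Subtype.ext ?_
    rw [Matrix.SpecialLinearGroup.coe_mul, Matrix.SpecialLinearGroup.coe_mul, hP, upSL_coe]
    apply ext_two <;> simp [mul_two_apply]
    · linear_combination hd - (g : M2) 0 0 * htr
    · field_simp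
      ring
    · linear_combination -(g : M2) 1 0 * htr

theorem isConj_upSL_iff {b c : F} (hb : b ≠ 0) :
    IsConj (upSL b : S2) (upSL c) ↔ ∃ a : F, a ≠ 0 ∧ c = a ^ 2 * b := by
  constructor
  · intro h
    obtain ⟨P, hP⟩ := isConj_iff.mp h
    rw [mul_inv_eq_iff_eq_mul] at hP
    have e : (P : M2) * !![1, b; 0, 1] = !![1, c; 0, 1] * (P : M2) := by
      rw [← upSL_coe, ← upSL_coe, ← Matrix.SpecialLinearGroup.coe_mul, hP,
        Matrix.SpecialLinearGroup.coe_mul]
    have e01 := congrFun (congrFun e 0) 1
    have e11 := congrFun (congrFun e 1) 1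
    simp [mul_two_apply] at e01 e11
    have h10 : (P : M2) 1 0 = 0 := e11.resolve_right hb
    have hd := SL_det_two P
    rw [h10, mul_zero, sub_zero] at hd
    refine ⟨(P : M2) 0 0, fun h0 => by simp [h0] at hd, ?_⟩
    linear_combination -(P : M2) 0 0 * e01 - c * hd
  · rintro ⟨a, ha, rfl⟩
    refine isConj_iff.mpr ⟨Matrix.SpecialLinearGroup.diag2 a ha, ?_⟩
    rw [mul_inv_eq_iff_eq_mul]
    refine Subtype.ext ?_
    rw [Matrix.SpecialLinearGroup.coe_mul, Matrix.SpecialLinearGroup.coe_mul, upSL_coe, upSL_coe,
      Matrix.SpecialLinearGroup.diag2_coe' ha]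
    apply ext_two <;> simp [mul_two_apply]
    field_simp

theorem isConj_upSL_iff_isSquare {b c : F} (hb : b ≠ 0) (hc : c ≠ 0) :
    IsConj (upSL b : S2) (upSL c) ↔ IsSquare (b * c) := by
  rw [isConj_upSL_iff hb]
  constructor
  · rintro ⟨a, _, rfl⟩
    exact ⟨a * b, by ring⟩
  · rintro ⟨s, hs⟩
    have hs0 : s ≠ 0 := fun e => mul_ne_zero hb hc (by rw [hs, e, mul_zero])
    refine ⟨s / b, div_ne_zero hs0 hb, ?_⟩
    field_simp
    linear_combination hs

theorem card_centralizer_unipotent [Fintype F] {g : S2} (hns : ¬ IsScalarTwo (g : M2))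
    (ht : (g : M2).trace = 2) :
    Nat.card (Subgroup.centralizer ({g} : Set S2))
      = Nat.card {c : F // c ^ 2 = 1} * Fintype.card F := by
  rw [← Nat.card_eq_fintype_card (α := F), ← Nat.card_prod]
  symm
  refine Nat.card_congr (Equiv.ofBijective
    (fun x => ⟨⟨(x.1.1 - x.2) • (1 : M2) + x.2 • (g : M2), ?_⟩,
      (mem_centralizer_SL_two hns).mpr ⟨_, _, rfl⟩⟩) ⟨fun x y h => ?_, fun z => ?_⟩)
  · rw [det_smul_add_smul, g.2, ht]
    linear_combination x.1.2
  · have h' : (x.1.1 - x.2) • (1 : M2) + x.2 • (g : M2) = (y.1.1 - y.2) • (1 : M2) + y.2 • (g : M2) :=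
      congrArg (fun z : Subgroup.centralizer ({g} : Set S2) => ((z.1 : S2) : M2)) h
    obtain ⟨e1, e2⟩ := smul_add_smul_injective hns h'
    exact Prod.ext (Subtype.ext (by linear_combination e1 + e2)) e2
  · obtain ⟨a, b, hab⟩ := (mem_centralizer_SL_two hns).mp z.2
    have hd : ((z.1 : S2) : M2).det = 1 := z.1.2
    rw [hab, det_smul_add_smul, g.2, ht] at hd
    refine ⟨(⟨a + b, by linear_combination hd⟩, b), Subtype.ext (Subtype.ext ?_)⟩
    simp only [add_sub_cancel_right]
    exact hab.symm

theorem card_sq_eq_one_char_two (h2 : (2 : F) = 0) : Nat.card {c : F // c ^ 2 = 1} = 1 := by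
  have : ∀ c : F, c ^ 2 = 1 ↔ c = 1 := fun c => ⟨fun h => by
    have : (c - 1) ^ 2 = 0 := by linear_combination h + (1 - c) * h2
    exact sub_eq_zero.mp (by simpa using this), fun h => by simp [h]⟩
  rw [Nat.card_congr (Equiv.subtypeEquivRight this), Nat.card_unique]

theorem card_sq_eq_one_of_two_ne_zero (h2 : (2 : F) ≠ 0) : Nat.card {c : F // c ^ 2 = 1} = 2 := by
  classical
  have e : ∀ c : F, c ^ 2 = 1 ↔ c ∈ ({1, -1} : Finset F) := fun c => by
    simp [sq_eq_one_iff]
  rw [Nat.card_congr (Equiv.subtypeEquivRight e), Nat.card_eq_fintype_card, Fintype.card_coe,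
    Finset.card_pair]
  intro h
  exact h2 (by linear_combination h)

theorem card_carrier_mul_card_centralizer {G : Type*} [Group G] (g : G) :
    Nat.card (ConjClasses.mk g).carrier * Nat.card (Subgroup.centralizer ({g} : Set G)) = Nat.card G := by
  rw [← Subgroup.card_mul_index (MulAction.stabilizer (ConjAct G) g) |>.trans
      (Nat.card_congr ConjAct.ofConjAct.toEquiv), mul_comm (Nat.card (ConjClasses.mk g).carrier),
    ← ConjAct.orbit_eq_carrier_conjClasses, MulAction.index_stabilizer, ← Nat.card_coe_set_eq]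
  congr 1
  rw [Subgroup.centralizer_eq_comap_stabilizer]
  exact Nat.card_congr ((Equiv.subtypeEquiv ConjAct.toConjAct.toEquiv fun _ => Iff.rfl))

theorem carrier_unipotent [Fintype F] {g : S2} (hns : ¬ IsScalarTwo (g : M2))
    (ht : (g : M2).trace = 2) :
    Nat.card (ConjClasses.mk g).carrier * Nat.card {c : F // c ^ 2 = 1} = Fintype.card F ^ 2 - 1 := by
  have h := card_carrier_mul_card_centralizer g
  rw [card_centralizer_unipotent hns ht, card_SL_two, ← mul_assoc, mul_comm (Fintype.card F)] at h
  exact Nat.eq_of_mul_eq_mul_right Fintype.card_pos h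

/-- The class representatives of SL_2 in characteristic two. -/
theorem card_conjClasses_char_two [Fintype F] (h2 : (2 : F) = 0) :
    Nat.card (ConjClasses S2) = Fintype.card F + 1 := by
  rw [← Fintype.card_option, ← Nat.card_eq_fintype_card]
  symm
  refine Nat.card_congr (Equiv.ofBijective
    (fun x : Option F => ConjClasses.mk (x.elim (1 : S2) compSL)) ⟨?_, fun C => ?_⟩)
  · intro x y h
    rw [ConjClasses.mk_eq_mk_iff_isConj, isConj_iff] at h
    obtain ⟨c, hc⟩ := h
    rcases x with _ | s <;> rcases y with _ | t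
    · rfl
    · simp only [Option.elim_none, Option.elim_some, mul_one, mul_inv_cancel] at hc
      exact absurd (isScalarTwo_SL_iff.mpr (Or.inl hc.symm)) (not_isScalarTwo_compSL t)
    · simp only [Option.elim_none, Option.elim_some] at hc
      have : compSL s = (1 : S2) := by
        have := congrArg (fun z => c⁻¹ * z * c) hc
        simpa [mul_assoc] using this
      exact absurd (isScalarTwo_SL_iff.mpr (Or.inl this)) (not_isScalarTwo_compSL s)
    · have ht : ((c * compSL s * c⁻¹ : S2) : M2).trace = ((compSL t : S2) : M2).trace := by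
        simp only [Option.elim_some] at hc
        rw [hc]
      rw [trace_conj, trace_compSL, trace_compSL] at ht
      rw [ht]
  · obtain ⟨g, rfl⟩ := ConjClasses.mk_surjective C
    by_cases hs : IsScalarTwo (g : M2)
    · refine ⟨none, ?_⟩
      rcases isScalarTwo_SL_iff.mp hs with rfl | rfl
      · rfl
      · have e : (-1 : S2) = 1 := by
          have h1 : (-1 : F) = 1 := by linear_combination -h2
          exact SL_ext_two (by simp [h1]) (by simp) (by simp) (by simp [h1])
        simp [e]
    · exact ⟨some (g : M2).trace, ConjClasses.mk_eq_mk_iff_isConj.mpr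
        (isConj_of_trace_eq (not_isScalarTwo_compSL _) hs (trace_compSL _) (Or.inl h2))⟩

theorem isSquare_mul_of_not_isSquare [Fintype F] {a b : F} (ha : a ≠ 0) (hb : b ≠ 0)
    (h1 : ¬ IsSquare a) (h2 : ¬ IsSquare b) : IsSquare (a * b) := by
  classical
  rw [← quadraticChar_one_iff_isSquare (mul_ne_zero ha hb), map_mul,
    quadraticChar_neg_one_iff_not_isSquare.mpr h1, quadraticChar_neg_one_iff_not_isSquare.mpr h2]
  norm_num

theorem isConj_neg {g h : S2} (hc : IsConj g h) : IsConj (-g) (-h) := by
  obtain ⟨c, hc⟩ := isConj_iff.mp hc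
  exact isConj_iff.mpr ⟨c, by rw [← hc]; simp⟩

/-- SL_2(q), q odd, has q+4 classes. -/
theorem card_conjClasses_odd [Fintype F] (h2 : (2 : F) ≠ 0) :
    Nat.card (ConjClasses S2) = Fintype.card F + 4 := by
  classical
  have hchar : ringChar F ≠ 2 := fun h => by
    have : CharP F 2 := h ▸ ringChar.charP F
    exact h2 CharTwo.two_eq_zero
  obtain ⟨ν, hν⟩ := FiniteField.exists_nonsquare hchar
  have hν0 : ν ≠ 0 := fun h => hν (h ▸ IsSquare.zero)
  let r : Fin 3 → S2 := ![1, upSL 1, upSL ν]
  let f : {t : F // t ^ 2 ≠ 4} ⊕ (Fin 2 × Fin 3) → S2 :=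
    Sum.elim (fun t => compSL t.1) (fun x => if x.1 = 0 then r x.2 else - r x.2)
  have h4 : (4 : F) ≠ 0 := by
    rw [show (4 : F) = 2 * 2 by norm_num]
    exact mul_ne_zero h2 h2
  have hrt : ∀ i, (r i : M2).trace = 2 := by
    intro i
    fin_cases i <;> first | exact trace_upSL _ | (simp [r, Matrix.trace_fin_two] <;> norm_num)
  have hr : ∀ i j, IsConj (r i) (r j) → i = j := by
    have n1 : ¬ IsConj (upSL 1 : S2) (upSL ν) := fun h => hν (by
      simpa using (isConj_upSL_iff_isSquare one_ne_zero hν0).mp h)
    have one_iff : ∀ x : S2, IsConj 1 x → IsScalarTwo (x : M2) := fun x h => by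
      obtain ⟨c, hc⟩ := isConj_iff.mp h
      rw [mul_one, mul_inv_cancel] at hc
      exact isScalarTwo_SL_iff.mpr (Or.inl hc.symm)
    intro i j h
    fin_cases i <;> fin_cases j
    · rfl
    · exact absurd (one_iff _ h) (not_isScalarTwo_upSL one_ne_zero)
    · exact absurd (one_iff _ h) (not_isScalarTwo_upSL hν0)
    · exact absurd (one_iff _ h.symm) (not_isScalarTwo_upSL one_ne_zero)
    · rfl
    · exact absurd h n1
    · exact absurd (one_iff _ h.symm) (not_isScalarTwo_upSL hν0)
    · exact absurd h.symm n1
    · rfl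
  have htr : ∀ x : Fin 2 × Fin 3, ((f (Sum.inr x) : S2) : M2).trace = if x.1 = 0 then 2 else -2 := by
    intro x
    by_cases h : x.1 = 0
    · simp [f, h, hrt]
    · simp [f, h, hrt]
  have hinj : Function.Injective fun x => ConjClasses.mk (f x) := by
    intro x y h
    have hc := ConjClasses.mk_eq_mk_iff_isConj.mp h
    have ht : (f x : M2).trace = (f y : M2).trace := by
      obtain ⟨c, hc⟩ := isConj_iff.mp hc
      rw [← hc, trace_conj]
    rcases x with s | ⟨a, i⟩ <;> rcases y with t | ⟨b, j⟩
    · simp only [f, Sum.elim_inl, trace_compSL] at ht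
      exact congrArg Sum.inl (Subtype.ext ht)
    · exfalso
      rw [htr] at ht
      simp only [f, Sum.elim_inl, trace_compSL] at ht
      refine s.2 ?_
      rw [ht]
      split_ifs <;> norm_num
    · exfalso
      rw [htr] at ht
      simp only [f, Sum.elim_inl, trace_compSL] at ht
      refine t.2 ?_
      rw [← ht]
      split_ifs <;> norm_num
    · rw [htr, htr] at ht
      have hne : (2 : F) ≠ -2 := fun e => h4 (by linear_combination e)
      have hab : a = b := by
        fin_cases a <;> fin_cases b <;> first | rfl | (simp at ht; first | exact absurd ht hne | exact absurd ht.symm hne)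
      subst hab
      by_cases ha : a = 0
      · simp only [f, Sum.elim_inr, ha, if_true] at hc ⊢
        rw [hr i j hc]
      · simp only [f, Sum.elim_inr, ha, if_false] at hc ⊢
        have := isConj_neg hc
        rw [neg_neg, neg_neg] at this
        rw [hr i j this]
  have hsurj : Function.Surjective fun x => ConjClasses.mk (f x) := by
    intro C
    obtain ⟨g, rfl⟩ := ConjClasses.mk_surjective C
    have hu : ∀ g : S2, ¬ IsScalarTwo (g : M2) → (g : M2).trace = 2 →
        ∃ i, IsConj (r i) g := by
      intro g hns ht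
      obtain ⟨b, hb, hbg⟩ := exists_conj_upSL hns ht
      by_cases hsq : IsSquare b
      · exact ⟨1, IsConj.trans ((isConj_upSL_iff_isSquare one_ne_zero hb).mpr (by simpa using hsq)) hbg⟩
      · refine ⟨2, IsConj.trans ((isConj_upSL_iff_isSquare hν0 hb).mpr ?_) hbg⟩
        exact isSquare_mul_of_not_isSquare hν0 hb hν hsq
    by_cases hs : IsScalarTwo (g : M2)
    · rcases isScalarTwo_SL_iff.mp hs with rfl | rfl
      · exact ⟨Sum.inr (0, 0), by simp [f, r]⟩
      · exact ⟨Sum.inr (1, 0), by simp [f, r]⟩
    · by_cases ht : (g : M2).trace ^ 2 = 4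
      · have : (g : M2).trace ^ 2 = 2 ^ 2 := by rw [ht]; norm_num
        rcases eq_or_eq_neg_of_sq_eq_sq _ _ this with h | h
        · obtain ⟨i, hi⟩ := hu g hs h
          exact ⟨Sum.inr (0, i), ConjClasses.mk_eq_mk_iff_isConj.mpr (by simpa [f] using hi)⟩
        · obtain ⟨i, hi⟩ := hu (-g) (fun hsn => hs (by simpa [IsScalarTwo] using hsn)) (by simp [h])
          exact ⟨Sum.inr (1, i), ConjClasses.mk_eq_mk_iff_isConj.mpr
            (by simpa [f] using isConj_neg hi)⟩
      · exact ⟨Sum.inl ⟨_, ht⟩, ConjClasses.mk_eq_mk_iff_isConj.mpr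
          (show IsConj (compSL _) g from isConj_of_trace_eq (not_isScalarTwo_compSL _) hs (trace_compSL _)
            (Or.inr (by rw [trace_compSL]; exact ht)))⟩
  rw [← Nat.card_congr (Equiv.ofBijective _ ⟨hinj, hsurj⟩), Nat.card_sum, Nat.card_eq_fintype_card,
    Nat.card_eq_fintype_card, Fintype.card_subtype_compl, Fintype.card_prod, Fintype.card_fin,
    Fintype.card_fin]
  have : Fintype.card {t : F // t ^ 2 = 4} = 2 := by
    rw [← Nat.card_eq_fintype_card]
    refine (Nat.card_congr (α := {t : F // t ^ 2 = 4}) (β := {c : F // c ^ 2 = 1})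
      { toFun := fun t => ⟨t.1 / 2, by field_simp; linear_combination t.2⟩
        invFun := fun c => ⟨2 * c.1, by linear_combination 4 * c.2⟩
        left_inv := fun t => Subtype.ext (show 2 * (t.1 / 2) = t.1 by field_simp)
        right_inv := fun c => Subtype.ext (show 2 * c.1 / 2 = c.1 by field_simp) }).trans (card_sq_eq_one_of_two_ne_zero h2)
  have h5 : 2 ≤ Fintype.card F := Fintype.one_lt_card
  omega

theorem inverter_inverts {g h : S2} (ht : (g : M2).trace ^ 2 ≠ 4) (hh : h * g * h⁻¹ = g⁻¹) {x : S2}
    (hx : x ∈ Subgroup.centralizer ({g} : Set S2)) : h * x * h⁻¹ = x⁻¹ := by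
  obtain ⟨a, b, hab⟩ := (mem_centralizer_SL_two (not_isScalarTwo_of_trace ht)).mp hx
  have hg : (h : M2) * (g : M2) = ((g⁻¹ : S2) : M2) * (h : M2) := by
    rw [← Matrix.SpecialLinearGroup.coe_mul, ← Matrix.SpecialLinearGroup.coe_mul, ← hh,
      inv_mul_cancel_right]
  rw [mul_inv_eq_iff_eq_mul]
  refine Subtype.ext ?_
  rw [Matrix.SpecialLinearGroup.coe_mul, Matrix.SpecialLinearGroup.coe_mul, SL_inv_eq x, hab,
    trace_smul_add_smul]
  simp only [mul_add, add_mul, Matrix.mul_smul, Matrix.smul_mul, hg, SL_inv_eq, mul_one, one_mul,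
    smul_add, smul_smul]
  module

theorem neg_one_mem_centralizer (g : S2) : (-1 : S2) ∈ Subgroup.centralizer ({g} : Set S2) := by
  rw [Subgroup.mem_centralizer_singleton_iff]
  simp

/-- The normaliser of a torus, q odd, has (|C|+6)/2 classes. -/
theorem card_conjClasses_normalizer [Fintype F] (h2 : (2 : F) ≠ 0) {g : S2}
    (ht : (g : M2).trace ^ 2 ≠ 4) :
    2 * Nat.card (ConjClasses (Subgroup.normalizer ((Subgroup.centralizer ({g} : Set S2)) : Set S2)))
      = Nat.card (Subgroup.centralizer ({g} : Set S2)) + 6 := by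
  classical
  set C := Subgroup.centralizer ({g} : Set S2) with hC
  set N := Subgroup.normalizer (C : Set S2) with hN
  have hns := not_isScalarTwo_of_trace ht
  obtain ⟨h₀, hh₀⟩ := exists_inverter ht
  have hinv : ∀ k ∈ N, k ∉ C → ∀ x ∈ C, k * x * k⁻¹ = x⁻¹ := by
    intro k hk hkC x hx
    rcases (mem_normalizer_centralizer_iff ht).mp hk with e | e
    · exact absurd (Subgroup.mem_centralizer_singleton_iff.mpr (mul_inv_eq_iff_eq_mul.mp e)) hkC
    · exact inverter_inverts ht e hx
  have hsq : ∀ x : S2, x⁻¹ = x ↔ x = 1 ∨ x = -1 := fun x =>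
    ⟨fun e => eq_one_or_neg_one_of_sq h2 (by nth_rewrite 1 [← e]; exact inv_mul_cancel x),
      fun e => by
      rcases e with rfl | rfl
      · exact inv_one
      · exact inv_eq_of_mul_eq_one_right (by simp)⟩
  let CN : Finset N := Finset.univ.filter fun x => (x : S2) ∈ C
  have hCN : CN.card = Nat.card C := by
    rw [← Fintype.card_subtype, ← Nat.card_eq_fintype_card]
    exact Nat.card_congr
      { toFun := fun x => ⟨(x.1 : S2), x.2⟩
        invFun := fun x => ⟨⟨x.1, Subgroup.le_normalizer x.2⟩, x.2⟩
        left_inv := fun _ => rfl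
        right_inv := fun _ => rfl }
  let Z : Finset N := Finset.univ.filter fun x => (x : S2) = 1 ∨ (x : S2) = -1
  have hnegN : (-1 : S2) ∈ N := Subgroup.le_normalizer (neg_one_mem_centralizer g)
  have hne : (1 : S2) ≠ -1 := fun e => h2 (by
    have := congrArg (fun z : S2 => (z : M2) 0 0) e
    simp at this
    linear_combination this)
  have hZ : Z.card = 2 := by
    have : Z = {1, ⟨-1, hnegN⟩} := by
      ext x
      simp only [Z, Finset.mem_filter, Finset.mem_univ, true_and, Finset.mem_insert,
        Finset.mem_singleton, Subtype.ext_iff (a1 := x), Subgroup.coe_one]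
    rw [this, Finset.card_pair]
    exact fun e => hne (congrArg Subtype.val e)
  have hNcard : Fintype.card N = 2 * Nat.card C := by
    rw [← Nat.card_eq_fintype_card]
    exact card_normalizer_centralizer ht
  have key : ∀ x : N, (Finset.univ.filter fun y : N => Commute x y).card
      = if x ∈ Z then 2 * Nat.card C else if x ∈ CN then Nat.card C else 4 := by
    intro x
    split_ifs with hz hc
    · have : (Finset.univ.filter fun y : N => Commute x y) = Finset.univ := by
        ext y
        simp only [Finset.mem_filter, Finset.mem_univ, true_and, iff_true]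
        simp only [Z, Finset.mem_filter, Finset.mem_univ, true_and] at hz
        refine Subtype.ext ?_
        rcases hz with e | e <;> simp [e]
      rw [this, Finset.card_univ, hNcard]
    · have : (Finset.univ.filter fun y : N => Commute x y) = CN := by
        ext y
        simp only [Finset.mem_filter, Finset.mem_univ, true_and, CN] at hc ⊢
        constructor
        · intro hy
          by_contra hyC
          refine hz ?_
          simp only [Z, Finset.mem_filter, Finset.mem_univ, true_and]
          refine (hsq _).mp ?_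
          rw [← hinv _ y.2 hyC _ hc]
          have := congrArg Subtype.val hy.eq
          simp only [Subgroup.coe_mul] at this
          rw [← this, mul_inv_cancel_right]
        · intro hy
          exact Subtype.ext (centralizer_comm hns hc hy)
      rw [this, hCN]
    · simp only [CN, Finset.mem_filter, Finset.mem_univ, true_and] at hc
      have : (Finset.univ.filter fun y : N => Commute x y) = Z ∪ Z.image (fun z => z * x) := by
        ext y
        simp only [Finset.mem_filter, Finset.mem_univ, true_and, Finset.mem_union, Finset.mem_image, Z]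
        constructor
        · intro hy
          have hy' : (x : S2) * (y : S2) = (y : S2) * (x : S2) := congrArg Subtype.val hy.eq
          by_cases hyC : (y : S2) ∈ C
          · left
            refine (hsq _).mp ?_
            rw [← hinv _ x.2 hc _ hyC, hy', mul_inv_cancel_right]
          · right
            have hyx : (y : S2) * (x : S2)⁻¹ ∈ C := by
              rw [hC, Subgroup.mem_centralizer_singleton_iff, ← mul_inv_eq_iff_eq_mul]
              have e1 : (x : S2) * g * (x : S2)⁻¹ = g⁻¹ :=
                hinv _ x.2 hc g (Subgroup.mem_centralizer_singleton_iff.mpr rfl)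
              have e2 : (y : S2) * g * (y : S2)⁻¹ = g⁻¹ :=
                hinv _ y.2 hyC g (Subgroup.mem_centralizer_singleton_iff.mpr rfl)
              have e3 : (x : S2)⁻¹ * g * (x : S2) = g⁻¹ := by
                have := congrArg (fun z => ((x : S2)⁻¹ * z * (x : S2))⁻¹) e1
                simpa [mul_assoc] using this.symm
              calc (y : S2) * (x : S2)⁻¹ * g * ((y : S2) * (x : S2)⁻¹)⁻¹
                    = (y : S2) * ((x : S2)⁻¹ * g * (x : S2)) * (y : S2)⁻¹ := by group
                _ = ((y : S2) * g * (y : S2)⁻¹)⁻¹ := by rw [e3]; group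
                _ = g := by rw [e2, inv_inv]
            refine ⟨y * x⁻¹, (hsq _).mp ?_, by simp⟩
            simp only [Subgroup.coe_mul, Subgroup.coe_inv]
            rw [← hinv _ x.2 hc _ hyx]
            simp [← mul_assoc, hy']
        · rintro (hy | ⟨z, hz', rfl⟩)
          · refine Subtype.ext ?_
            rcases hy with e | e <;> simp [e]
          · refine Subtype.ext ?_
            rcases hz' with e | e <;> simp [e]
      rw [this, Finset.card_union_of_disjoint, Finset.card_image_of_injective _
        (mul_left_injective x), hZ]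
      rw [Finset.disjoint_left]
      intro y hy hy'
      simp only [Z, Finset.mem_filter, Finset.mem_univ, true_and, Finset.mem_image] at hy hy'
      obtain ⟨z, hz', rfl⟩ := hy'
      have hmem : ∀ w : S2, (w = 1 ∨ w = -1) → w ∈ C := by
        rintro w (rfl | rfl)
        · exact C.one_mem
        · exact neg_one_mem_centralizer g
      apply hc
      have := C.mul_mem (C.inv_mem (hmem _ hz')) (hmem _ hy)
      simpa using this
  have hsum : Fintype.card {p : N × N // Commute p.1 p.2}
      = ∑ x : N, (Finset.univ.filter fun y : N => Commute x y).card := by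
    rw [Fintype.card_subtype, Finset.card_filter, Fintype.sum_prod_type]
    exact Finset.sum_congr rfl fun x _ => (Finset.card_filter _ _).symm
  have hsub : Z ⊆ CN := by
    intro x hx
    simp only [Z, CN, Finset.mem_filter, Finset.mem_univ, true_and] at hx ⊢
    rcases hx with e | e <;> rw [e]
    · exact C.one_mem
    · exact neg_one_mem_centralizer g
  have htot := card_comm_eq_card_conjClasses_mul_card N
  rw [Nat.card_eq_fintype_card, hsum, Finset.sum_congr rfl fun x _ => key x, Finset.sum_ite,
    Finset.sum_ite, Finset.sum_const, Finset.sum_const, Finset.sum_const, smul_eq_mul, smul_eq_mul,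
    smul_eq_mul, Nat.card_eq_fintype_card (α := N), hNcard] at htot
  have c1 : (Finset.univ.filter fun x : N => x ∈ Z).card = 2 := by simpa using hZ
  have c2 : ((Finset.univ.filter fun x : N => x ∉ Z).filter fun x => x ∈ CN).card
      = Nat.card C - 2 := by
    rw [show ((Finset.univ.filter fun x : N => x ∉ Z).filter fun x => x ∈ CN) = CN \ Z by
      ext; simp [and_comm], Finset.card_sdiff_of_subset hsub, hCN, hZ]
  have c3 : ((Finset.univ.filter fun x : N => x ∉ Z).filter fun x => x ∉ CN).card
      = 2 * Nat.card C - Nat.card C := by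
    rw [show ((Finset.univ.filter fun x : N => x ∉ Z).filter fun x => x ∉ CN) = Finset.univ \ CN by
      ext x; simp only [Finset.mem_filter, Finset.mem_univ, true_and, Finset.mem_sdiff]
      exact ⟨fun h => h.2, fun h => ⟨fun hz => h (hsub hz), h⟩⟩,
      Finset.card_sdiff_of_subset (Finset.subset_univ _), Finset.card_univ, hNcard, hCN]
  rw [c1, c2, c3] at htot
  have hm : 2 ≤ Nat.card C := by
    have := Finset.card_le_card hsub
    omega
  obtain ⟨k, hk⟩ : ∃ k, Nat.card C = k + 2 := ⟨Nat.card C - 2, by omega⟩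
  rw [hk, Nat.add_sub_cancel, show 2 * (k + 2) - (k + 2) = k + 2 by omega] at htot
  have e : (k + 2) * (k + 2 + 6) = (k + 2) * (2 * Nat.card (ConjClasses N)) := by
    nlinarith [htot]
  rw [hk]
  exact (Nat.eq_of_mul_eq_mul_left (by omega) e).symm

end Cfsg.Agent.Linear
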