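import Cfsg.Agent.H53.SLApp
import Cfsg.Agent.CharInduce.Ops
import Cfsg.Prelude.Def_DegreeGraph

/-!
Degrees of the irreducible characters of SL₂ and PSL₂, and their degree graphs.
-/

set_option autoImplicit false
set_option linter.unusedSectionVars false

namespace Cfsg.Agent.Linear.SLDegrees

open Matrix Finset Cfsg.Agent.Linear

theorem charDegree_eq {G : Type*} [Group G] {χ : G → ℂ} {d : ℕ} (h : χ 1 = (d : ℂ)) :
    Cfsg.charDegree χ = d := by
  rw [Cfsg.charDegree, h, Complex.natCast_re, Nat.floor_natCast]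

theorem one_eq_charDegree {G : Type*} [Group G] [Finite G] (χ : Cfsg.IrrCharacter G) :
    (χ : G → ℂ) 1 = (Cfsg.charDegree (χ : G → ℂ) : ℂ) := by
  obtain ⟨d, -, hd⟩ := CharBasic.IsIrr.exists_degree χ.2
  rw [charDegree_eq hd, hd]

theorem charDegrees_subset_of_surjective {G H : Type*} [Group G] [Group H] [Finite G] (f : G →* H)
    (hf : Function.Surjective f) : Cfsg.charDegrees H ⊆ Cfsg.charDegrees G := by
  rintro d ⟨χ, rfl⟩
  refine ⟨⟨(χ : H → ℂ) ∘ f, CharInduce.IsIrr.comp χ.2 f hf⟩, ?_⟩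
  simp [Cfsg.charDegree]

theorem charDegrees_congr {G H : Type*} [Group G] [Group H] [Finite G] [Finite H] (e : G ≃* H) :
    Cfsg.charDegrees G = Cfsg.charDegrees H :=
  subset_antisymm (charDegrees_subset_of_surjective e.symm.toMonoidHom e.symm.surjective)
    (charDegrees_subset_of_surjective e.toMonoidHom e.surjective)

variable {F : Type*} [Field F] [Fintype F] [DecidableEq F]

local notation "M2" => Matrix (Fin 2) (Fin 2) F
local notation "S2" => Matrix.SpecialLinearGroup (Fin 2) F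
local notation "P2" => Matrix.ProjectiveSpecialLinearGroup (Fin 2) F

/-- The degrees that can occur. -/
theorem degree_cases {d : ℕ} (h : d ∈ Cfsg.charDegrees S2) :
    d = 1 ∨ d = Fintype.card F ∨ d = Fintype.card F + 1 ∨ d + 1 = Fintype.card F ∨
      ((2 : F) ≠ 0 ∧ (2 * d = Fintype.card F + 1 ∨ 2 * d + 1 = Fintype.card F)) := by
  classical
  obtain ⟨χ, rfl⟩ := h
  by_cases h2 : (2 : F) = 0
  · obtain ⟨d, hd, hc⟩ := H53.sl_cases_even_nat h2 χ.2
    rw [charDegree_eq hd]
    rcases hc with ⟨-, e⟩ | ⟨-, e⟩ | ⟨-, e⟩ | ⟨-, e⟩ <;> omega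
  · obtain ⟨d, hd, hc⟩ := H53.sl_cases_odd_nat h2 χ.2
    rw [charDegree_eq hd]
    rcases hc with ⟨-, e⟩ | ⟨-, e⟩ | ⟨-, e⟩ | ⟨-, e⟩ | ⟨-, e⟩ | ⟨-, e⟩
    · exact Or.inl e
    · exact Or.inr (Or.inl e)
    · exact Or.inr (Or.inr (Or.inl e))
    · exact Or.inr (Or.inr (Or.inr (Or.inr ⟨h2, Or.inl e⟩)))
    · exact Or.inr (Or.inr (Or.inr (Or.inr ⟨h2, Or.inr e⟩)))
    · exact Or.inr (Or.inr (Or.inr (Or.inl e)))

theorem charDegrees_PSL_subset : Cfsg.charDegrees P2 ⊆ Cfsg.charDegrees S2 :=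
  charDegrees_subset_of_surjective (QuotientGroup.mk' (Subgroup.center S2))
    (QuotientGroup.mk'_surjective _)

/-- A character with the same value at -1 and 1 gives one of the projective group. -/
theorem mem_charDegrees_PSL {χ : S2 → ℂ} (hχ : Cfsg.IsIrrCharacter S2 χ) (h : χ (-1) = χ 1) {d : ℕ}
    (hd : χ 1 = (d : ℂ)) : d ∈ Cfsg.charDegrees P2 := by
  obtain ⟨ψ, -, hval, hirr⟩ := CharInduce.IsChar.exists_deflate (CharBasic.IsIrr.isCharacter hχ)
    (Subgroup.center S2) (fun n hn => by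
      rcases mem_center_SL_two.mp hn with rfl | rfl
      · rfl
      · exact h)
  exact ⟨⟨ψ, hirr hχ⟩, charDegree_eq (by rw [← hd, hval 1]; rfl)⟩

theorem sprin_neg_one (α : MulChar F ℂ) :
    H53.sprin α (-1 : S2) = ((Fintype.card F : ℂ) + 1) * α (-1) := by
  classical
  rw [H53.sprin_upper α (g := (-1 : S2)) (by simp)]
  simp
  ring

theorem stS_neg_one : H53.stS (-1 : S2) = (Fintype.card F : ℂ) := by
  rw [H53.stS, sprin_neg_one, MulChar.one_apply (isUnit_iff_ne_zero.mpr (neg_ne_zero.mpr one_ne_zero))]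
  ring

theorem q_mem_PSL : Fintype.card F ∈ Cfsg.charDegrees P2 := by
  classical
  exact mem_charDegrees_PSL H53.isIrrCharacter_stS (by rw [stS_neg_one, H53.stS_one]) H53.stS_one

theorem exists_mulChar_generator : ∃ g : MulChar F ℂ, orderOf g = Fintype.card F - 1 := by
  classical
  obtain ⟨e⟩ := MulChar.mulEquiv_units F ℂ
  obtain ⟨x, hx⟩ := IsCyclic.exists_generator (α := Fˣ)
  exact ⟨e.symm x, by
    rw [MulEquiv.orderOf_eq, orderOf_eq_card_of_forall_mem_zpowers hx, Nat.card_units,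
      Nat.card_eq_fintype_card]⟩

theorem succ_mem_PSL (hq : 4 ≤ Fintype.card F) (h5 : Fintype.card F ≠ 5) :
    Fintype.card F + 1 ∈ Cfsg.charDegrees P2 := by
  classical
  obtain ⟨g, hg⟩ := exists_mulChar_generator (F := F)
  obtain ⟨α, hα, hα1⟩ : ∃ α : MulChar F ℂ, α ^ 2 ≠ 1 ∧ α (-1) = 1 := by
    by_cases h2 : (2 : F) = 0
    · refine ⟨g, fun h => ?_, ?_⟩
      · have := Nat.le_of_dvd two_pos (hg ▸ orderOf_dvd_of_pow_eq_one h)
        omega
      · rw [show (-1 : F) = 1 by linear_combination -h2, map_one]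
    · refine ⟨g ^ 2, fun h => ?_, ?_⟩
      · rw [← pow_mul] at h
        have hd := hg ▸ orderOf_dvd_of_pow_eq_one h
        have := Nat.le_of_dvd (by norm_num) hd
        obtain ⟨k, hk⟩ := Nat.odd_iff.mpr (FiniteField.odd_card_of_char_ne_two (H53.ringChar_ne_two h2))
        omega
      · rw [MulChar.pow_apply' g two_ne_zero, ← map_pow, neg_one_sq, map_one]
  exact mem_charDegrees_PSL ((H53.isIrrCharacter_sprin_iff α).mpr hα)
    (by rw [sprin_neg_one, hα1, mul_one, H53.sprin_one]) (by rw [H53.sprin_one, Nat.cast_add, Nat.cast_one])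

theorem pred_mem_PSL_even (h2 : (2 : F) = 0) :
    Fintype.card F - 1 ∈ Cfsg.charDegrees P2 := by
  classical
  have hcount := H53.card_cusp_even (F := F) h2
  have hne : (-1 : S2) = 1 := by
    apply SL_ext_two <;> simp <;> linear_combination -h2
  obtain ⟨⟨χ, hχ⟩, hc⟩ : ∃ χ : Cfsg.IrrCharacter S2, H53.IsCuspS (χ : S2 → ℂ) := by
    by_contra hno
    have : IsEmpty {χ : Cfsg.IrrCharacter S2 // H53.IsCuspS (χ : S2 → ℂ)} :=
      ⟨fun x => hno ⟨x.1, x.2⟩⟩
    simp only [Nat.card_of_isEmpty] at hcount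
    have := Fintype.one_lt_card (α := F)
    omega
  have hc' : H53.IsCuspS χ := hc
  refine mem_charDegrees_PSL hχ (by rw [hne]) ?_
  rw [(hc'.even_case hχ h2).1, Nat.cast_sub Fintype.card_pos, Nat.cast_one]

theorem apply_neg_one_cases (χ : Cfsg.IrrCharacter S2) :
    (χ : S2 → ℂ) (-1) = (χ : S2 → ℂ) 1 ∨ (χ : S2 → ℂ) (-1) = -(χ : S2 → ℂ) 1 := by
  obtain ⟨n, ρ, hρ, e⟩ := χ.2
  obtain ⟨ω, hω⟩ := CharBasic.schur_scalar ρ (ρ (-1)) fun g => by
    rw [← map_mul, ← map_mul]
    congr 1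
    simp
  have h1 : ω * ω = 1 := by
    have hsq : ρ (-1) * ρ (-1) = 1 := by rw [← map_mul, neg_mul_neg, one_mul, map_one]
    have ht := congrArg (LinearMap.trace ℂ _) hsq
    rw [hω] at ht
    simp [smul_smul, Module.End.mul_eq_comp, LinearMap.trace_id] at ht
    exact (mul_left_eq_self₀.mp ht).resolve_right fun h0 => CharBasic.IsIrr.one_ne_zero χ.2 (by
      rw [← e, Representation.char_one]; simpa using h0)
  have hv : (χ : S2 → ℂ) (-1) = ω * (χ : S2 → ℂ) 1 := by
    rw [← e, Representation.character, hω]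
    simp [Representation.char_one]
  rcases mul_self_eq_one_iff.mp h1 with h | h
  · exact Or.inl (by rw [hv, h, one_mul])
  · exact Or.inr (by rw [hv, h, neg_one_mul])

theorem sum_degree_mul_neg_one (h2 : (2 : F) ≠ 0) :
    ∑ χ : Cfsg.IrrCharacter S2, (χ : S2 → ℂ) 1 * (starRingEnd ℂ) ((χ : S2 → ℂ) (-1)) = 0 := by
  refine CharBasic.second_orthogonality_not_isConj ?_
  intro h
  rw [isConj_one_right] at h
  exact h2 (by
    have := congrArg (fun z : S2 => (z : M2) 0 0) h
    simp at this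
    linear_combination -this)

theorem pred_mem_PSL_odd (h2 : (2 : F) ≠ 0) (hq : 7 ≤ Fintype.card F) :
    Fintype.card F - 1 ∈ Cfsg.charDegrees P2 := by
  classical
  have := Fintype.ofFinite (MulChar F ℂ)
  by_contra hno
  set q := Fintype.card F with hqdef
  obtain ⟨ε, hε, hε1⟩ := H53.exists_mulChar_sq (F := F) h2
  let P : Cfsg.IrrCharacter S2 → Prop := fun χ => (χ : S2 → ℂ) (-1) = (χ : S2 → ℂ) 1
  -- the even characters carry half of the order
  have hpm : ∀ χ : Cfsg.IrrCharacter S2,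
      (χ : S2 → ℂ) (-1) = (χ : S2 → ℂ) 1 ∨ (χ : S2 → ℂ) (-1) = -(χ : S2 → ℂ) 1 := fun χ => by
    exact apply_neg_one_cases χ
  have hhalf : 2 * ∑ χ ∈ Finset.univ.filter P, Cfsg.charDegree (χ : S2 → ℂ) ^ 2 = Nat.card S2 := by
    apply Nat.cast_injective (R := ℂ)
    push_cast
    rw [← CharBasic.sum_sq_degree, Finset.sum_filter, Finset.mul_sum]
    have hz := sum_degree_mul_neg_one (F := F) h2
    rw [show (∑ χ : Cfsg.IrrCharacter S2, (χ : S2 → ℂ) 1 ^ 2) = ∑ χ : Cfsg.IrrCharacter S2,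
      ((χ : S2 → ℂ) 1 ^ 2 + (χ : S2 → ℂ) 1 * (starRingEnd ℂ) ((χ : S2 → ℂ) (-1))) by
      rw [Finset.sum_add_distrib, hz, add_zero]]
    refine Finset.sum_congr rfl fun χ _ => ?_
    rcases hpm χ with e | e
    · rw [if_pos e, e, one_eq_charDegree χ, Complex.conj_natCast]
      ring
    · rw [if_neg (fun e' => CharBasic.IsIrr.one_ne_zero χ.2 (by
        linear_combination (1 / 2 : ℂ) * (e - e'))), e, one_eq_charDegree χ, map_neg, Complex.conj_natCast]
      ring
  let one' : Cfsg.IrrCharacter S2 := ⟨_, CharBasic.isIrrCharacter_one⟩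
  let st' : Cfsg.IrrCharacter S2 := ⟨_, H53.isIrrCharacter_stS⟩
  let G := Finset.univ.filter (fun χ : Cfsg.IrrCharacter S2 =>
    ∃ α : MulChar F ℂ, α ^ 2 ≠ 1 ∧ α (-1) = 1 ∧ (χ : S2 → ℂ) = H53.sprin α)
  let Hh := Finset.univ.filter (fun χ : Cfsg.IrrCharacter S2 => H53.IsHalf ε (χ : S2 → ℂ))
  let C := Finset.univ.filter (fun χ : Cfsg.IrrCharacter S2 =>
    H53.IsCuspS (χ : S2 → ℂ) ∧ 2 * (χ : S2 → ℂ) 1 = (q : ℂ) - 1)
  have hHh : Hh.card = 2 := by
    have := H53.card_half (F := F) hε hε1 h2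
    rwa [Nat.card_eq_fintype_card, Fintype.card_subtype] at this
  have hC : C.card = 2 := by
    have := (H53.card_cusp_odd (F := F) h2).1
    rwa [Nat.card_eq_fintype_card, Fintype.card_subtype] at this
  -- count the even principal series
  have hG : 4 * G.card + 3 ≤ q := by
    let E := Finset.univ.filter (fun α : MulChar F ℂ => α (-1) = 1 ∧ α ≠ 1)
    have hsel : ∀ χ : {χ // χ ∈ G}, ∃ α : MulChar F ℂ, α ^ 2 ≠ 1 ∧ α (-1) = 1 ∧
        (χ.1 : S2 → ℂ) = H53.sprin α := fun χ => (Finset.mem_filter.mp χ.2).2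
    choose sel s1 s2 s3 using hsel
    have hle : 2 * G.card ≤ E.card := by
      let f : {χ // χ ∈ G} × Bool → {α // α ∈ E} := fun z =>
        ⟨bif z.2 then sel z.1 else (sel z.1)⁻¹, by
          obtain ⟨χ, b⟩ := z
          have hne : sel χ ≠ 1 := fun e => s1 χ (by rw [e, one_pow])
          cases b
          · refine Finset.mem_filter.mpr ⟨Finset.mem_univ _, ?_, fun h => hne (inv_eq_one.mp h)⟩
            show ((sel χ)⁻¹ : MulChar F ℂ) (-1) = 1
            rw [MulChar.inv_apply', inv_neg, inv_one, s2]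
          · exact Finset.mem_filter.mpr ⟨Finset.mem_univ _, s2 χ, hne⟩⟩
      have hf : Function.Injective f := by
        rintro ⟨χ, b⟩ ⟨χ', b'⟩ h
        have e : (bif b then sel χ else (sel χ)⁻¹) = bif b' then sel χ' else (sel χ')⁻¹ :=
          congrArg Subtype.val h
        have hχ : χ = χ' := by
          refine Subtype.ext (Subtype.ext ((s3 χ).trans (Eq.trans ?_ (s3 χ').symm)))
          rw [H53.sprin_eq_iff]
          cases b <;> cases b' <;> simp only [cond_true, cond_false] at e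
          · exact Or.inl (inv_injective e)
          · exact Or.inr (by rw [← e, inv_inv])
          · exact Or.inr e
          · exact Or.inl e
        subst hχ
        refine Prod.ext rfl ?_
        cases b <;> cases b' <;> simp only [cond_true, cond_false] at e <;> try rfl
        all_goals
          exfalso
          apply s1 χ
          rw [sq, mul_eq_one_iff_eq_inv]
          first | exact e | exact e.symm
      have := Fintype.card_le_of_injective f hf
      simpa [Fintype.card_prod, mul_comm] using this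
    have hE : 2 * (E.card + 1) ≤ q - 1 := by
      let K : Subgroup (MulChar F ℂ) :=
        { carrier := {α | α (-1) = 1}
          one_mem' := MulChar.one_apply (isUnit_iff_ne_zero.mpr (neg_ne_zero.mpr one_ne_zero))
          mul_mem' := fun {a b} ha hb => by
            show (a * b) (-1) = 1
            rw [MulChar.mul_apply, ha, hb, mul_one]
          inv_mem' := fun {a} ha => by
            show a⁻¹ (-1) = 1
            rw [MulChar.inv_apply', inv_neg, inv_one]; exact ha }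
      have hK : Nat.card K = E.card + 1 := by
        have hmem : (1 : MulChar F ℂ) ∈ Finset.univ.filter (fun α : MulChar F ℂ => α (-1) = 1) :=
          Finset.mem_filter.mpr ⟨Finset.mem_univ _, K.one_mem'⟩
        rw [Nat.card_eq_fintype_card, show Fintype.card K =
          (Finset.univ.filter (fun α : MulChar F ℂ => α (-1) = 1)).card from Fintype.card_subtype _,
          ← Finset.card_erase_add_one hmem]
        congr 2
        ext α
        simp [E, and_comm]
      have hne : K ≠ ⊤ := fun h => by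
        obtain ⟨β, hβ⟩ := MulChar.exists_apply_ne_one_of_hasEnoughRootsOfUnity F ℂ (a := -1)
          (fun h => h2 (by linear_combination -h))
        exact hβ (show β ∈ K from h ▸ Subgroup.mem_top β)
      have hidx : 2 ≤ K.index := by
        have h1 : K.index ≠ 1 := fun e => hne (Subgroup.index_eq_one.mp e)
        have h0 : K.index ≠ 0 := Subgroup.index_ne_zero_of_finite
        omega
      have := K.card_mul_index
      rw [hK, H53.card_mulChar] at this
      calc 2 * (E.card + 1) ≤ (E.card + 1) * K.index := by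
            rw [mul_comm]; exact Nat.mul_le_mul_left _ hidx
        _ = q - 1 := this
    omega
  -- every even character is one of these
  have hcover : Finset.univ.filter P ⊆ {one'} ∪ {st'} ∪ G ∪ Hh ∪ C := by
    intro χ hχ
    have hP : (χ : S2 → ℂ) (-1) = (χ : S2 → ℂ) 1 := (Finset.mem_filter.mp hχ).2
    simp only [Finset.mem_union, Finset.mem_singleton]
    rcases H53.sl_cases_odd h2 χ.2 with ⟨h, -⟩ | ⟨h, -⟩ | ⟨⟨α, hα, h⟩, -⟩ | ⟨⟨ε', hε', hε1', H⟩, -⟩ | ⟨hc, hd⟩ | ⟨hc, hd⟩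
    · exact Or.inl (Or.inl (Or.inl (Or.inl (Subtype.ext h))))
    · exact Or.inl (Or.inl (Or.inl (Or.inr (Subtype.ext h))))
    · refine Or.inl (Or.inl (Or.inr (Finset.mem_filter.mpr ⟨Finset.mem_univ _, α, hα, ?_, h⟩)))
      rw [h, sprin_neg_one, H53.sprin_one] at hP
      exact (mul_eq_left₀ (by exact_mod_cast Nat.succ_ne_zero (Fintype.card F))).mp hP
    · exact Or.inl (Or.inr (Finset.mem_filter.mpr ⟨Finset.mem_univ _,
        H53.mulChar_sq_unique hε' hε hε1' hε1 ▸ H⟩))
    · exact Or.inr (Finset.mem_filter.mpr ⟨Finset.mem_univ _, hc, hd⟩)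
    · exfalso
      exact hno (mem_charDegrees_PSL χ.2 hP (by rw [hd, Nat.cast_sub Fintype.card_pos, Nat.cast_one]))
  have hle : ∀ (s t : Finset (Cfsg.IrrCharacter S2)) (f : Cfsg.IrrCharacter S2 → ℕ),
      ∑ χ ∈ s ∪ t, f χ ≤ ∑ χ ∈ s, f χ + ∑ χ ∈ t, f χ := fun s t f => by
    rw [← Finset.sum_union_inter]
    exact Nat.le_add_right _ _
  have hsum := (Finset.sum_le_sum_of_subset (f := fun χ : Cfsg.IrrCharacter S2 =>
    Cfsg.charDegree (χ : S2 → ℂ) ^ 2) hcover).trans
    ((hle _ _ _).trans (Nat.add_le_add_right ((hle _ _ _).trans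
      (Nat.add_le_add_right ((hle _ _ _).trans (Nat.add_le_add_right
        (hle _ _ _) _)) _)) _))
  have b1 : Cfsg.charDegree (one' : S2 → ℂ) = 1 := charDegree_eq (by simp [one'])
  have b2 : Cfsg.charDegree (st' : S2 → ℂ) = q := charDegree_eq H53.stS_one
  have b3 : ∑ χ ∈ G, Cfsg.charDegree (χ : S2 → ℂ) ^ 2 = G.card * (q + 1) ^ 2 := by
    rw [← smul_eq_mul]
    refine Finset.sum_eq_card_nsmul fun χ hχ => ?_
    obtain ⟨α, -, -, h⟩ := (Finset.mem_filter.mp hχ).2
    rw [charDegree_eq (d := q + 1) (by rw [h, H53.sprin_one]; push_cast; rfl)]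
  obtain ⟨m, hm⟩ := Nat.odd_iff.mpr (FiniteField.odd_card_of_char_ne_two (H53.ringChar_ne_two h2))
  rw [← hqdef] at hm
  have b4 : ∑ χ ∈ Hh, Cfsg.charDegree (χ : S2 → ℂ) ^ 2 = 2 * (m + 1) ^ 2 := by
    rw [show 2 * (m + 1) ^ 2 = Hh.card • (m + 1) ^ 2 by rw [hHh, smul_eq_mul]]
    refine Finset.sum_eq_card_nsmul fun χ hχ => ?_
    obtain ⟨δ, hδ⟩ := H53.exists_not_isSquare h2
    have := (Finset.mem_filter.mp hχ).2.two_degree hε hε1 hδ
    rw [charDegree_eq (d := m + 1)]
    rw [← hqdef, hm] at this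
    push_cast at this ⊢
    linear_combination (1 / 2 : ℂ) * this
  have b5 : ∑ χ ∈ C, Cfsg.charDegree (χ : S2 → ℂ) ^ 2 = 2 * m ^ 2 := by
    rw [show 2 * m ^ 2 = C.card • m ^ 2 by rw [hC, smul_eq_mul]]
    refine Finset.sum_eq_card_nsmul fun χ hχ => ?_
    have := (Finset.mem_filter.mp hχ).2.2
    rw [charDegree_eq (d := m)]
    rw [hm] at this
    push_cast at this
    linear_combination (1 / 2 : ℂ) * this
  rw [Finset.sum_singleton, Finset.sum_singleton, b1, b2, b3, b4, b5] at hsum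
  have hS : Nat.card S2 = q * (q ^ 2 - 1) := Linear.card_SL_two
  obtain ⟨k, hk⟩ := Nat.exists_eq_add_of_le (Nat.one_le_pow 2 q (by omega))
  rw [hS, hk, Nat.add_sub_cancel_left] at hhalf
  rw [hm] at hk hhalf hsum hG hq
  nlinarith [hsum, hhalf, hG, hk, mul_le_mul_of_nonneg_left hG (Nat.zero_le ((2 * m + 1 + 1) ^ 2))]

theorem mem_charDegrees_S {S : Type*} [Group S] [Finite S]
    (hS : Nonempty (S ≃* P2) ∨ Nonempty (S ≃* S2)) :
    Cfsg.charDegrees S ⊆ Cfsg.charDegrees S2 ∧ Cfsg.charDegrees P2 ⊆ Cfsg.charDegrees S := by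
  rcases hS with ⟨⟨e⟩⟩ | ⟨⟨e⟩⟩ <;> rw [charDegrees_congr e]
  · exact ⟨charDegrees_PSL_subset, subset_rfl⟩
  · exact ⟨subset_rfl, charDegrees_PSL_subset⟩

end Cfsg.Agent.Linear.SLDegrees
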