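import Cfsg.Agent.Linear.SLDegrees
import Cfsg.Agent.CharInduce.Induce
import Cfsg.Agent.CharBasic.Virtual
import Cfsg.Agent.Linear.Dickson.Partition

/-!
The discrete series of SL₂ in odd characteristic, from a non-split torus.
-/

set_option autoImplicit false
set_option linter.unusedSectionVars false

namespace Cfsg.Agent.Linear.CuspSeries

open Matrix Finset Cfsg.Agent.Linear
open scoped ComplexConjugate

variable {F : Type*} [Field F] [Fintype F] [DecidableEq F]

local notation "M2" => Matrix (Fin 2) (Fin 2) F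
local notation "S2" => Matrix.SpecialLinearGroup (Fin 2) F

theorem isUpper_conj {g : S2} (h : ¬ ∀ c : F, c ^ 2 - c * (g : M2).trace + 1 ≠ 0) :
    ∃ k : S2, ((k⁻¹ * g * k : S2) : M2) 1 0 = 0 := by
  push Not at h
  obtain ⟨μ, hμ⟩ := h
  have hdet : ((g : M2) - μ • (1 : M2)).det = 0 := by
    have := SL_det_two g
    rw [Matrix.det_fin_two]
    rw [Matrix.trace_fin_two] at hμ
    simp
    linear_combination this + hμ
  obtain ⟨v, hv, hv'⟩ := Matrix.exists_mulVec_eq_zero_iff.mpr hdet
  have e1 := congrFun hv' 0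
  have e2 := congrFun hv' 1
  simp [Matrix.mulVec, dotProduct, Fin.sum_univ_two] at e1 e2
  obtain ⟨k, hk0, hk1⟩ : ∃ k : S2, (k : M2) 0 0 = v 0 ∧ (k : M2) 1 0 = v 1 := by
    by_cases h0 : v 0 = 0
    · have h1 : v 1 ≠ 0 := fun h1 => hv (by ext i; fin_cases i <;> assumption)
      exact ⟨⟨!![v 0, -(v 1)⁻¹; v 1, 0], by simp [Matrix.det_fin_two_of, h1]⟩, rfl, rfl⟩
    · exact ⟨⟨!![v 0, 0; v 1, (v 0)⁻¹], by simp [Matrix.det_fin_two_of, h0]⟩, rfl, rfl⟩
  refine ⟨k, ?_⟩
  rw [mul_assoc, SL_mul_entries, SL_mul_entries, SL_mul_entries, (SL_inv_entries k).2.2.2,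
    (SL_inv_entries k).2.1, hk0, hk1]
  linear_combination -v 1 * e1 + v 0 * e2

theorem card_trace_eq (h2 : (2 : F) ≠ 0) {τ : F} (hτ : τ ^ 2 = 4) :
    Nat.card {g : S2 // (g : M2).trace = τ} = Fintype.card F ^ 2 := by
  have hτ2 : (τ / 2) ^ 2 = 1 := by field_simp; linear_combination hτ
  let mk : F × F → S2 := fun cx => if hc : cx.1 = 0
    then ⟨!![τ / 2, cx.2; 0, τ / 2], by simp [Matrix.det_fin_two_of]; linear_combination hτ2⟩
    else ⟨!![τ / 2 + cx.2, -(cx.2 ^ 2) / cx.1; cx.1, τ / 2 - cx.2], by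
      simp [Matrix.det_fin_two_of]
      field_simp
      linear_combination hτ⟩
  have hm0 : ∀ x : F, ((mk (0, x) : S2) : M2) = !![τ / 2, x; 0, τ / 2] := fun x => by simp [mk]
  have hm1 : ∀ c x : F, c ≠ 0 →
      ((mk (c, x) : S2) : M2) = !![τ / 2 + x, -(x ^ 2) / c; c, τ / 2 - x] := fun c x hc => by
    simp [mk, hc]
  have h := Nat.card_eq_of_bijective (α := F × F) (β := {g : S2 // (g : M2).trace = τ})
    (fun cx => ⟨mk cx, by
      obtain ⟨c, x⟩ := cx
      rcases eq_or_ne c 0 with rfl | hc <;>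
        first | (rw [hm0]; simp [Matrix.trace_fin_two]; field_simp; ring) |
          (rw [hm1 c x hc]; simp [Matrix.trace_fin_two]; field_simp; ring)⟩) ⟨?_, ?_⟩
  · rw [← h, Nat.card_prod, Nat.card_eq_fintype_card, sq]
  · rintro ⟨c, x⟩ ⟨c', x'⟩ e
    have e' : mk (c, x) = mk (c', x') := congrArg Subtype.val e
    have e10 := congrArg (fun z : S2 => (z : M2) 1 0) e'
    have e01 := congrArg (fun z : S2 => (z : M2) 0 1) e'
    have e00 := congrArg (fun z : S2 => (z : M2) 0 0) e'
    rcases eq_or_ne c 0 with rfl | hc <;> rcases eq_or_ne c' 0 with rfl | hc'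
    · simp [hm0] at e01
      rw [e01]
    · simp [hm0, hm1 c' x' hc'] at e10
      exact absurd e10.symm hc'
    · simp [hm0, hm1 c x hc] at e10
      exact absurd e10 hc
    · simp [hm1 c x hc, hm1 c' x' hc'] at e10 e00
      rw [e10, e00]
  · rintro ⟨g, hg⟩
    have hd := SL_det_two g
    rw [Matrix.trace_fin_two] at hg
    by_cases hc : (g : M2) 1 0 = 0
    · refine ⟨(0, (g : M2) 0 1), Subtype.ext ?_⟩
      rw [hc, mul_zero, sub_zero] at hd
      have he : (g : M2) 0 0 = τ / 2 := sub_eq_zero.mp (eq_zero_of_pow_eq_zero (n := 2) (by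
        field_simp
        linear_combination hτ - 4 * hd + 4 * (g : M2) 0 0 * hg))
      apply SL_ext_two <;> simp [hm0, hc, he]
      rw [he] at hg
      field_simp at hg ⊢
      linear_combination -hg
    · refine ⟨((g : M2) 1 0, (g : M2) 0 0 - τ / 2), Subtype.ext ?_⟩
      have hd2 : (g : M2) 1 1 = τ - (g : M2) 0 0 := by linear_combination hg
      apply SL_ext_two <;> simp [hm1 _ _ hc, hd2]
      · rw [hd2] at hd
        field_simp at hd ⊢
        linear_combination 4 * hd - hτ
      · field_simp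
        ring

section Torus

variable (h2 : (2 : F) ≠ 0) (C : Subgroup (Matrix.SpecialLinearGroup (Fin 2) F)) (hC : IsCyclic C)
  (hcard : Nat.card C = Fintype.card F + 1)

include h2 hC hcard

theorem neg_one_mem : (-1 : S2) ∈ C := by
  have heven : 2 ∣ Nat.card C := by
    have := FiniteField.odd_card_of_char_ne_two (H53.ringChar_ne_two h2)
    rw [hcard]
    omega
  have : Fact (Nat.Prime 2) := ⟨Nat.prime_two⟩
  obtain ⟨x, hx⟩ := exists_prime_orderOf_dvd_card' 2 heven
  have hx2 : (x : S2) * x = 1 := by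
    have := congrArg Subtype.val (orderOf_dvd_iff_pow_eq_one.mp hx.dvd)
    rw [sq] at this
    exact this
  rcases eq_one_or_neg_one_of_sq h2 hx2 with e | e
  · rw [OneMemClass.coe_eq_one.mp e, orderOf_one] at hx
    norm_num at hx
  · exact e ▸ x.2

theorem torus_elem {c : S2} (hc : c ∈ C) (h1 : c ≠ 1) (h1' : c ≠ -1) :
    (c : M2).trace ^ 2 ≠ 4 ∧ Subgroup.centralizer ({c} : Set S2) = C ∧
      ∀ t : F, t ^ 2 - t * (c : M2).trace + 1 ≠ 0 := by
  have hns : ¬ IsScalarTwo (c : M2) := fun h => by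
    rcases isScalarTwo_SL_iff.mp h with e | e
    · exact h1 e
    · exact h1' e
  have hle : C ≤ Subgroup.centralizer ({c} : Set S2) := fun x hx =>
    Subgroup.mem_centralizer_singleton_iff.mpr
      (congrArg Subtype.val ((IsCyclic.commGroup (α := C)).mul_comm ⟨x, hx⟩ ⟨c, hc⟩))
  have hdvd := Subgroup.card_dvd_of_le hle
  rw [hcard] at hdvd
  have hq := H53.three_le_of_odd (F := F)
    (Nat.odd_iff.mpr (FiniteField.odd_card_of_char_ne_two (H53.ringChar_ne_two h2)))
  have ht : (c : M2).trace ^ 2 ≠ 4 := by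
    intro ht
    have hcc : Nat.card (Subgroup.centralizer ({c} : Set S2)) = 2 * Fintype.card F := by
      have e : (c : M2).trace ^ 2 = 2 ^ 2 := by rw [ht]; norm_num
      rcases eq_or_eq_neg_of_sq_eq_sq _ _ e with h | h
      · rw [card_centralizer_unipotent hns h, card_sq_eq_one_of_two_ne_zero h2]
      · rw [← Dickson.centralizer_neg, card_centralizer_unipotent
          (fun hs => hns (by simpa [IsScalarTwo] using hs)) (by simp [h]), card_sq_eq_one_of_two_ne_zero h2]
    rw [hcc] at hdvd
    have h' : Nat.Coprime (Fintype.card F + 1) (Fintype.card F) := by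
      rw [Nat.coprime_self_add_left]
      exact Nat.coprime_one_left _
    have := Nat.le_of_dvd two_pos (h'.dvd_of_dvd_mul_right hdvd)
    omega
  by_cases hr : ∃ t : F, t ^ 2 - t * (c : M2).trace + 1 = 0
  · exfalso
    rw [card_centralizer_split_SL ht hr] at hdvd
    have := Nat.le_of_dvd (by omega) hdvd
    omega
  · have hr' := not_exists.mp hr
    refine ⟨ht, (Subgroup.eq_of_le_of_card_ge hle ?_).symm, hr'⟩
    rw [card_centralizer_nonsplit_SL ht hr', hcard]

variable (θ : C →* ℂˣ)

/-- The values of the character, extended by zero. -/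
noncomputable def ext0 : S2 → ℂ := fun g => Cfsg.extendByZero C (fun c => (θ c : ℂ)) g

/-- The induced character. -/
noncomputable def ind : S2 → ℂ := Cfsg.indFun C fun c => (θ c : ℂ)

theorem theta_conj (c : C) : conj ((θ c : ℂ)) = ((θ c)⁻¹ : ℂˣ) := by
  rw [Units.val_inv_eq_inv_val, Complex.inv_def, Complex.normSq_eq_norm_sq, CharInduce.norm_hom θ c]
  simp

theorem ind_central {z : S2} (hz : z = 1 ∨ z = -1) (hzC : z ∈ C) :
    ind C θ z = (Fintype.card F : ℂ) * ((Fintype.card F : ℂ) - 1) * (θ ⟨z, hzC⟩ : ℂ) := by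
  have hc : ∀ x : S2, x⁻¹ * z * x = z := fun x => by
    rcases hz with rfl | rfl <;> simp
  rw [ind, Cfsg.indFun]
  simp only [hc, CharInduce.extendByZero_of_mem _ hzC, Finset.sum_const, Finset.card_univ, nsmul_eq_mul]
  rw [← Nat.card_eq_fintype_card (α := S2), Linear.card_SL_two, hcard]
  have h1 : (1 : ℕ) ≤ Fintype.card F ^ 2 := Nat.one_le_pow _ _ Fintype.card_pos
  rw [Nat.cast_mul, Nat.cast_sub h1]
  push_cast
  have : (Fintype.card F : ℂ) + 1 ≠ 0 := Nat.cast_add_one_ne_zero _
  field_simp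
  ring

theorem ind_eq_zero {g : S2} (h : ∀ x : S2, x⁻¹ * g * x ∉ C) : ind C θ g = 0 := by
  rw [ind, Cfsg.indFun]
  simp [CharInduce.extendByZero_of_not_mem _ (h _)]

theorem ind_torus {c : S2} (hc : c ∈ C) (h1 : c ≠ 1) (h1' : c ≠ -1) :
    ind C θ c = (θ ⟨c, hc⟩ : ℂ) + ((θ ⟨c, hc⟩)⁻¹ : ℂˣ) := by
  classical
  obtain ⟨ht, hcen, -⟩ := torus_elem h2 C hC hcard hc h1 h1'
  obtain ⟨w, hw⟩ := exists_inverter ht
  have hwC : w ∉ C := hcen ▸ inverter_not_mem ht hw
  have key : ∀ x : S2, Cfsg.extendByZero C (fun c => (θ c : ℂ)) (x⁻¹ * c * x) =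
      (if x ∈ C then (θ ⟨c, hc⟩ : ℂ) else 0) + if w * x ∈ C then (((θ ⟨c, hc⟩)⁻¹ : ℂˣ) : ℂ) else 0 := by
    intro x
    by_cases hx : x ∈ C
    · have hwx : w * x ∉ C := fun h => hwC (by simpa using C.mul_mem h (C.inv_mem hx))
      have e : x⁻¹ * c * x = c := by
        have := Subgroup.mem_centralizer_singleton_iff.mp (hcen.symm ▸ hx : x ∈ Subgroup.centralizer {c})
        rw [mul_assoc, ← this, inv_mul_cancel_left]
      rw [e, if_pos hx, if_neg hwx, add_zero, CharInduce.extendByZero_of_mem _ hc]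
    · rw [if_neg hx, zero_add]
      by_cases hwx : w * x ∈ C
      · rw [if_pos hwx]
        have hcomm := Subgroup.mem_centralizer_singleton_iff.mp
          (hcen.symm ▸ hwx : w * x ∈ Subgroup.centralizer {c})
        have e : x⁻¹ * c * x = c⁻¹ := by
          have h3 : w * c⁻¹ * w⁻¹ = c := by
            calc w * c⁻¹ * w⁻¹ = (w * c * w⁻¹)⁻¹ := by group
              _ = c := by rw [hw, inv_inv]
          calc x⁻¹ * c * x = (w * x)⁻¹ * (w * c * w⁻¹) * (w * x) := by group
            _ = (w * x)⁻¹ * c⁻¹ * (w * x) := by rw [hw]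
            _ = c⁻¹ := by
              rw [mul_assoc, show c⁻¹ * (w * x) = (w * x) * c⁻¹ from
                ((Commute.inv_right (show Commute (w * x) c from hcomm)).eq).symm, inv_mul_cancel_left]
        rw [e, CharInduce.extendByZero_of_mem _ (C.inv_mem hc)]
        show ((θ ⟨c, hc⟩⁻¹ : ℂˣ) : ℂ) = _
        rw [map_inv]
      · rw [if_neg hwx]
        refine CharInduce.extendByZero_of_not_mem _ fun hmem => ?_
        have hne : ∀ z : S2, (z = 1 ∨ z = -1) → x⁻¹ * c * x ≠ z := fun z hz e => by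
          have : c = x * z * x⁻¹ := by rw [← e]; group
          rcases hz with rfl | rfl <;> simp at this <;> [exact h1 this; exact h1' this]
        obtain ⟨-, hcen', -⟩ := torus_elem h2 C hC hcard hmem (hne 1 (Or.inl rfl)) (hne (-1) (Or.inr rfl))
        have hN : x⁻¹ ∈ Subgroup.normalizer ((Subgroup.centralizer ({c} : Set S2)) : Set S2) := by
          rw [Subgroup.mem_normalizer_iff]
          intro y
          conv_rhs => rw [hcen, ← hcen']
          rw [Subgroup.mem_centralizer_singleton_iff, Subgroup.mem_centralizer_singleton_iff,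
            show x⁻¹ * y * x⁻¹⁻¹ * (x⁻¹ * c * x) = x⁻¹ * (y * c) * x by group,
            show x⁻¹ * c * x * (x⁻¹ * y * x⁻¹⁻¹) = x⁻¹ * (c * y) * x by group, mul_left_inj, mul_right_inj]
        rcases (mem_normalizer_centralizer_iff ht).mp hN with e | e
        · refine hx (C.inv_mem_iff.mp (hcen ▸ Subgroup.mem_centralizer_singleton_iff.mpr ?_))
          exact mul_inv_eq_iff_eq_mul.mp e
        · apply hwx
          rw [← hcen, Subgroup.mem_centralizer_singleton_iff]
          have e' : x * c⁻¹ * x⁻¹ = c := by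
            rw [← e]; group
          have e'' : w * c⁻¹ * w⁻¹ = c := by
            calc w * c⁻¹ * w⁻¹ = (w * c * w⁻¹)⁻¹ := by group
              _ = c := by rw [hw, inv_inv]
          calc w * x * c = w * (x * c * x⁻¹) * x := by group
            _ = w * (x * c⁻¹ * x⁻¹)⁻¹ * x := by group
            _ = w * c⁻¹ * w⁻¹ * (w * x) := by rw [e']; group
            _ = c * (w * x) := by rw [e'']
  rw [ind, Cfsg.indFun, Finset.sum_congr rfl (fun x _ => key x), Finset.sum_add_distrib]
  have hn : (Finset.univ.filter fun x : S2 => x ∈ C).card = Nat.card C := by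
    rw [Nat.card_eq_fintype_card]; exact (Fintype.card_subtype _).symm
  have hn' : (Finset.univ.filter fun x : S2 => w * x ∈ C).card = Nat.card C := by
    rw [← hn]
    exact Finset.card_equiv (Equiv.mulLeft w) (by simp)
  rw [← Finset.sum_filter, ← Finset.sum_filter, Finset.sum_const, Finset.sum_const, hn, hn',
    nsmul_eq_mul, nsmul_eq_mul, ← mul_add, ← mul_assoc, inv_mul_cancel₀ (Nat.cast_ne_zero.mpr
      Nat.card_pos.ne'), one_mul]

variable (α : MulChar F ℂ)

/-- The cuspidal virtual character. -/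
noncomputable def cusp : S2 → ℂ := fun g => H53.stS g * H53.sprin α g - H53.sprin α g - ind C θ g

theorem isGen_cusp : Cfsg.IsGeneralizedCharacter S2 (cusp C θ α) := by
  classical
  have h1 : Cfsg.IsCharacter S2 (H53.sprin α) := H53.isCharacter_sprin α
  have h2' : Cfsg.IsCharacter S2 (fun g => H53.stS g * H53.sprin α g) :=
    CharInduce.IsChar.mul (CharBasic.IsIrr.isCharacter H53.isIrrCharacter_stS) h1
  have h3 : Cfsg.IsCharacter S2 (ind C θ) := CharInduce.IsChar.ind C (CharInduce.isCharacter_hom θ)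
  exact CharInduce.IsGen.sub (CharInduce.IsGen.sub (CharInduce.IsGen.of_char h2')
    (CharInduce.IsGen.of_char h1)) (CharInduce.IsGen.of_char h3)

variable (hα : α (-1) = (θ ⟨-1, neg_one_mem h2 C hC hcard⟩ : ℂ))

include hα

theorem cusp_central {z : S2} (hz : z = 1 ∨ z = -1) (hzC : z ∈ C) :
    cusp C θ α z = ((Fintype.card F : ℂ) - 1) * (θ ⟨z, hzC⟩ : ℂ) := by
  classical
  rw [cusp, ind_central h2 C hC hcard θ hz hzC]
  rcases hz with rfl | rfl
  · rw [H53.stS_one, H53.sprin_one, show (⟨1, hzC⟩ : C) = 1 from rfl, map_one, Units.val_one]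
    ring
  · rw [SLDegrees.stS_neg_one, SLDegrees.sprin_neg_one, hα]
    ring

theorem scalar_apply {g : S2} (h10 : (g : M2) 1 0 = 0) (he : (g : M2) 0 0 = (g : M2) 1 1) :
    α ((g : M2) 0 0) = if (g : M2) 0 0 = 1 then 1 else (θ ⟨-1, neg_one_mem h2 C hC hcard⟩ : ℂ) := by
  have hd := SL_det_two g
  rw [h10, mul_zero, sub_zero, ← he] at hd
  rcases mul_self_eq_one_iff.mp hd with e | e
  · rw [if_pos e, e, map_one]
  · rw [if_neg (fun e' => h2 (by linear_combination e - e')), e, hα]

theorem cusp_upper_ne {g : S2} (h10 : (g : M2) 1 0 = 0) (hne : (g : M2) 0 0 ≠ (g : M2) 1 1) :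
    cusp C θ α g = 0 := by
  classical
  have hd := SL_det_two g
  rw [h10, mul_zero, sub_zero] at hd
  obtain ⟨h0, h1⟩ := H53.entries_SL h10
  have hfil : (Finset.univ.filter fun t : F =>
      ((g : M2) 0 0 - (g : M2) 1 1) * t + (g : M2) 0 1 = 0).card = 1 := by
    rw [Finset.card_eq_one]
    refine ⟨-(g : M2) 0 1 / ((g : M2) 0 0 - (g : M2) 1 1), ?_⟩
    ext t
    simp only [Finset.mem_filter, Finset.mem_univ, true_and, Finset.mem_singleton]
    rw [eq_div_iff (sub_ne_zero.mpr hne)]
    constructor <;> intro h <;> linear_combination h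
  have hst : H53.stS g = 1 := by
    rw [H53.stS, H53.sprin_upper 1 h10, hfil,
      MulChar.one_apply (isUnit_iff_ne_zero.mpr h0),
      MulChar.one_apply (isUnit_iff_ne_zero.mpr (by rw [h1]; exact inv_ne_zero h0))]
    norm_num
  rw [cusp, hst, one_mul, sub_self, zero_sub, neg_eq_zero]
  refine ind_eq_zero h2 C hC hcard θ fun x hx => ?_
  have htr : (((x⁻¹ * g * x : S2)) : M2).trace = (g : M2).trace := by
    simpa using trace_conj g x⁻¹
  rw [Matrix.trace_fin_two (g : M2)] at htr
  have hn : ∀ z : S2, (z = 1 ∨ z = -1) → x⁻¹ * g * x ≠ z := fun z hz e => by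
    have : g = x * z * x⁻¹ := by rw [← e]; group
    apply hne
    rcases hz with rfl | rfl <;> simp at this <;> rw [this] <;> simp
  obtain ⟨-, -, hr⟩ := torus_elem h2 C hC hcard hx (hn 1 (Or.inl rfl)) (hn (-1) (Or.inr rfl))
  refine hr ((g : M2) 0 0) ?_
  rw [htr]
  linear_combination -hd

theorem cusp_upper_eq {g : S2} (h10 : (g : M2) 1 0 = 0) (he : (g : M2) 0 0 = (g : M2) 1 1)
    (h01 : (g : M2) 0 1 ≠ 0) : ind C θ g = 0 ∧
      cusp C θ α g = -(if (g : M2) 0 0 = 1 then 1 else (θ ⟨-1, neg_one_mem h2 C hC hcard⟩ : ℂ)) := by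
  classical
  have hd := SL_det_two g
  rw [h10, mul_zero, sub_zero] at hd
  have hind : ind C θ g = 0 := by
    refine ind_eq_zero h2 C hC hcard θ fun x hx => ?_
    have htr : (((x⁻¹ * g * x : S2)) : M2).trace = (g : M2).trace := by
      simpa using trace_conj g x⁻¹
    rw [Matrix.trace_fin_two (g : M2)] at htr
    have hn : ∀ z : S2, (z = 1 ∨ z = -1) → x⁻¹ * g * x ≠ z := fun z hz e => by
      have : g = x * z * x⁻¹ := by rw [← e]; group
      apply h01
      rcases hz with rfl | rfl <;> simp at this <;> rw [this] <;> simp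
    obtain ⟨-, -, hr⟩ := torus_elem h2 C hC hcard hx (hn 1 (Or.inl rfl)) (hn (-1) (Or.inr rfl))
    exact hr ((g : M2) 0 0) (by rw [htr]; linear_combination -hd)
  refine ⟨hind, ?_⟩
  obtain ⟨h0, h1⟩ := H53.entries_SL h10
  have hfil : (Finset.univ.filter fun t : F =>
      ((g : M2) 0 0 - (g : M2) 1 1) * t + (g : M2) 0 1 = 0) = ∅ := by
    ext t; simp [he, h01]
  rw [cusp, hind, sub_zero, H53.stS, H53.sprin_upper 1 h10, H53.sprin_upper α h10, hfil,
    MulChar.one_apply (isUnit_iff_ne_zero.mpr h0), scalar_apply h2 C hC hcard θ α hα h10 he]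
  simp

theorem cusp_noEigen {g : S2} (h : ∀ t : F, t ^ 2 - t * (g : M2).trace + 1 ≠ 0) :
    cusp C θ α g = -ind C θ g := by
  have h' : ∀ (c : F) (v : Fin 2 → F), v ≠ 0 → (g : M2).mulVec v ≠ c • v :=
    Linear.noEigen_iff.mpr fun t => by rw [g.2]; exact h t
  rw [cusp, (H53.stS_values g).2.1 h', H53.sprin_noEigen α h']
  ring

theorem cusp_torus {c : S2} (hc : c ∈ C) (h1 : c ≠ 1) (h1' : c ≠ -1) :
    cusp C θ α c = -((θ ⟨c, hc⟩ : ℂ) + ((θ ⟨c, hc⟩)⁻¹ : ℂˣ)) := by
  rw [cusp_noEigen h2 C hC hcard θ α hα (torus_elem h2 C hC hcard hc h1 h1').2.2,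
    ind_torus h2 C hC hcard θ hc h1 h1']

theorem norm_cusp [Fintype C] : ((Fintype.card F : ℂ) + 1) * Cfsg.classInner (cusp C θ α) (cusp C θ α) =
    (Fintype.card F : ℂ) + 1 + ∑ c : C, (θ c : ℂ) ^ 2 := by
  classical
  set q := (Fintype.card F : ℂ) with hqdef
  have hm1 : (-1 : S2) ≠ 1 := fun e => h2 (by
    have := congrArg (fun z : S2 => (z : M2) 0 0) e
    simp at this
    linear_combination -this)
  have hmem1 : (1 : S2) ∈ C := C.one_mem
  have hmem := neg_one_mem h2 C hC hcard
  have hclf : Cfsg.IsClassFunction S2 (cusp C θ α) :=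
    CharInduce.IsGen.isClassFunction (isGen_cusp h2 C hC hcard θ α)
  have hcli : Cfsg.IsClassFunction S2 (ind C θ) := CharInduce.isClassFunction_indFun C _
  have hth : ∀ c : C, (θ c : ℂ) * conj (θ c : ℂ) = 1 := fun c => by
    rw [theta_conj h2 C hC hcard θ c, ← Units.val_mul, mul_inv_cancel, Units.val_one]
  -- the induced character
  have hI : Cfsg.classInner (ind C θ) (ind C θ) * (q + 1) =
      q + 1 + ∑ c : C, (θ c : ℂ) ^ 2 + 2 * (q * (q - 1) - 2) := by
    rw [show Cfsg.classInner (ind C θ) (ind C θ) = _ from CharInduce.classInner_indFun_left C _ _ hcli,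
      Cfsg.classInner, hcard]
    have hterm : ∀ c : C, (θ c : ℂ) * conj (ind C θ c) = 1 + (θ c : ℂ) ^ 2 +
        ((if c = ⟨1, hmem1⟩ then q * (q - 1) - 2 else 0) + if c = ⟨-1, hmem⟩ then q * (q - 1) - 2 else 0) := by
      intro c
      by_cases e1 : c = ⟨1, hmem1⟩
      · have : c ≠ ⟨-1, hmem⟩ := by
          rw [e1]; exact fun h => hm1 (congrArg Subtype.val h).symm
        rw [if_pos e1, if_neg this, e1]
        rw [ind_central h2 C hC hcard θ (Or.inl rfl) hmem1, show (⟨1, hmem1⟩ : C) = 1 from rfl, map_one]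
        simp [hqdef]
        ring
      · by_cases e2 : c = ⟨-1, hmem⟩
        · rw [if_neg e1, if_pos e2, e2, ind_central h2 C hC hcard θ (Or.inr rfl) hmem]
          have hs : (θ ⟨-1, hmem⟩ : ℂ) ^ 2 = 1 := by
            rw [← Units.val_pow_eq_pow_val, ← map_pow, show (⟨-1, hmem⟩ : C) ^ 2 = 1 from
              Subtype.ext (by simp [sq]), map_one, Units.val_one]
          simp only [map_mul, map_sub, map_one, Complex.conj_natCast, hqdef]
          linear_combination ((Fintype.card F : ℂ) * ((Fintype.card F : ℂ) - 1)) * hth ⟨-1, hmem⟩ - hs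
        · rw [if_neg e1, if_neg e2, ind_torus h2 C hC hcard θ c.2 (fun h => e1 (Subtype.ext h))
            (fun h => e2 (Subtype.ext h)), map_add, Units.val_inv_eq_inv_val, map_inv₀, mul_add]
          have h := hth c
          have hc0 : conj (θ c : ℂ) ≠ 0 := fun h0 => by rw [h0, mul_zero] at h; norm_num at h
          have hinv : (conj (θ c : ℂ))⁻¹ = (θ c : ℂ) := by
            field_simp
            linear_combination -h
          rw [Subtype.coe_eta, hinv]
          linear_combination h
    rw [Finset.sum_congr rfl (fun c _ => hterm c), Finset.sum_add_distrib, Finset.sum_add_distrib,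
      Finset.sum_add_distrib, Finset.sum_ite_eq', Finset.sum_ite_eq', Finset.sum_const, Finset.card_univ,
      ← Nat.card_eq_fintype_card (α := C), hcard]
    simp only [Finset.mem_univ, if_true]
    have : q + 1 ≠ 0 := Nat.cast_add_one_ne_zero _
    push_cast
    field_simp
    ring
  -- the difference
  set T := Finset.univ.filter (fun g : S2 => (g : M2).trace ^ 2 = 4 ∧ g ≠ 1 ∧ g ≠ -1) with hT
  have hTcard : (T.card : ℂ) = 2 * (q ^ 2 - 1) := by
    have hτ : ∀ τ : F, τ ^ 2 = 4 → ((Finset.univ.filter fun g : S2 => (g : M2).trace = τ).card : ℂ) = q ^ 2 := by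
      intro τ hτ
      rw [← Fintype.card_subtype, ← Nat.card_eq_fintype_card, card_trace_eq h2 hτ]
      push_cast
      rfl
    have hu : (Finset.univ.filter fun g : S2 => (g : M2).trace ^ 2 = 4) =
        (Finset.univ.filter fun g : S2 => (g : M2).trace = 2) ∪
          (Finset.univ.filter fun g : S2 => (g : M2).trace = -2) := by
      ext g
      simp only [Finset.mem_filter, Finset.mem_univ, true_and, Finset.mem_union]
      rw [show (4 : F) = 2 ^ 2 by norm_num]
      exact ⟨eq_or_eq_neg_of_sq_eq_sq _ _, by rintro (e | e) <;> rw [e] <;> ring⟩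
    have hd : Disjoint (Finset.univ.filter fun g : S2 => (g : M2).trace = 2)
        (Finset.univ.filter fun g : S2 => (g : M2).trace = -2) := by
      rw [Finset.disjoint_filter]
      intro g _ e e'
      rw [e] at e'
      exact h2 ((mul_eq_zero.mp (show (2 : F) * 2 = 0 by linear_combination e')).elim id id)
    have hsplit : (Finset.univ.filter fun g : S2 => (g : M2).trace ^ 2 = 4) = T ∪ {1, -1} := by
      ext g
      simp only [hT, Finset.mem_filter, Finset.mem_univ, true_and, Finset.mem_union, Finset.mem_insert,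
        Finset.mem_singleton]
      constructor
      · intro h
        by_cases a : g = 1
        · exact Or.inr (Or.inl a)
        · by_cases b : g = -1
          · exact Or.inr (Or.inr b)
          · exact Or.inl ⟨h, a, b⟩
      · rintro (⟨h, -⟩ | rfl | rfl) <;> first | exact h | (simp [Matrix.trace_fin_two]; norm_num)
    have hd' : Disjoint T {1, -1} := by
      rw [Finset.disjoint_left]
      intro g hg hg'
      simp [hT] at hg hg'
      tauto
    have := congrArg Finset.card (hsplit.symm.trans hu)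
    rw [Finset.card_union_of_disjoint hd, Finset.card_union_of_disjoint hd', Finset.card_pair hm1.symm] at this
    have h' : ((T.card + 2 : ℕ) : ℂ) = q ^ 2 + q ^ 2 := by
      rw [this, Nat.cast_add, hτ 2 (by norm_num), hτ (-2) (by norm_num)]
    push_cast at h'
    linear_combination h'
  have hD : ∀ g : S2, cusp C θ α g * conj (cusp C θ α g) = ind C θ g * conj (ind C θ g) +
      ((if g = 1 then (q - 1) ^ 2 - (q * (q - 1)) ^ 2 else 0) +
        (if g = -1 then (q - 1) ^ 2 - (q * (q - 1)) ^ 2 else 0) + if g ∈ T then 1 else 0) := by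
    intro g
    by_cases e1 : g = 1
    · subst e1
      rw [if_pos rfl, if_neg hm1.symm, if_neg (by simp [hT]),
        cusp_central h2 C hC hcard θ α hα (Or.inl rfl) hmem1, ind_central h2 C hC hcard θ (Or.inl rfl) hmem1,
        show (⟨1, hmem1⟩ : C) = 1 from rfl, map_one]
      simp [hqdef]
      ring
    by_cases e2 : g = -1
    · subst e2
      rw [if_neg hm1, if_pos rfl, if_neg (by simp [hT]),
        cusp_central h2 C hC hcard θ α hα (Or.inr rfl) hmem, ind_central h2 C hC hcard θ (Or.inr rfl) hmem]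
      simp only [map_mul, map_sub, map_one, Complex.conj_natCast, hqdef]
      linear_combination (((Fintype.card F : ℂ) - 1) ^ 2 -
        ((Fintype.card F : ℂ) * ((Fintype.card F : ℂ) - 1)) ^ 2) * hth ⟨-1, hmem⟩
    rw [if_neg e1, if_neg e2]
    by_cases hne : ∀ t : F, t ^ 2 - t * (g : M2).trace + 1 ≠ 0
    · have hgT : g ∉ T := fun h => by
        obtain ⟨ht, -⟩ := (Finset.mem_filter.mp h).2
        refine hne ((g : M2).trace / 2) ?_
        field_simp
        linear_combination -ht
      rw [if_neg hgT, cusp_noEigen h2 C hC hcard θ α hα hne, map_neg]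
      ring
    · obtain ⟨k, hk⟩ := isUpper_conj hne
      set g' := k⁻¹ * g * k with hg'
      have hf : cusp C θ α g = cusp C θ α g' := by
        have := hclf g k⁻¹
        rw [inv_inv] at this
        exact this.symm
      have hi : ind C θ g = ind C θ g' := by
        have := hcli g k⁻¹
        rw [inv_inv] at this
        exact this.symm
      have ht : (g' : M2).trace = (g : M2).trace := by simpa [hg'] using trace_conj g k⁻¹
      have hd := SL_det_two g'
      rw [hk, mul_zero, sub_zero] at hd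
      rw [hf, hi]
      by_cases he : (g' : M2) 0 0 = (g' : M2) 1 1
      · have h01 : (g' : M2) 0 1 ≠ 0 := fun h0 => by
          rcases isScalarTwo_SL_iff.mp ⟨h0, hk, he⟩ with e | e
          · exact e1 (by rwa [hg', mul_assoc, inv_mul_eq_one, eq_comm, mul_eq_right] at e)
          · apply e2
            have : g = k * g' * k⁻¹ := by rw [hg']; group
            rw [this, e]; simp
        have hgT : g ∈ T := Finset.mem_filter.mpr ⟨Finset.mem_univ _, by
          rw [← ht, Matrix.trace_fin_two, ← he]; rw [← he] at hd; linear_combination 4 * hd, e1, e2⟩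
        obtain ⟨hi0, hf0⟩ := cusp_upper_eq h2 C hC hcard θ α hα hk he h01
        rw [if_pos hgT, hi0, hf0]
        split_ifs
        · simp
        · rw [map_neg, neg_mul_neg, hth]
          simp
      · have hgT : g ∉ T := fun h => by
          obtain ⟨htt, -⟩ := (Finset.mem_filter.mp h).2
          rw [← ht, Matrix.trace_fin_two] at htt
          apply he
          refine sub_eq_zero.mp (eq_zero_of_pow_eq_zero (n := 2) ?_)
          linear_combination htt - 4 * hd
        have hc0 := cusp_upper_ne h2 C hC hcard θ α hα hk he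
        have hi0 : ind C θ g' = 0 := by
          refine ind_eq_zero h2 C hC hcard θ fun x hx => ?_
          have htr : (((x⁻¹ * g' * x : S2)) : M2).trace = (g' : M2).trace := by
            simpa using trace_conj g' x⁻¹
          rw [Matrix.trace_fin_two (g' : M2)] at htr
          have hn : ∀ z : S2, (z = 1 ∨ z = -1) → x⁻¹ * g' * x ≠ z := fun z hz e => by
            have : g' = x * z * x⁻¹ := by rw [← e]; group
            apply he
            rcases hz with rfl | rfl <;> simp at this <;> rw [this] <;> simp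
          obtain ⟨-, -, hr⟩ := torus_elem h2 C hC hcard hx (hn 1 (Or.inl rfl)) (hn (-1) (Or.inr rfl))
          exact hr ((g' : M2) 0 0) (by rw [htr]; linear_combination -hd)
        rw [if_neg hgT, hc0, hi0]
        simp
  have hG : (Nat.card S2 : ℂ) = q * (q ^ 2 - 1) := by
    rw [Linear.card_SL_two, Nat.cast_mul, Nat.cast_sub (Nat.one_le_pow _ _ Fintype.card_pos)]
    push_cast
    rfl
  have hI' : ∑ g : S2, ind C θ g * conj (ind C θ g) =
      (Nat.card S2 : ℂ) * Cfsg.classInner (ind C θ) (ind C θ) := by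
    rw [Cfsg.classInner, ← mul_assoc, mul_inv_cancel₀ (Nat.cast_ne_zero.mpr Nat.card_pos.ne'), one_mul]
  rw [Cfsg.classInner, Finset.sum_congr rfl (fun g _ => hD g), Finset.sum_add_distrib, hI',
    Finset.sum_add_distrib, Finset.sum_add_distrib, Finset.sum_ite_eq', Finset.sum_ite_eq',
    Finset.sum_ite_mem, Finset.univ_inter, Finset.sum_const, nsmul_eq_mul, mul_one, hTcard, hG]
  simp only [Finset.mem_univ, if_true]
  have hq0 : q ≠ 0 := Nat.cast_ne_zero.mpr Fintype.card_ne_zero
  have hq1 : q + 1 ≠ 0 := Nat.cast_add_one_ne_zero _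
  have hqm : q - 1 ≠ 0 := by
    rw [hqdef, sub_ne_zero, Nat.cast_ne_one]
    exact Fintype.one_lt_card.ne'
  rw [show q ^ 2 - 1 = (q - 1) * (q + 1) by ring]
  field_simp
  linear_combination q * hI

end Torus

end Cfsg.Agent.Linear.CuspSeries
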