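import Cfsg.Agent.Linear.CuspSeries
import Cfsg.Agent.H43.Virtual
import Cfsg.Agent.CharBasic.Integral
import Cfsg.Agent.Linear.TwoTorus

/-!
Irreducibility and exhaustion of the discrete series of SL₂ in odd characteristic.
-/

set_option autoImplicit false
set_option linter.unusedSectionVars false

namespace Cfsg.Agent.Linear.CuspSeries

open Matrix Finset Cfsg.Agent.Linear
open scoped ComplexConjugate

variable {F : Type*} [Field F] [Fintype F] [DecidableEq F]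

local notation "M2" => Matrix (Fin 2) (Fin 2) F
local notation "S2" => Matrix.SpecialLinearGroup (Fin 2) F

theorem exists_hom_of_gen {C : Type*} [Group C] [Finite C] {g : C}
    (hg : ∀ x, x ∈ Subgroup.zpowers g) {u : ℂˣ} (hu : u ^ Nat.card C = 1) :
    ∃ θ : C →* ℂˣ, θ g = u :=
  ⟨monoidHomOfForallMemZpowers hg (g' := u)
      (by rw [orderOf_eq_card_of_forall_mem_zpowers hg]; exact orderOf_dvd_of_pow_eq_one hu),
    monoidHomOfForallMemZpowers_apply_gen _ _⟩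

variable (h2 : (2 : F) ≠ 0) (C : Subgroup (Matrix.SpecialLinearGroup (Fin 2) F)) (hC : IsCyclic C)
  (hcard : Nat.card C = Fintype.card F + 1)

include h2 hC hcard

theorem exists_alpha (θ : C →* ℂˣ) :
    ∃ α : MulChar F ℂ, α (-1) = (θ ⟨-1, neg_one_mem h2 C hC hcard⟩ : ℂ) := by
  set z : C := ⟨-1, neg_one_mem h2 C hC hcard⟩
  have hz : (θ z : ℂ) ^ 2 = 1 := by
    rw [← Units.val_pow_eq_pow_val, ← map_pow, show z ^ 2 = 1 from Subtype.ext (by simp [z, sq]),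
      map_one, Units.val_one]
  rcases sq_eq_one_iff.mp hz with e | e
  · exact ⟨1, by rw [e, MulChar.one_apply (isUnit_iff_ne_zero.mpr (neg_ne_zero.mpr one_ne_zero))]⟩
  · obtain ⟨α, hα⟩ := MulChar.exists_apply_ne_one_of_hasEnoughRootsOfUnity F ℂ
      (a := (-1 : F)) (fun h => h2 (by linear_combination -h))
    refine ⟨α, ?_⟩
    have hs : α (-1) ^ 2 = 1 := by rw [← map_pow, neg_one_sq, map_one]
    rw [e, (sq_eq_one_iff.mp hs).resolve_left hα]

theorem sum_sq_eq [Fintype C] (θ : C →* ℂˣ) (h : ∃ c : C, θ c ^ 2 ≠ 1) :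
    ∑ c : C, (θ c : ℂ) ^ 2 = 0 := by
  classical
  let f : C →* ℂ := (powMonoidHom 2).comp ((Units.coeHom ℂ).comp θ)
  have hf : f ≠ 1 := fun e => by
    obtain ⟨c, hc⟩ := h
    exact hc (Units.ext (by simpa [f] using DFunLike.congr_fun e c))
  have := sum_hom_units f
  rw [if_neg hf] at this
  simpa [f] using this

theorem irr_cusp (θ : C →* ℂˣ) (h : ∃ c : C, θ c ^ 2 ≠ 1) (α : MulChar F ℂ)
    (hα : α (-1) = (θ ⟨-1, neg_one_mem h2 C hC hcard⟩ : ℂ)) :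
    Cfsg.IsIrrCharacter S2 (cusp C θ α) ∧ cusp C θ α 1 = (Fintype.card F : ℂ) - 1 := by
  classical
  have : Fintype C := Fintype.ofFinite _
  have h1 : cusp C θ α 1 = (Fintype.card F : ℂ) - 1 := by
    rw [cusp_central h2 C hC hcard θ α hα (Or.inl rfl) C.one_mem,
      show (⟨1, C.one_mem⟩ : C) = 1 from rfl, map_one, Units.val_one, mul_one]
  have hn := norm_cusp h2 C hC hcard θ α hα
  rw [sum_sq_eq h2 C hC hcard θ h, add_zero] at hn
  have hI : Cfsg.classInner (cusp C θ α) (cusp C θ α) = 1 :=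
    mul_left_cancel₀ (Nat.cast_add_one_ne_zero (Fintype.card F)) (by rw [hn, mul_one])
  obtain ⟨ψ, e | e⟩ := CharInduce.IsGen.eq_irr_or_neg (isGen_cusp h2 C hC hcard θ α) hI
  · exact ⟨e ▸ ψ.2, h1⟩
  · obtain ⟨d, hd, hd1⟩ := CharBasic.IsIrr.exists_degree ψ.2
    rw [e, Pi.neg_apply, hd1] at h1
    have : ((d + Fintype.card F : ℕ) : ℂ) = ((1 : ℕ) : ℂ) := by
      push_cast
      linear_combination -h1
    have := Nat.cast_injective this
    have := Fintype.card_pos (α := F)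
    omega

theorem exists_series (θ : C →* ℂˣ) (h : ∃ c : C, θ c ^ 2 ≠ 1) :
    ∃ χ : S2 → ℂ, Cfsg.IsIrrCharacter S2 χ ∧ χ 1 = (Fintype.card F : ℂ) - 1 ∧
      (∀ c : C, (c : S2) ∉ Subgroup.center S2 → χ c = -((θ c).val + (θ c)⁻¹.val)) ∧
      (∀ c : C, (c : S2) ∈ Subgroup.center S2 → ∀ g : S2, χ ((c : S2) * g) = (θ c).val * χ g) ∧
      (∀ g : S2, (g : M2) 0 1 = 0 → (g : M2) 1 0 = 0 → (g : M2) 0 0 ^ 2 ≠ 1 → χ g = 0) ∧
      (∀ g : S2, (g : M2) 1 0 = 0 → (g : M2) 0 0 = 1 → (g : M2) 1 1 = 1 → (g : M2) 0 1 ≠ 0 →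
        χ g = -1) := by
  obtain ⟨α, hα⟩ := exists_alpha h2 C hC hcard θ
  obtain ⟨hirr, h1⟩ := irr_cusp h2 C hC hcard θ h α hα
  refine ⟨_, hirr, h1, fun c hc => ?_, fun c hc g => ?_, fun g _ h10 hne => ?_,
    fun g h10 h00 h11 h01 => ?_⟩
  · rw [mem_center_SL_two, not_or] at hc
    exact cusp_torus h2 C hC hcard θ α hα c.2 hc.1 hc.2
  · have hcz := cusp_central h2 C hC hcard θ α hα (mem_center_SL_two.mp hc) c.2
    obtain ⟨n, ρ, hρ, e⟩ := hirr
    obtain ⟨ω, -, -, hω⟩ := CharBasic.exists_central_scalar ρ hc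
    rw [e] at hω
    have hω1 := hω 1
    rw [one_mul, hcz, h1] at hω1
    have hq1 : (Fintype.card F : ℂ) - 1 ≠ 0 := by
      rw [sub_ne_zero, Nat.cast_ne_one]
      exact Fintype.one_lt_card.ne'
    have hωθ : ω = (θ c : ℂ) := (mul_right_cancel₀ hq1 (by linear_combination hω1)).symm
    rw [← hωθ, show (c : S2) * g = g * c from (Subgroup.mem_center_iff.mp hc g).symm, hω]
  · refine cusp_upper_ne h2 C hC hcard θ α hα h10 fun e => hne ?_
    have hd := SL_det_two g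
    rw [h10, mul_zero, sub_zero, ← e] at hd
    rw [sq, hd]
  · rw [(cusp_upper_eq h2 C hC hcard θ α hα h10 (h00.trans h11.symm) h01).2, if_pos h00]

theorem exists_gen : ∃ g : C, (∀ x, x ∈ Subgroup.zpowers g) ∧
    ((g : S2) ≠ 1 ∧ (g : S2) ≠ -1) := by
  obtain ⟨g, hg⟩ := hC.exists_generator
  have ho := orderOf_eq_card_of_forall_mem_zpowers hg
  rw [hcard] at ho
  have hq := Fintype.one_lt_card (α := F)
  refine ⟨g, hg, fun e => ?_, fun e => ?_⟩
  · rw [OneMemClass.coe_eq_one.mp e, orderOf_one] at ho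
    omega
  · have : g ^ 2 = 1 := Subtype.ext (by simp [e, sq])
    have := Nat.le_of_dvd two_pos (orderOf_dvd_of_pow_eq_one this)
    omega

theorem exhaust (hq : 5 ≤ Fintype.card F) {χ : S2 → ℂ} (hχ : Cfsg.IsIrrCharacter S2 χ)
    (h1 : χ 1 = (Fintype.card F : ℂ) - 1) :
    ∃ θ : C →* ℂˣ, (∃ c : C, θ c ^ 2 ≠ 1) ∧
      ∀ c : C, (c : S2) ∉ Subgroup.center S2 → χ c = -((θ c).val + (θ c)⁻¹.val) := by
  classical
  have : DecidableEq (MulChar F ℂ) := Classical.decEq _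
  obtain ⟨g, hg, hg1, hg1'⟩ := exists_gen h2 C hC hcard
  set m := Fintype.card F + 1
  have hζ := Complex.isPrimitiveRoot_exp m (Nat.succ_ne_zero _)
  set ζ := Complex.exp (2 * Real.pi * Complex.I / m)
  have hζu := hζ.isUnit_unit (Nat.succ_ne_zero _)
  set u := (hζ.isUnit (Nat.succ_ne_zero _)).unit
  have hθ : ∀ j : ℕ, ∃ θ : C →* ℂˣ, θ g = u ^ j := fun j =>
    exists_hom_of_gen hg (by rw [hcard, ← pow_mul, mul_comm, pow_mul, hζu.pow_eq_one, one_pow])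
  choose θ hθ using hθ
  set k := (Fintype.card F - 1) / 2
  have hθne : ∀ j : Fin k, ∃ c : C, θ (j + 1) c ^ 2 ≠ 1 := fun j => ⟨g, fun e => by
    rw [hθ, ← pow_mul, hζu.pow_eq_one_iff_dvd] at e
    have := Nat.le_of_dvd (by omega) e
    have := j.2
    omega⟩
  choose α hα using fun j : Fin k => exists_alpha h2 C hC hcard (θ (j + 1))
  let Big := {φ : Cfsg.IrrCharacter S2 //
    H53.IsCuspS (φ : S2 → ℂ) ∧ (φ : S2 → ℂ) 1 = (Fintype.card F : ℂ) - 1}
  have hcases : ∀ φ : S2 → ℂ, Cfsg.IsIrrCharacter S2 φ → φ 1 = (Fintype.card F : ℂ) - 1 →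
      H53.IsCuspS φ := by
    intro φ hφ h
    obtain ⟨d, hd, hc⟩ := H53.sl_cases_odd_nat h2 hφ
    have hd' : d = Fintype.card F - 1 := by
      have : (d : ℂ) = ((Fintype.card F - 1 : ℕ) : ℂ) := by
        rw [← hd, h, Nat.cast_sub Fintype.card_pos, Nat.cast_one]
      exact Nat.cast_injective this
    rcases hc with ⟨-, e⟩ | ⟨-, e⟩ | ⟨-, e⟩ | ⟨-, e⟩ | ⟨-, e⟩ | ⟨hc, -⟩ <;>
      first | exact hc | omega
  let f : Fin k → Big := fun j =>
    ⟨⟨_, (irr_cusp h2 C hC hcard _ (hθne j) _ (hα j)).1⟩,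
      hcases _ (irr_cusp h2 C hC hcard _ (hθne j) _ (hα j)).1
        (irr_cusp h2 C hC hcard _ (hθne j) _ (hα j)).2,
      (irr_cusp h2 C hC hcard _ (hθne j) _ (hα j)).2⟩
  have hinj : Function.Injective f := by
    intro i j e
    have e' := congrArg (fun φ : Big => (φ.1 : S2 → ℂ) g) e
    simp only [f, cusp_torus h2 C hC hcard _ _ (hα i) g.2 hg1 hg1',
      cusp_torus h2 C hC hcard _ _ (hα j) g.2 hg1 hg1', Subtype.coe_eta, hθ, neg_inj,
      Units.val_inv_eq_inv_val] at e'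
    set a := ((u ^ ((i : ℕ) + 1) : ℂˣ) : ℂ) with ha
    set b := ((u ^ ((j : ℕ) + 1) : ℂˣ) : ℂ) with hb
    have ha0 : a ≠ 0 := Units.ne_zero _
    have hb0 : b ≠ 0 := Units.ne_zero _
    have : (a - b) * (a * b - 1) = 0 := by
      field_simp at e'
      linear_combination e'
    rcases mul_eq_zero.mp this with e1 | e1
    · have := Units.ext (sub_eq_zero.mp e1)
      have hlt : ∀ x : Fin k, (x : ℕ) + 1 < m := fun x => by have := x.2; omega
      exact Fin.ext (by have := hζu.pow_inj (hlt i) (hlt j) this; omega)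
    · have : u ^ ((i : ℕ) + 1 + ((j : ℕ) + 1)) = 1 := Units.ext (by
        rw [pow_add, Units.val_mul, ← ha, ← hb, Units.val_one]
        exact sub_eq_zero.mp e1)
      have := Nat.le_of_dvd (by omega) (hζu.pow_eq_one_iff_dvd _ |>.mp this)
      have := i.2
      have := j.2
      omega
  have : Fintype Big := Fintype.ofFinite _
  have hbij : Function.Bijective f := by
    rw [Fintype.bijective_iff_injective_and_card]
    refine ⟨hinj, ?_⟩
    rw [Fintype.card_fin, ← Nat.card_eq_fintype_card]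
    exact ((H53.card_cusp_odd h2).2.1).symm
  obtain ⟨j, hj⟩ := hbij.2 ⟨⟨χ, hχ⟩, hcases χ hχ h1, h1⟩
  refine ⟨θ (j + 1), hθne j, fun c hc => ?_⟩
  have e : χ = cusp C (θ (j + 1)) (α j) := (congrArg (fun φ : Big => (φ.1 : S2 → ℂ)) hj).symm
  rw [mem_center_SL_two, not_or] at hc
  rw [e]
  exact cusp_torus h2 C hC hcard _ _ (hα j) c.2 hc.1 hc.2

theorem exhaust_three (hq : Fintype.card F = 3) {χ : S2 → ℂ} (hχ : Cfsg.IsIrrCharacter S2 χ)
    (h1 : χ 1 = (Fintype.card F : ℂ) - 1) :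
    ∃ θ : C →* ℂˣ, (∃ c : C, θ c ^ 2 ≠ 1) ∧
      ∀ c : C, (c : S2) ∉ Subgroup.center S2 → χ c = -((θ c).val + (θ c)⁻¹.val) := by
  classical
  have : DecidableEq (MulChar F ℂ) := Classical.decEq _
  obtain ⟨g, hg, hg1, hg1'⟩ := exists_gen h2 C hC hcard
  obtain ⟨θ, hθ⟩ := exists_hom_of_gen hg (u := Units.mk0 Complex.I Complex.I_ne_zero)
    (Units.ext (by rw [hcard, hq]; simp))
  have hm1 : (-1 : ℂ) ≠ 1 := by norm_num
  refine ⟨θ, ⟨g, fun e => hm1 ?_⟩, fun c hc => ?_⟩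
  · have := congrArg Units.val e
    rwa [hθ, Units.val_pow_eq_pow_val, Units.val_mk0, Units.val_one, Complex.I_sq] at this
  · rw [mem_center_SL_two, not_or] at hc
    have hne := (torus_elem h2 C hC hcard c.2 hc.1 hc.2).2.2
    have hne' : ∀ (t : F) (v : Fin 2 → F), v ≠ 0 → ((c : S2) : M2).mulVec v ≠ t • v :=
      Linear.noEigen_iff.mpr fun t => by rw [(c : S2).2]; exact hne t
    have hχc : χ c = 0 := by
      obtain ⟨d, hd, hcs⟩ := H53.sl_cases_odd_nat h2 hχ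
      have hd' : d = 2 := by
        have : (d : ℂ) = ((2 : ℕ) : ℂ) := by rw [← hd, h1, hq]; norm_num
        exact Nat.cast_injective this
      rcases hcs with ⟨-, e⟩ | ⟨-, e⟩ | ⟨-, e⟩ | ⟨⟨ε, hε, hε1, H⟩, -⟩ | ⟨-, e⟩ | ⟨hcu, -⟩ <;>
        try omega
      · exact H.apply_noEigen hε hε1 h2 hne'
      · exact H53.cusp_noEigen_three hq hχ hcu h1 hne'
    have hsq : ∀ x : S2, x ∈ C → x ^ 4 = 1 := fun x hx => by
      have := congrArg Subtype.val (pow_card_eq_one' (x := (⟨x, hx⟩ : C)))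
      rw [hcard, hq] at this
      simpa using this
    have hstep : ∀ x : C, (x : S2) ≠ 1 → (x : S2) ≠ -1 → ((x ^ 2 : C) : S2) = -1 := by
      intro x a b
      have h4 := hsq _ x.2
      rw [pow_succ' _ 3, pow_succ' _ 2, sq, ← mul_assoc] at h4
      rcases eq_one_or_neg_one_of_sq h2 h4 with e | e
      · rcases eq_one_or_neg_one_of_sq h2 e with e' | e'
        · exact absurd e' a
        · exact absurd e' b
      · rw [SubmonoidClass.coe_pow, sq]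
        exact e
    have hcg : c ^ 2 = g ^ 2 := Subtype.ext ((hstep c hc.1 hc.2).trans (hstep g hg1 hg1').symm)
    have hθc : (θ c : ℂ) ^ 2 = -1 := by
      rw [← Units.val_pow_eq_pow_val, ← map_pow, hcg, map_pow, hθ, Units.val_pow_eq_pow_val,
        Units.val_mk0, Complex.I_sq]
    have hθ0 : (θ c : ℂ) ≠ 0 := Units.ne_zero _
    rw [hχc, Units.val_inv_eq_inv_val]
    field_simp
    linear_combination hθc

omit hC hcard

theorem signed_data [DecidableEq (MulChar F ℂ)] (hq : 5 ≤ Fintype.card F) {δ : F} (hδ : ¬ IsSquare δ)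
    {μ : S2 → ℂ} (hμ : H43.Signed μ) :
    ∃ D S : ℤ, 2 * μ 1 = (D : ℂ) ∧ μ (H53.upS 1 1) + μ (H53.upS 1 δ) = (S : ℂ) ∧
      ((D = 2 ∧ S = 2) ∨ (D = 2 * Fintype.card F ∧ S = 0) ∨
        (D = 2 * Fintype.card F + 2 ∧ S = 2) ∨ (D = Fintype.card F + 1 ∧ S = 1) ∨
        (D = Fintype.card F - 1 ∧ S = -1) ∨ (D = 2 * Fintype.card F - 2 ∧ S = -2) ∨
        (D = -2 ∧ S = -2) ∨ (D = -(2 * Fintype.card F) ∧ S = 0) ∨
        (D = -(2 * Fintype.card F + 2) ∧ S = -2) ∨ (D = -(Fintype.card F + 1) ∧ S = -1) ∨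
        (D = -(Fintype.card F - 1) ∧ S = 1) ∨ (D = -(2 * Fintype.card F - 2) ∧ S = 2)) ∧
      (D = -2 → μ = fun _ => -1) ∧ (D = 2 * Fintype.card F → μ = H53.stS) ∧
      (D = Fintype.card F - 1 →
        Cfsg.IsIrrCharacter S2 μ ∧ H53.IsCuspS μ ∧ 2 * μ 1 = (Fintype.card F : ℂ) - 1) := by
  classical
  have hu : ∀ c : F, ((H53.upS 1 c : S2) : M2) 1 0 = 0 ∧ ((H53.upS 1 c : S2) : M2) 0 0 = 1 ∧
      ((H53.upS 1 c : S2) : M2) 1 1 = 1 ∧ ((H53.upS 1 c : S2) : M2) 0 1 = c := fun c => by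
    simp [H53.coe_upS]
  have hδ0 := H53.ne_zero_of_not_isSquare hδ
  have hsp : ∀ (α : MulChar F ℂ) (c : F), c ≠ 0 → H53.sprin α (H53.upS 1 c) = 1 := by
    intro α c hc
    obtain ⟨a, b, d, e⟩ := hu c
    rw [H53.sprin_upper α a, b, d, e]
    simp [hc]
  have key : ∀ ψ : S2 → ℂ, Cfsg.IsIrrCharacter S2 ψ → ∃ D S : ℤ, 2 * ψ 1 = (D : ℂ) ∧
      ψ (H53.upS 1 1) + ψ (H53.upS 1 δ) = (S : ℂ) ∧
      ((D = 2 ∧ S = 2 ∧ ψ = fun _ => 1) ∨ (D = 2 * Fintype.card F ∧ S = 0 ∧ ψ = H53.stS) ∨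
        (D = 2 * Fintype.card F + 2 ∧ S = 2) ∨ (D = Fintype.card F + 1 ∧ S = 1) ∨
        (D = Fintype.card F - 1 ∧ S = -1 ∧ H53.IsCuspS ψ) ∨
        (D = 2 * Fintype.card F - 2 ∧ S = -2)) := by
    intro ψ hψ
    rcases H53.irr_cases hψ with rfl | rfl | ⟨α, hα, rfl⟩ | ⟨ε, hε, hε1, H⟩ | hc
    · exact ⟨2, 2, by norm_num, by norm_num, Or.inl ⟨rfl, rfl, rfl⟩⟩
    · exact ⟨2 * Fintype.card F, 0, by rw [H53.stS_one]; push_cast; ring,
        by simp [H53.stS, hsp 1 1 one_ne_zero, hsp 1 δ hδ0], Or.inr (Or.inl ⟨rfl, rfl, rfl⟩)⟩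
    · exact ⟨2 * Fintype.card F + 2, 2, by rw [H53.sprin_one]; push_cast; ring,
        by rw [hsp α 1 one_ne_zero, hsp α δ hδ0]; norm_num, Or.inr (Or.inr (Or.inl ⟨rfl, rfl⟩))⟩
    · exact ⟨Fintype.card F + 1, 1, by rw [H.two_degree hε hε1 hδ]; push_cast; ring,
        by rw [H.zsum hε hε1 hδ]; norm_num, Or.inr (Or.inr (Or.inr (Or.inl ⟨rfl, rfl⟩)))⟩
    · rcases hc.odd_cases hψ hδ with ⟨hd, hs, -⟩ | ⟨hd, hs, hs'⟩
      · exact ⟨Fintype.card F - 1, -1, by rw [hd]; push_cast; ring, by rw [hs]; norm_num,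
          Or.inr (Or.inr (Or.inr (Or.inr (Or.inl ⟨rfl, rfl, hc⟩))))⟩
      · exact ⟨2 * Fintype.card F - 2, -2, by rw [hd]; push_cast; ring,
          by rw [hs, hs']; norm_num, Or.inr (Or.inr (Or.inr (Or.inr (Or.inr ⟨rfl, rfl⟩))))⟩
  rcases hμ with h | h
  · obtain ⟨D, S, hD, hS, hc⟩ := key μ h
    refine ⟨D, S, hD, hS, by tauto, fun e => ?_, fun e => ?_, fun e => ?_⟩
    · omega
    · rcases hc with ⟨a, -⟩ | ⟨-, -, r⟩ | ⟨a, -⟩ | ⟨a, -⟩ | ⟨a, -⟩ | ⟨a, -⟩ <;> first | exact r | omega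
    · rcases hc with ⟨a, -⟩ | ⟨a, -⟩ | ⟨a, -⟩ | ⟨a, -⟩ | ⟨-, -, r⟩ | ⟨a, -⟩ <;>
        first | omega | exact ⟨h, r, by rw [hD, e]; push_cast; ring⟩
  · obtain ⟨D, S, hD, hS, hc⟩ := key _ h
    refine ⟨-D, -S, by push_cast; rw [← hD, Pi.neg_apply]; ring,
      by push_cast; rw [← hS, Pi.neg_apply, Pi.neg_apply]; ring, by
        rcases hc with ⟨a, b, -⟩ | ⟨a, b, -⟩ | ⟨a, b⟩ | ⟨a, b⟩ | ⟨a, b, -⟩ | ⟨a, b⟩ <;> simp [a, b],
      fun e => ?_,
      fun e => ?_, fun e => ?_⟩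
    · rcases hc with ⟨-, -, r⟩ | ⟨a, -⟩ | ⟨a, -⟩ | ⟨a, -⟩ | ⟨a, -⟩ | ⟨a, -⟩ <;>
        first | omega | (funext x; have := congrFun r x; rw [Pi.neg_apply] at this; linear_combination -this)
    · omega
    · omega

include hC hcard in
/-- The virtual character of the quadratic parameter is a sum of two small cuspidal characters. -/
theorem quadratic_split [DecidableEq (MulChar F ℂ)] (hq : 5 ≤ Fintype.card F) (θ : C →* ℂˣ)
    (α : MulChar F ℂ) (hα : α (-1) = (θ ⟨-1, neg_one_mem h2 C hC hcard⟩ : ℂ))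
    (hsq : ∀ c : C, θ c ^ 2 = 1) {g : C} (hg1 : (g : S2) ≠ 1) (hg1' : (g : S2) ≠ -1)
    (hθg : (θ g : ℂ) = -1) :
    ∃ μ ν : S2 → ℂ, μ ≠ ν ∧ cusp C θ α = μ + ν ∧
      (Cfsg.IsIrrCharacter S2 μ ∧ H53.IsCuspS μ ∧ 2 * μ 1 = (Fintype.card F : ℂ) - 1) ∧
      (Cfsg.IsIrrCharacter S2 ν ∧ H53.IsCuspS ν ∧ 2 * ν 1 = (Fintype.card F : ℂ) - 1) := by
  classical
  have : Fintype C := Fintype.ofFinite _
  have hn := norm_cusp h2 C hC hcard θ α hα
  rw [Finset.sum_congr rfl (g := fun _ => (1 : ℂ)) (fun c _ => by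
      rw [← Units.val_pow_eq_pow_val, hsq, Units.val_one]), Finset.sum_const, Finset.card_univ,
    ← Nat.card_eq_fintype_card (α := C), hcard, nsmul_eq_mul, mul_one] at hn
  push_cast at hn
  have hI : Cfsg.classInner (cusp C θ α) (cusp C θ α) = 2 :=
    mul_left_cancel₀ (Nat.cast_add_one_ne_zero (Fintype.card F)) (by rw [hn]; ring)
  obtain ⟨μ, ν, hμ, hν, horth, he⟩ := H43.signed_pair_of_norm_two (isGen_cusp h2 C hC hcard θ α) hI
  obtain ⟨δ, hδ⟩ := H53.exists_not_isSquare h2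
  obtain ⟨D, S, hD, hS, hc, hm, hs, hk⟩ := signed_data h2 hq hδ hμ
  obtain ⟨D', S', hD', hS', hc', hm', hs', hk'⟩ := signed_data h2 hq hδ hν
  have h1 : cusp C θ α 1 = (Fintype.card F : ℂ) - 1 := by
    rw [cusp_central h2 C hC hcard θ α hα (Or.inl rfl) C.one_mem,
      show (⟨1, C.one_mem⟩ : C) = 1 from rfl, map_one, Units.val_one, mul_one]
  have hu : ∀ c : F, c ≠ 0 → cusp C θ α (H53.upS 1 c) = -1 := fun c hc => by
    rw [(cusp_upper_eq h2 C hC hcard θ α hα (g := H53.upS 1 c) (by simp [H53.coe_upS])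
      (by simp [H53.coe_upS]) (by simp [H53.coe_upS, hc])).2, if_pos (by simp [H53.coe_upS])]
  have e1 : D + D' = 2 * Fintype.card F - 2 := by
    have := congrFun he 1
    rw [h1, Pi.add_apply] at this
    have h' : ((D + D' : ℤ) : ℂ) = ((2 * Fintype.card F - 2 : ℤ) : ℂ) := by
      push_cast
      rw [← hD, ← hD']
      linear_combination -2 * this
    exact_mod_cast h'
  have e2 : S + S' = -2 := by
    have a := congrFun he (H53.upS 1 1)
    have b := congrFun he (H53.upS 1 δ)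
    rw [hu 1 one_ne_zero, Pi.add_apply] at a
    rw [hu δ (H53.ne_zero_of_not_isSquare hδ), Pi.add_apply] at b
    have h' : ((S + S' : ℤ) : ℂ) = ((-2 : ℤ) : ℂ) := by
      push_cast
      rw [← hS, ← hS']
      linear_combination -a - b
    exact_mod_cast h'
  have hcases : (D = -2 ∧ D' = 2 * Fintype.card F) ∨ (D = 2 * Fintype.card F ∧ D' = -2) ∨
      (D = Fintype.card F - 1 ∧ D' = Fintype.card F - 1) := by
    clear hm hs hk hm' hs' hk' hD hS hD' hS' horth hI hn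
    rcases hc with ⟨a, a'⟩ | ⟨a, a'⟩ | ⟨a, a'⟩ | ⟨a, a'⟩ | ⟨a, a'⟩ | ⟨a, a'⟩ | ⟨a, a'⟩ | ⟨a, a'⟩ |
        ⟨a, a'⟩ | ⟨a, a'⟩ | ⟨a, a'⟩ | ⟨a, a'⟩ <;>
      rcases hc' with ⟨b, b'⟩ | ⟨b, b'⟩ | ⟨b, b'⟩ | ⟨b, b'⟩ | ⟨b, b'⟩ | ⟨b, b'⟩ | ⟨b, b'⟩ | ⟨b, b'⟩ |
        ⟨b, b'⟩ | ⟨b, b'⟩ | ⟨b, b'⟩ | ⟨b, b'⟩ <;> omega
  have hne : ∀ t : F, t ^ 2 - t * ((g : S2) : M2).trace + 1 ≠ 0 :=
    (torus_elem h2 C hC hcard g.2 hg1 hg1').2.2
  have hfg : cusp C θ α (g : S2) = 2 := by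
    rw [cusp_torus h2 C hC hcard θ α hα g.2 hg1 hg1', Units.val_inv_eq_inv_val, Subtype.coe_eta,
      hθg]
    norm_num
  have hst : H53.stS (g : S2) = -1 := (H53.stS_values (g : S2)).2.1
    (Linear.noEigen_iff.mpr fun t => by rw [(g : S2).2]; exact hne t)
  have hfg' := congrFun he (g : S2)
  rw [hfg, Pi.add_apply] at hfg'
  rcases hcases with ⟨a, b⟩ | ⟨a, b⟩ | ⟨a, b⟩
  · rw [hm a, hs' b, hst] at hfg'
    norm_num at hfg'
  · rw [hs a, hm' b, hst] at hfg'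
    norm_num at hfg'
  · refine ⟨μ, ν, fun e => ?_, he, hk a, hk' b⟩
    rw [e, CharBasic.classInner_irr_self (hk' b).1] at horth
    exact one_ne_zero horth

theorem half_value {χ : S2 → ℂ} [DecidableEq (MulChar F ℂ)] (hq : 5 ≤ Fintype.card F)
    (hχ : Cfsg.IsIrrCharacter S2 χ) (h1 : 2 * χ 1 = (Fintype.card F : ℂ) + 1) {g : S2}
    (h01 : (g : M2) 0 1 = 0) (h10 : (g : M2) 1 0 = 0) (hne : (g : M2) 0 0 ^ 2 ≠ 1) :
    (IsSquare ((g : M2) 0 0) → χ g = 1) ∧ (¬ IsSquare ((g : M2) 0 0) → χ g = -1) := by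
  classical
  obtain ⟨δ, hδ⟩ := H53.exists_not_isSquare h2
  obtain ⟨d, hd, hc⟩ := H53.sl_cases_odd_nat h2 hχ
  have hd' : 2 * d = Fintype.card F + 1 := by
    have : ((2 * d : ℕ) : ℂ) = ((Fintype.card F + 1 : ℕ) : ℂ) := by
      push_cast; rw [← hd, h1]
    exact Nat.cast_injective this
  obtain ⟨ε, hε, hε1, H⟩ : ∃ ε : MulChar F ℂ, ε ^ 2 = 1 ∧ ε ≠ 1 ∧ H53.IsHalf ε χ := by
    rcases hc with ⟨-, e⟩ | ⟨-, e⟩ | ⟨-, e⟩ | ⟨r, -⟩ | ⟨-, e⟩ | ⟨-, e⟩ <;> first | exact r | omega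
  have hq' : ε = H53.quadC F :=
    H53.mulChar_sq_unique hε ((quadraticChar_isQuadratic F).comp _).sq_eq_one hε1 (fun e =>
      quadraticChar_ne_one (H53.ringChar_ne_two h2)
        (MulChar.injective_ringHomComp (f := Int.castRingHom ℂ) Int.cast_injective
          (by simp only [MulChar.ringHomComp_one]; exact e)))
  have e := congrFun (H.eq_add hε hε1 hδ) g
  have hfix : H53.conjS (Units.mk0 δ (H53.ne_zero_of_not_isSquare hδ)) g = g := by
    apply SL_ext_two <;> simp [H53.coe_conjS, H53.conjMat, h01, h10]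
  obtain ⟨h0, h11⟩ := H53.entries_SL h10
  have hne' : (g : M2) 0 0 - (g : M2) 1 1 ≠ 0 := by
    rw [h11, sub_ne_zero]
    intro e
    exact hne (by rw [sq]; nth_rewrite 2 [e]; exact mul_inv_cancel₀ h0)
  rw [Pi.add_apply, hfix, H53.sprin_upper ε h10,
    Finset.card_eq_one.mpr ⟨0, by ext x; simp [h01, hne']⟩] at e
  have hεinv : ε ((g : M2) 1 1) = ε ((g : M2) 0 0) := by
    have h' : ε⁻¹ = ε := inv_eq_of_mul_eq_one_left (by rw [← sq, hε])
    rw [h11, ← MulChar.inv_apply' ε, h']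
  rw [hεinv, Nat.cast_one] at e
  have hv : χ g = ε ((g : M2) 0 0) := by linear_combination (-1 / 2 : ℂ) * e
  rw [hv, hq', H53.quadC_apply]
  exact ⟨fun h => by rw [(quadraticChar_one_iff_isSquare h0).mpr h]; simp,
    fun h => by rw [quadraticChar_neg_one_iff_not_isSquare.mpr h]; simp⟩

theorem small_cusp_value {χ : S2 → ℂ} [DecidableEq (MulChar F ℂ)] (hq : 5 ≤ Fintype.card F)
    (hχ : Cfsg.IsIrrCharacter S2 χ) (h1 : 2 * χ 1 = (Fintype.card F : ℂ) - 1) {g : S2}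
    (hg : ∀ (c : F) (v : Fin 2 → F), v ≠ 0 → (g : M2).mulVec v ≠ c • v) :
    (g ^ ((Fintype.card F + 1) / 2) = 1 → χ g = -1) ∧
      (g ^ ((Fintype.card F + 1) / 2) ≠ 1 → χ g = 1) := by
  classical
  have ht := H53.trace_sq_ne_four_of_noEigen h2 hg
  have hr : ∀ t : F, t ^ 2 - t * (g : M2).trace + 1 ≠ 0 := fun t => by
    have := Linear.noEigen_iff.mp hg t
    rwa [g.2] at this
  set C := Subgroup.centralizer ({g} : Set S2)
  have hC : IsCyclic C := Linear.isCyclic_centralizer ht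
  have hcard : Nat.card C = Fintype.card F + 1 := by
    rw [Linear.card_centralizer_nonsplit_SL ht hr]
  obtain ⟨g0, hgen, hg1, hg1'⟩ := exists_gen h2 C hC hcard
  obtain ⟨n, hn⟩ : 2 ∣ Fintype.card F + 1 := by
    have := FiniteField.odd_card_of_char_ne_two (H53.ringChar_ne_two h2)
    omega
  obtain ⟨θ, hθ⟩ := exists_hom_of_gen hgen (u := -1) (by rw [hcard, hn, pow_mul]; simp)
  have hgC : g ∈ C := Subgroup.mem_centralizer_singleton_iff.mpr rfl
  have hsq : ∀ c : C, θ c ^ 2 = 1 ∧ ((c : S2) ^ n = 1 ↔ θ c = 1) := by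
    intro c
    obtain ⟨k, hk⟩ := (isOfFinOrder_of_finite g0).mem_powers_iff_mem_zpowers.mpr (hgen c)
    have hk' : g0 ^ k = c := hk
    have ho := orderOf_eq_card_of_forall_mem_zpowers hgen
    rw [hcard, hn] at ho
    refine ⟨by rw [← hk', map_pow, hθ, ← pow_mul, mul_comm, pow_mul]; simp, ?_⟩
    rw [← hk', map_pow, hθ, neg_one_pow_eq_one_iff_even (by
      intro e; have := congrArg Units.val e; norm_num at this), even_iff_two_dvd,
      ← SubmonoidClass.coe_pow, OneMemClass.coe_eq_one, ← pow_mul, ← orderOf_dvd_iff_pow_eq_one, ho]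
    exact ⟨fun h => Nat.dvd_of_mul_dvd_mul_right (by omega) h, fun h => Nat.mul_dvd_mul_right h n⟩
  obtain ⟨α, hα⟩ := exists_alpha h2 C hC hcard θ
  obtain ⟨μ, ν, hne, he, hμ, hν⟩ := quadratic_split h2 C hC hcard hq θ α hα (fun c => (hsq c).1)
    hg1 hg1' (by rw [hθ]; simp)
  obtain ⟨δ, hδ⟩ := H53.exists_not_isSquare h2
  obtain ⟨d, hd, hc⟩ := H53.sl_cases_odd_nat h2 hχ
  have hd' : 2 * d + 1 = Fintype.card F := by
    have : ((2 * d + 1 : ℕ) : ℂ) = (Fintype.card F : ℂ) := by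
      push_cast; rw [← hd, h1]; ring
    exact Nat.cast_injective this
  have hcu : H53.IsCuspS χ := by
    rcases hc with ⟨-, e⟩ | ⟨-, e⟩ | ⟨-, e⟩ | ⟨-, e⟩ | ⟨r, -⟩ | ⟨-, e⟩ <;> first | exact r | omega
  set χ' := fun x : S2 => χ (H53.conjS (Units.mk0 δ (H53.ne_zero_of_not_isSquare hδ)) x) with hχ'
  have hχ'ne : χ' ≠ χ := by
    rcases hcu.odd_cases hχ hδ with ⟨-, -, h⟩ | ⟨h, -⟩
    · exact h
    · exfalso
      rw [hd] at h
      have : ((d + 1 : ℕ) : ℂ) = (Fintype.card F : ℂ) := by push_cast; linear_combination h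
      have := Nat.cast_injective this
      omega
  let P := {φ : Cfsg.IrrCharacter S2 //
    H53.IsCuspS (φ : S2 → ℂ) ∧ 2 * (φ : S2 → ℂ) 1 = (Fintype.card F : ℂ) - 1}
  have hP : Nat.card P = 2 := (H53.card_cusp_odd h2).1
  let x : P := ⟨⟨χ, hχ⟩, hcu, h1⟩
  let y : P := ⟨⟨χ', H53.isIrr_conjS hχ _⟩, hcu.conj _, by simp only [hχ', map_one]; exact h1⟩
  let a : P := ⟨⟨μ, hμ.1⟩, hμ.2⟩
  let b : P := ⟨⟨ν, hν.1⟩, hν.2⟩
  have hxy : y ≠ x := fun e => hχ'ne (congrArg (fun z : P => (z.1 : S2 → ℂ)) e)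
  have hab : a ≠ b := fun e => hne (congrArg (fun z : P => (z.1 : S2 → ℂ)) e)
  obtain ⟨p, p', -, hu⟩ := Nat.card_eq_two_iff.mp hP
  have hall : ∀ z : P, z = p ∨ z = p' := fun z => by
    have : z ∈ ({p, p'} : Set P) := by rw [hu]; trivial
    simpa using this
  have hsum : μ + ν = χ + χ' := by
    rcases hall a with ea | ea <;> rcases hall b with eb | eb <;>
      rcases hall x with ex | ex <;> rcases hall y with ey | ey <;>
      first
        | exact absurd (ea.trans eb.symm) hab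
        | exact absurd (ey.trans ex.symm) hxy
        | (rw [show μ = χ from congrArg (fun z : P => (z.1 : S2 → ℂ)) (ea.trans ex.symm),
            show ν = χ' from congrArg (fun z : P => (z.1 : S2 → ℂ)) (eb.trans ey.symm)])
        | (rw [show μ = χ' from congrArg (fun z : P => (z.1 : S2 → ℂ)) (ea.trans ey.symm),
            show ν = χ from congrArg (fun z : P => (z.1 : S2 → ℂ)) (eb.trans ex.symm)]; exact add_comm _ _)
  have hfix : χ' g = χ g :=
    H53.apply_conjS_of_noEigen h2 (CharBasic.IsIrr.isClassFunction hχ) hg _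
  have hg1g : g ≠ 1 ∧ g ≠ -1 := by
    constructor <;> intro e <;> apply ht <;> simp [e, Matrix.trace_fin_two] <;> norm_num
  have e := congrFun (he.trans hsum) g
  rw [Pi.add_apply, hfix, cusp_torus h2 C hC hcard θ α hα hgC hg1g.1 hg1g.2,
    Units.val_inv_eq_inv_val] at e
  have hn' : (Fintype.card F + 1) / 2 = n := by omega
  rw [hn']
  constructor <;> intro h
  · rw [(hsq ⟨g, hgC⟩).2.mp h, Units.val_one, inv_one] at e
    linear_combination (-1 / 2 : ℂ) * e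
  · have hθg : θ ⟨g, hgC⟩ ≠ 1 := fun e => h ((hsq ⟨g, hgC⟩).2.mpr e)
    have h' := congrArg Units.val (hsq ⟨g, hgC⟩).1
    rw [Units.val_pow_eq_pow_val, Units.val_one] at h'
    rcases sq_eq_one_iff.mp h' with e' | e'
    · exact absurd (Units.ext e') hθg
    · rw [e'] at e
      linear_combination (-1 / 2 : ℂ) * e

end Cfsg.Agent.Linear.CuspSeries
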