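import Cfsg.Agent.H54.RegularClasses
import Cfsg.Agent.H99.Diag
import Mathlib.FieldTheory.KummerPolynomial

/-!
Classes of elements of prime order `r` in `PGL_n(q)` when `r` divides `q - 1`.
-/

set_option autoImplicit false
set_option linter.unusedSectionVars false

namespace Cfsg.Agent.Linear.PGLOrderClasses

open Matrix Finset Polynomial
open scoped MatrixGroups

variable {F : Type*} [Field F] {n r : ℕ}

local notation "GLn" => GL (Fin n) F
local notation "Q" => GL (Fin n) F ⧸ Subgroup.center (GL (Fin n) F)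

/-- A scalar as an invertible matrix. -/
noncomputable def scal (s : Fˣ) : GLn := Matrix.GeneralLinearGroup.scalar (Fin n) s

theorem coe_scal (s : Fˣ) :
    ((scal s : GLn) : Matrix (Fin n) (Fin n) F) = Matrix.scalar (Fin n) (s : F) := rfl

theorem mem_center {g : GLn} : g ∈ Subgroup.center GLn ↔ ∃ s : Fˣ, scal s = g := by
  rw [Matrix.GeneralLinearGroup.center_eq_range_scalar]
  rfl

theorem scal_comm (s : Fˣ) (g : GLn) : scal s * g = g * scal s :=
  (Subgroup.mem_center_iff.mp (mem_center.mpr ⟨s, rfl⟩) g).symm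

theorem scal_mul (a b : Fˣ) : (scal (a * b) : GLn) = scal a * scal b :=
  map_mul (Matrix.GeneralLinearGroup.scalar (Fin n)) a b

theorem scal_one : (scal (1 : Fˣ) : GLn) = 1 := map_one (Matrix.GeneralLinearGroup.scalar (Fin n))

theorem scal_inj (hn : 0 < n) {a b : Fˣ} (h : (scal a : GLn) = scal b) : a = b := by
  have : Nonempty (Fin n) := ⟨⟨0, hn⟩⟩
  exact Units.ext (Matrix.scalar_inj.mp (congrArg Units.val h))

theorem scal_pow (a : Fˣ) (k : ℕ) : (scal (a ^ k) : GLn) = scal a ^ k :=
  map_pow (Matrix.GeneralLinearGroup.scalar (Fin n)) a k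

/-- The class of the image of a matrix. -/
def cls (g : GLn) : ConjClasses Q := ConjClasses.mk (g : Q)

theorem cls_eq_iff {g h : GLn} :
    cls g = cls h ↔ ∃ (c : GLn) (s : Fˣ), c * g * c⁻¹ = h * scal s := by
  rw [cls, cls, ConjClasses.mk_eq_mk_iff_isConj, isConj_iff]
  constructor
  · rintro ⟨c', hc⟩
    obtain ⟨c, rfl⟩ := QuotientGroup.mk_surjective c'
    rw [← QuotientGroup.mk_inv, ← QuotientGroup.mk_mul, ← QuotientGroup.mk_mul, eq_comm, QuotientGroup.eq,
      mem_center] at hc
    obtain ⟨s, hs⟩ := hc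
    exact ⟨c, s, by rw [hs, mul_inv_cancel_left]⟩
  · rintro ⟨c, s, e⟩
    refine ⟨(c : Q), ?_⟩
    rw [← QuotientGroup.mk_inv, ← QuotientGroup.mk_mul, ← QuotientGroup.mk_mul, e,
      QuotientGroup.mk_mul_of_mem _ (mem_center.mpr ⟨s, rfl⟩)]

theorem orderOf_mk_iff (hr : r.Prime) {g : GLn} :
    orderOf (g : Q) = r ↔ (∃ c : Fˣ, g ^ r = scal c) ∧ g ∉ Subgroup.center GLn := by
  have : Fact r.Prime := ⟨hr⟩
  rw [orderOf_eq_prime_iff, ← QuotientGroup.mk_pow, QuotientGroup.eq_one_iff, Ne, QuotientGroup.eq_one_iff,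
    mem_center]
  simp only [eq_comm]

/-- `x ^ r = scal c` transfers along equal classes. -/
theorem scal_transfer (hn : 0 < n) {g h : GLn} (e : cls g = cls h) {a b : Fˣ} (hg : g ^ r = scal a)
    (hh : h ^ r = scal b) : ∃ s : Fˣ, a = b * s ^ r := by
  obtain ⟨c, s, hc⟩ := cls_eq_iff.mp e
  refine ⟨s, scal_inj (n := n) hn ?_⟩
  have := congrArg (· ^ r) hc
  simp only [conj_pow, (show Commute h (scal s) from (scal_comm s h).symm).mul_pow, hg, hh] at this
  rw [← scal_comm a c, mul_inv_cancel_right] at this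
  rw [scal_mul, scal_pow, this]

/-! ### The split classes -/

section Split

variable [NeZero r]

/-- A root of unity indexed by a residue. -/
def eta (u : Fˣ) (k : ZMod r) : Fˣ := u ^ k.val

theorem eta_add {u : Fˣ} (hu : u ^ r = 1) (a b : ZMod r) : eta u (a + b) = eta u a * eta u b := by
  rw [eta, eta, eta, ZMod.val_add, ← pow_eq_pow_mod _ hu, pow_add]

theorem eta_injective {u : Fˣ} (hu : orderOf u = r) : Function.Injective (eta (r := r) u) := fun a b h =>
  ZMod.val_injective r (pow_injOn_Iio_orderOf (by rw [hu]; exact ZMod.val_lt a)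
    (by rw [hu]; exact ZMod.val_lt b) h)

theorem eta_pow {u : Fˣ} (hu : u ^ r = 1) (k : ZMod r) : eta u k ^ r = 1 := by
  rw [eta, ← pow_mul, mul_comm, pow_mul, hu, one_pow]

theorem exists_eta {u : Fˣ} (hu : orderOf u = r) {x : Fˣ} (hx : x ^ r = 1) : ∃ k : ZMod r, eta u k = x := by
  have hprim : IsPrimitiveRoot (u : F) r := by
    rw [← hu, ← orderOf_units]; exact IsPrimitiveRoot.orderOf _
  obtain ⟨i, hi, hix⟩ := hprim.eq_pow_of_pow_eq_one (ξ := (x : F))
    (by rw [← Units.val_pow_eq_pow_val, hx, Units.val_one])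
  exact ⟨(i : ZMod r), Units.ext (by rw [eta, ZMod.val_cast_of_lt hi, Units.val_pow_eq_pow_val, hix])⟩

/-- A diagonal matrix with prescribed roots of unity. -/
def diagEta (u : Fˣ) (v : Fin n → ZMod r) : GLn :=
  ⟨Matrix.diagonal fun i => (eta u (v i) : F), Matrix.diagonal fun i => (((eta u (v i))⁻¹ : Fˣ) : F),
    by rw [Matrix.diagonal_mul_diagonal]; simp, by rw [Matrix.diagonal_mul_diagonal]; simp⟩

theorem diagEta_pow {u : Fˣ} (hu : u ^ r = 1) (v : Fin n → ZMod r) : diagEta u v ^ r = 1 := by
  refine Units.ext ?_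
  rw [Units.val_pow_eq_pow_val, diagEta, Matrix.diagonal_pow, Units.val_one, ← Matrix.diagonal_one]
  congr 1
  funext i
  rw [Pi.pow_apply, ← Units.val_pow_eq_pow_val, eta_pow hu, Units.val_one]

theorem diagEta_mul_scal {u : Fˣ} (hu : u ^ r = 1) (v : Fin n → ZMod r) (k : ZMod r) :
    diagEta u v * scal (eta u k) = diagEta u (fun i => v i + k) := by
  refine Units.ext ?_
  rw [Units.val_mul, coe_scal, Matrix.scalar_apply]
  simp only [diagEta, Matrix.diagonal_mul_diagonal, eta_add hu, Units.val_mul]

theorem charpoly_diagEta (u : Fˣ) (v : Fin n → ZMod r) :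
    ((diagEta u v : GLn) : Matrix (Fin n) (Fin n) F).charpoly =
      (((Finset.univ.val.map v).map fun k => (eta u k : F)).map fun a => X - C a).prod := by
  rw [diagEta, Matrix.charpoly_diagonal, Multiset.map_map, Multiset.map_map]
  rfl

theorem exists_vec (m : Sym (ZMod r) n) : ∃ v : Fin n → ZMod r, Finset.univ.val.map v = m.1 := by
  obtain ⟨⟨l⟩, hm⟩ := m
  have hl : l.length = n := hm
  refine ⟨fun i => l[i.val]'(by rw [hl]; exact i.2), ?_⟩
  subst hl
  simp [Fin.univ_val_map]

theorem translate_fixed [hp : Fact r.Prime] {m : Multiset (ZMod r)} {k : ZMod r} (hk : k ≠ 0)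
    (h : m.map (· + k) = m) : ∀ j, m.count j = m.count 0 := by
  have hstep : ∀ j, m.count (j + k) = m.count j := fun j => by
    conv_lhs => rw [← h]
    exact Multiset.count_map_eq_count' _ _ (add_left_injective k) j
  have hnat : ∀ i : ℕ, m.count ((i : ZMod r) * k) = m.count 0 := by
    intro i
    induction i with
    | zero => simp
    | succ i ih => rw [Nat.cast_succ, add_mul, one_mul, hstep, ih]
  intro j
  have := hnat (j * k⁻¹).val
  rwa [ZMod.natCast_zmod_val, inv_mul_cancel_right₀ hk] at this

end Split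

section Count

variable [hr : Fact r.Prime] [Fintype F]

theorem isConj_of_charpoly (hrq : r ∣ Fintype.card F - 1) {g h : GLn} (hg : g ^ r = 1) (hh : h ^ r = 1)
    (hc : (g : Matrix (Fin n) (Fin n) F).charpoly = (h : Matrix (Fin n) (Fin n) F).charpoly) : IsConj g h := by
  obtain ⟨p, hp⟩ := CharP.exists F
  obtain ⟨f, hpp, hf⟩ := FiniteField.card F p
  have : Fact p.Prime := ⟨hpp⟩
  have hne : ¬ r = p := by
    rintro rfl
    have h1 : r ∣ Fintype.card F := hf ▸ dvd_pow_self r f.ne_zero
    have := Nat.dvd_sub h1 hrq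
    rw [show Fintype.card F - (Fintype.card F - 1) = 1 by have := Fintype.card_pos (α := F); omega,
      Nat.dvd_one] at this
    exact hr.out.one_lt.ne' this
  have hco : ∀ x : GLn, x ^ r = 1 → (orderOf x).Coprime p := fun x hx =>
    Nat.Coprime.coprime_dvd_left (orderOf_dvd_of_pow_eq_one hx) ((Nat.coprime_primes hr.out hpp).mpr hne)
  exact H54.isConj_GL p (hco g hg) (hco h hh) hc

theorem exists_conj_diag (hn : 0 < n) {u : Fˣ} (hu : orderOf u = r) {g : GLn} (hg : g ^ r = 1) :
    ∃ v : Fin n → ZMod r, cls g = cls (diagEta u v) := by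
  classical
  have : NeZero n := ⟨hn.ne'⟩
  have hprim : IsPrimitiveRoot (u : F) r := by
    rw [← hu, ← orderOf_units]; exact IsPrimitiveRoot.orderOf _
  have haev : aeval (g : Matrix (Fin n) (Fin n) F) (∏ c ∈ nthRootsFinset r (1 : F), (X - C c)) = 0 := by
    rw [← X_pow_sub_one_eq_prod hr.out.pos hprim, map_sub, map_pow, aeval_X, map_one,
      ← Units.val_pow_eq_pow_val, hg, Units.val_one, sub_self]
  obtain ⟨e, he, hP⟩ := H99.exists_specialLinear_conj_diagonal g _ haev
  obtain ⟨P, -, hPe⟩ := hP 1
  rw [Equiv.Perm.coe_one, Function.comp_id] at hPe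
  have her : ∀ i, e i ^ r = 1 := fun i => (mem_nthRootsFinset hr.out.pos 1).mp (he i)
  have hne : ∀ i, e i ≠ 0 := fun i h0 => by
    have := her i
    rw [h0, zero_pow hr.out.ne_zero] at this
    exact zero_ne_one this
  choose v hv using fun i => exists_eta (r := r) hu (x := Units.mk0 (e i) (hne i)) (Units.ext (by simp [her]))
  refine ⟨v, cls_eq_iff.mpr ⟨P⁻¹, 1, ?_⟩⟩
  rw [scal_one, mul_one, inv_inv]
  refine Units.ext (hPe.trans ?_)
  simp only [diagEta, hv, Units.val_mk0]

theorem exists_root_of_order (hrq : r ∣ Fintype.card F - 1) : ∃ u : Fˣ, orderOf u = r := by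
  classical
  exact exists_prime_orderOf_dvd_card r (G := Fˣ) (by rwa [Fintype.card_units])

/-- The split classes of order `r`. -/
def splitSet (F : Type*) [Field F] (n r : ℕ) : Set (ConjClasses (GL (Fin n) F ⧸ Subgroup.center (GL (Fin n) F))) :=
  {C | ∃ g : GL (Fin n) F, cls g = C ∧ g ∉ Subgroup.center (GL (Fin n) F) ∧ g ^ r = 1}

theorem card_splitSet (hn : 0 < n) (hrq : r ∣ Fintype.card F - 1) :
    r * Nat.card (splitSet F n r) + r =
      (n + r - 1).choose (r - 1) + (r - 1) * (if r ∣ n then 1 else 0) := by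
  classical
  have : NeZero r := ⟨hr.out.ne_zero⟩
  have : Nonempty (Fin n) := ⟨⟨0, hn⟩⟩
  obtain ⟨u, hu⟩ := exists_root_of_order (F := F) hrq
  have hur : u ^ r = 1 := hu ▸ pow_orderOf_eq_one u
  choose v hv using exists_vec (n := n) (r := r)
  let Φ : Sym (ZMod r) n → ConjClasses Q := fun m => cls (diagEta u (v m))
  have hroots : ∀ w w' : Fin n → ZMod r,
      ((diagEta u w : GLn) : Matrix (Fin n) (Fin n) F).charpoly =
        ((diagEta u w' : GLn) : Matrix (Fin n) (Fin n) F).charpoly →
      Finset.univ.val.map w = Finset.univ.val.map w' := by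
    intro w w' h
    rw [charpoly_diagEta, charpoly_diagEta] at h
    have h' := congrArg Polynomial.roots h
    rw [roots_multiset_prod_X_sub_C, roots_multiset_prod_X_sub_C] at h'
    exact Multiset.map_injective (fun a b e => eta_injective hu (Units.ext e)) h'
  -- fibres are translation orbits
  have hfib : ∀ m m' : Sym (ZMod r) n, Φ m = Φ m' ↔ ∃ k : ZMod r, m.1 = m'.1.map (· + k) := by
    intro m m'
    constructor
    · intro e
      obtain ⟨s, hs⟩ := scal_transfer hn e (a := 1) (b := 1)
        (by rw [diagEta_pow hur, scal_one]) (by rw [diagEta_pow hur, scal_one])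
      obtain ⟨c, s', hc⟩ := cls_eq_iff.mp e
      have hs' : s' ^ r = 1 := by
        refine scal_inj (n := n) hn ?_
        have := congrArg (· ^ r) hc
        simp only [conj_pow, (show Commute (diagEta u (v m')) (scal s') from (scal_comm s' _).symm).mul_pow,
          diagEta_pow hur, mul_one, mul_inv_cancel, one_mul] at this
        rw [scal_pow, ← this, scal_one]
      obtain ⟨k, rfl⟩ := exists_eta hu hs'
      refine ⟨k, ?_⟩
      rw [diagEta_mul_scal hur] at hc
      have hch := hroots (v m) (fun i => v m' i + k) (by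
        rw [← hc, Units.val_mul, Units.val_mul, Matrix.coe_units_inv]
        exact (Matrix.charpoly_units_conj c _).symm)
      rw [hv] at hch
      rw [hch, ← hv m', Multiset.map_map]
      rfl
    · rintro ⟨k, hk⟩
      have hc : IsConj (diagEta u (v m)) (diagEta u (v m') * scal (eta u k)) := by
        rw [diagEta_mul_scal hur]
        refine isConj_of_charpoly hrq (diagEta_pow hur _) (diagEta_pow hur _) ?_
        have : Finset.univ.val.map (v m) = Finset.univ.val.map (fun i => v m' i + k) := by
          rw [hv, hk, ← hv m', Multiset.map_map]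
          rfl
        rw [charpoly_diagEta, charpoly_diagEta, this]
      obtain ⟨c, hc⟩ := isConj_iff.mp hc
      exact cls_eq_iff.mpr ⟨c, eta u k, hc⟩
  let bad : Finset (Sym (ZMod r) n) := Finset.univ.image fun a => Sym.replicate n a
  have hbad : bad.card = r := by
    rw [Finset.card_image_of_injective _ (fun a b e => by
      have := congrArg (fun s : Sym (ZMod r) n => s.1) e
      simp only [Sym.replicate] at this
      exact (Multiset.replicate_right_inj hn.ne').mp this), Finset.card_univ, ZMod.card]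
  set S := badᶜ with hS
  have hScard : S.card + r = (n + r - 1).choose (r - 1) := by
    have h1 : S.card + bad.card = Fintype.card (Sym (ZMod r) n) := Finset.card_compl_add_card bad
    rw [hbad, Sym.card_sym_eq_multichoose, ZMod.card, Nat.multichoose_eq,
      show r + n - 1 = n + (r - 1) by have := hr.out.pos; omega, Nat.choose_symm_add,
      show n + (r - 1) = n + r - 1 by have := hr.out.pos; omega] at h1
    exact h1
  have hmemS : ∀ m : Sym (ZMod r) n, m ∈ S ↔ diagEta u (v m) ∉ Subgroup.center GLn := by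
    intro m
    rw [hS, Finset.mem_compl, not_iff_not, Finset.mem_image]
    constructor
    · rintro ⟨a, -, rfl⟩
      refine mem_center.mpr ⟨eta u a, Units.ext ?_⟩
      rw [coe_scal, Matrix.scalar_apply, diagEta]
      congr 1
      funext i
      have : v (Sym.replicate n a) i ∈ (Sym.replicate n a).1 := by
        rw [← hv]; exact Multiset.mem_map.mpr ⟨i, Finset.mem_univ_val i, rfl⟩
      rw [Multiset.eq_of_mem_replicate this]
    · intro h
      obtain ⟨s, hs⟩ := mem_center.mp h
      refine ⟨v m ⟨0, hn⟩, Finset.mem_univ _, Sym.ext ?_⟩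
      have hconst : ∀ i, v m i = v m ⟨0, hn⟩ := fun i => by
        refine eta_injective hu (Units.ext ?_)
        have h0 := congrArg (fun g : GLn => (g : Matrix (Fin n) (Fin n) F) i i) hs
        have h1 := congrArg (fun g : GLn => (g : Matrix (Fin n) (Fin n) F) ⟨0, hn⟩ ⟨0, hn⟩) hs
        simp [coe_scal, diagEta, Matrix.scalar_apply] at h0 h1
        rw [← h0, ← h1]
      show Multiset.replicate n (v m ⟨0, hn⟩) = m.1
      rw [← hv, Multiset.map_congr rfl (fun i _ => hconst i), Multiset.map_const', Finset.card_val,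
        Finset.card_univ, Fintype.card_fin]
  have himg : splitSet F n r = ((S.image Φ : Finset (ConjClasses Q)) : Set (ConjClasses Q)) := by
    ext C
    simp only [Finset.coe_image, Set.mem_image, Finset.mem_coe]
    constructor
    · rintro ⟨g, rfl, hg, hgr⟩
      obtain ⟨w, hw⟩ := exists_conj_diag hn hu hgr
      let m : Sym (ZMod r) n := ⟨Finset.univ.val.map w, by simp⟩
      have hm : cls g = Φ m := by
        rw [hw]
        have hc : IsConj (diagEta u w) (diagEta u (v m)) :=
          isConj_of_charpoly hrq (diagEta_pow hur _) (diagEta_pow hur _) (by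
            rw [charpoly_diagEta, charpoly_diagEta, hv])
        obtain ⟨c, hc⟩ := isConj_iff.mp hc
        exact cls_eq_iff.mpr ⟨c, 1, by rw [hc, scal_one, mul_one]⟩
      refine ⟨m, ?_, hm.symm⟩
      rw [hmemS]
      intro hz
      obtain ⟨s, hs⟩ := mem_center.mp hz
      obtain ⟨c, s', hc⟩ := cls_eq_iff.mp hm
      rw [← hs, ← scal_mul] at hc
      apply hg
      refine mem_center.mpr ⟨s * s', ?_⟩
      rw [show g = c⁻¹ * (c * g * c⁻¹) * c by group, hc, mul_assoc, scal_comm, inv_mul_cancel_left]
    · rintro ⟨m, hm, rfl⟩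
      exact ⟨_, rfl, (hmemS m).mp hm, diagEta_pow hur _⟩
  rw [himg, Nat.card_coe_set_eq, Set.ncard_coe_finset]
  -- sizes of the fibres
  let T : ZMod r → Sym (ZMod r) n → Sym (ZMod r) n := fun k m => ⟨m.1.map (· + k), by simp⟩
  have hfilter : ∀ m ∈ S, S.filter (fun m' => Φ m' = Φ m) = Finset.univ.image (fun k => T k m) := by
    intro m hm
    ext m'
    simp only [Finset.mem_filter, Finset.mem_image, Finset.mem_univ, true_and]
    constructor
    · rintro ⟨-, e⟩
      obtain ⟨k, hk⟩ := (hfib m' m).mp e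
      exact ⟨k, Sym.ext hk.symm⟩
    · rintro ⟨k, rfl⟩
      have e : Φ (T k m) = Φ m := (hfib _ _).mpr ⟨k, rfl⟩
      refine ⟨?_, e⟩
      rw [hmemS] at hm ⊢
      intro hz
      obtain ⟨s, hs⟩ := mem_center.mp hz
      obtain ⟨c, s', hc⟩ := cls_eq_iff.mp e.symm
      rw [← hs, ← scal_mul] at hc
      apply hm
      refine mem_center.mpr ⟨s * s', ?_⟩
      rw [show diagEta u (v m) = c⁻¹ * (c * diagEta u (v m) * c⁻¹) * c by group, hc, mul_assoc, scal_comm,
        inv_mul_cancel_left]
  let fixd : Sym (ZMod r) n → Prop := fun m => ∀ j, m.1.count j = m.1.count 0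
  have hsize : ∀ m ∈ S, (S.filter (fun m' => Φ m' = Φ m)).card + (if fixd m then r - 1 else 0) = r := by
    intro m hm
    rw [hfilter m hm]
    split_ifs with hf
    · have : Finset.univ.image (fun k => T k m) = {m} := by
        ext m'
        simp only [Finset.mem_image, Finset.mem_univ, true_and, Finset.mem_singleton]
        refine ⟨?_, fun h => ⟨0, by rw [h]; exact Sym.ext (by simp [T])⟩⟩
        rintro ⟨k, rfl⟩
        refine Sym.ext (Multiset.ext.mpr fun j => ?_)
        show (m.1.map (· + k)).count j = _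
        conv_lhs => rw [show j = (j - k) + k by ring]
        rw [Multiset.count_map_eq_count' _ _ (add_left_injective k), hf, ← hf j]
        rfl
      rw [this, Finset.card_singleton]
      have := hr.out.pos
      omega
    · rw [Finset.card_image_of_injective, Finset.card_univ, ZMod.card, add_zero]
      intro a b e
      by_contra hne
      refine hf (translate_fixed (k := a - b) (sub_ne_zero.mpr hne) ?_)
      have e' : m.1.map (· + a) = m.1.map (· + b) := congrArg Subtype.val e
      have := congrArg (Multiset.map (· + -b)) e'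
      rw [Multiset.map_map, Multiset.map_map] at this
      simpa [Function.comp_def, add_assoc, sub_eq_add_neg] using this
  have hfix : (S.filter fixd).card = if r ∣ n then 1 else 0 := by
    have hsum : ∀ m : Sym (ZMod r) n, fixd m → n = r * m.1.count 0 := fun m hm => by
      have h1 := Multiset.sum_count_eq_card (s := Finset.univ) (m := m.1) (fun a _ => Finset.mem_univ a)
      rw [Finset.sum_congr rfl (fun j _ => hm j), Finset.sum_const, Finset.card_univ, ZMod.card,
        smul_eq_mul, m.2] at h1
      exact h1.symm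
    split_ifs with hd
    · obtain ⟨a, ha⟩ := hd
      have ha0 : 0 < a := Nat.pos_of_ne_zero fun e => by simp [e] at ha; omega
      let m0 : Sym (ZMod r) n := ⟨a • (Finset.univ : Finset (ZMod r)).val, by
        rw [Multiset.card_nsmul, Finset.card_val, Finset.card_univ, ZMod.card, ha, mul_comm]⟩
      have hcount : ∀ j, m0.1.count j = a := fun j => by
        show Multiset.count j (a • _) = a
        rw [Multiset.count_nsmul, Multiset.count_eq_one_of_mem Finset.univ.nodup (Finset.mem_univ j), mul_one]
      rw [Finset.card_eq_one]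
      refine ⟨m0, ?_⟩
      ext m
      simp only [Finset.mem_filter, Finset.mem_singleton]
      constructor
      · rintro ⟨-, hm⟩
        refine Sym.ext (Multiset.ext.mpr fun j => ?_)
        show m.1.count j = m0.1.count j
        rw [hcount, hm j]
        exact (Nat.eq_of_mul_eq_mul_left hr.out.pos (ha.symm.trans (hsum m hm))).symm
      · rintro rfl
        refine ⟨?_, fun j => by rw [hcount, hcount]⟩
        rw [hS, Finset.mem_compl, Finset.mem_image]
        rintro ⟨b, -, e⟩
        have h1 := hcount (b + 1)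
        rw [← e] at h1
        have : (Sym.replicate n b).1.count (b + 1) = 0 :=
          Multiset.count_eq_zero.mpr fun h => one_ne_zero (add_eq_left.mp (Multiset.eq_of_mem_replicate h))
        omega
    · rw [Finset.card_eq_zero, Finset.filter_eq_empty_iff]
      exact fun m _ hm => hd ⟨_, hsum m hm⟩
  have hcls : ∀ C ∈ S.image Φ, (S.filter (fun m => Φ m = C)).card +
      (r - 1) * ((S.filter fixd).filter (fun m => Φ m = C)).card = r := by
    intro C hC
    obtain ⟨m, hm, rfl⟩ := Finset.mem_image.mp hC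
    have h := hsize m hm
    by_cases hf : fixd m
    · rw [if_pos hf] at h
      have h1 : S.filter (fun m' => Φ m' = Φ m) = {m} := by
        refine Finset.eq_singleton_iff_unique_mem.mpr ⟨Finset.mem_filter.mpr ⟨hm, rfl⟩, fun y hy => ?_⟩
        exact Finset.card_le_one.mp (by have := hr.out.two_le; omega) y hy m (Finset.mem_filter.mpr ⟨hm, rfl⟩)
      rw [Finset.filter_comm, h1, Finset.filter_singleton, if_pos hf, Finset.card_singleton]
      have := hr.out.pos
      omega
    · rw [if_neg hf, add_zero] at h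
      have h1 : (S.filter fixd).filter (fun m' => Φ m' = Φ m) = ∅ := by
        refine Finset.filter_eq_empty_iff.mpr fun m' hm' e => hf ?_
        obtain ⟨hS', hf'⟩ := Finset.mem_filter.mp hm'
        obtain ⟨k, hk⟩ := (hfib m m').mp e.symm
        intro j
        have hshift : ∀ i, m.1.count i = m'.1.count 0 := fun i => by
          rw [hk]
          conv_lhs => rw [show i = (i - k) + k by ring]
          rw [Multiset.count_map_eq_count' _ _ (add_left_injective k), hf']
        rw [hshift, hshift]
      rw [h1, Finset.card_empty, mul_zero, add_zero, h]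
  have hadd := Finset.sum_congr rfl hcls
  rw [Finset.sum_add_distrib, ← Finset.mul_sum, Finset.sum_const, smul_eq_mul,
    ← Finset.card_eq_sum_card_fiberwise (fun m hm => Finset.mem_image_of_mem Φ hm),
    ← Finset.card_eq_sum_card_fiberwise
      (fun m hm => Finset.mem_image_of_mem Φ (Finset.mem_of_mem_filter m hm)), hfix] at hadd
  rw [mul_comm r, ← hadd]
  omega

/-! ### The classes without eigenvalue -/

/-- A space with an action of a simple extension is free over it. -/
theorem exists_coord {f : F[X]} [Fact (Irreducible f)] (χ : AdjoinRoot f →ₐ[F] Module.End F (Fin n → F)) :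
    f.natDegree ∣ n ∧ ∃ L : (Fin (n / f.natDegree) → AdjoinRoot f) ≃ₗ[F] (Fin n → F),
      ∀ a c, L (a • c) = χ a (L c) := by
  have hf : Irreducible f := Fact.out
  letI mC : Module (AdjoinRoot f) (Fin n → F) := Module.compHom (Fin n → F) χ.toRingHom
  have : IsScalarTower F (AdjoinRoot f) (Fin n → F) :=
    ⟨fun a b x => by
      show χ (a • b) x = a • χ b x
      rw [map_smul, LinearMap.smul_apply]⟩
  have : Module.Finite (AdjoinRoot f) (Fin n → F) := Module.Finite.of_finite
  have h1 := Module.finrank_mul_finrank F (AdjoinRoot f) (Fin n → F)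
  rw [(AdjoinRoot.powerBasis hf.ne_zero).finrank, AdjoinRoot.powerBasis_dim, Module.finrank_fin_fun] at h1
  refine ⟨Dvd.intro _ h1, ?_⟩
  have hk : Module.finrank (AdjoinRoot f) (Fin n → F) = n / f.natDegree :=
    (Nat.div_eq_of_eq_mul_right hf.natDegree_pos h1.symm).symm
  let b := Module.finBasisOfFinrankEq (AdjoinRoot f) (Fin n → F) hk
  exact ⟨b.equivFun.symm.restrictScalars F, fun a c => b.equivFun.symm.map_smul a c⟩

/-- Two roots of the same irreducible polynomial are similar. -/
theorem similar_of_annihilated {f : F[X]} (hf : Irreducible f) (A B : Module.End F (Fin n → F))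
    (hA : aeval A f = 0) (hB : aeval B f = 0) :
    f.natDegree ∣ n ∧ ∃ e : (Fin n → F) ≃ₗ[F] (Fin n → F), ∀ x, e (A x) = B (e x) := by
  have : Fact (Irreducible f) := ⟨hf⟩
  have hker : ∀ T : Module.End F (Fin n → F), aeval T f = 0 → ∀ a ∈ Ideal.span {f}, aeval T a = 0 := by
    intro T hT a ha
    obtain ⟨b, rfl⟩ := Ideal.mem_span_singleton.mp ha
    rw [map_mul, hT, zero_mul]
  let φ : AdjoinRoot f →ₐ[F] Module.End F (Fin n → F) := Ideal.Quotient.liftₐ _ (aeval A) (hker A hA)
  let ψ : AdjoinRoot f →ₐ[F] Module.End F (Fin n → F) := Ideal.Quotient.liftₐ _ (aeval B) (hker B hB)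
  have hφ : φ (AdjoinRoot.root f) = A := aeval_X A
  have hψ : ψ (AdjoinRoot.root f) = B := aeval_X B
  obtain ⟨hd, LA, hLA⟩ := exists_coord φ
  obtain ⟨-, LB, hLB⟩ := exists_coord ψ
  refine ⟨hd, LA.symm.trans LB, fun x => ?_⟩
  have h := hLA (AdjoinRoot.root f) (LA.symm x)
  rw [LA.apply_symm_apply, hφ] at h
  rw [LinearEquiv.trans_apply, LinearEquiv.trans_apply, ← h, LA.symm_apply_apply, hLB, hψ]

theorem exists_annihilated {f : F[X]} (hf : Irreducible f) (hd : f.natDegree ∣ n) :
    ∃ A : Module.End F (Fin n → F), aeval A f = 0 := by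
  have : Fact (Irreducible f) := ⟨hf⟩
  obtain ⟨k, hk⟩ := hd
  have : Module.Finite F (AdjoinRoot f) := (AdjoinRoot.powerBasis hf.ne_zero).finite
  have hdim : Module.finrank F (Fin k → AdjoinRoot f) = Module.finrank F (Fin n → F) := by
    rw [Module.finrank_pi_fintype, (AdjoinRoot.powerBasis hf.ne_zero).finrank, AdjoinRoot.powerBasis_dim,
      Module.finrank_fin_fun, Finset.sum_const, Finset.card_univ, Fintype.card_fin, smul_eq_mul, hk, mul_comm]
  let e := LinearEquiv.ofFinrankEq _ _ hdim
  let χ : AdjoinRoot f →ₐ[F] Module.End F (Fin n → F) :=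
    (e.conjAlgEquiv F).toAlgHom.comp (Algebra.lsmul F F (Fin k → AdjoinRoot f))
  exact ⟨χ (AdjoinRoot.root f), by rw [aeval_algHom_apply, AdjoinRoot.aeval_eq, AdjoinRoot.mk_self, map_zero]⟩

theorem aeval_X_pow_sub {g : GLn} {c : Fˣ} (hg : g ^ r = scal c) :
    aeval (Matrix.toLinAlgEquiv' (g : Matrix (Fin n) (Fin n) F)) (X ^ r - C (c : F)) = 0 := by
  rw [aeval_algHom_apply, map_sub, map_pow, aeval_X, aeval_C, ← Units.val_pow_eq_pow_val, hg, coe_scal,
    sub_eq_zero.mpr, map_zero]
  rfl

theorem irreducible_kummer {c : Fˣ} (hc : ∀ s : Fˣ, c ≠ s ^ r) : Irreducible (X ^ r - C (c : F)) := by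
  refine X_pow_sub_C_irreducible_of_prime hr.out fun b hb => ?_
  have hb0 : b ≠ 0 := fun e => c.ne_zero (by rw [← hb, e, zero_pow hr.out.ne_zero])
  exact hc (Units.mk0 b hb0) (Units.ext (by simp [hb]))

theorem card_quotient_pow (hrq : r ∣ Fintype.card F - 1) :
    Nat.card (Fˣ ⧸ (powMonoidHom r : Fˣ →* Fˣ).range) = r := by
  classical
  rw [← Subgroup.index, IsCyclic.index_powMonoidHom_range, Nat.card_units, Nat.card_eq_fintype_card,
    Nat.gcd_eq_right hrq]

theorem card_classes (hn : 2 ≤ n) (hrq : r ∣ Fintype.card F - 1) :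
    Nat.card {C : ConjClasses Q // ∃ g : Q, ConjClasses.mk g = C ∧ orderOf g = r} =
      (Nat.choose (n + r - 1) (r - 1) - r - (if r ∣ n then 1 else 0)) / r +
        r * (if r ∣ n then 1 else 0) := by
  classical
  have hn0 : 0 < n := by omega
  set R : Subgroup Fˣ := (powMonoidHom r : Fˣ →* Fˣ).range with hR
  set E : Set (ConjClasses Q) := {C | ∃ g : Q, ConjClasses.mk g = C ∧ orderOf g = r} with hE
  set N : Set (ConjClasses Q) := {C | ∃ (g : GLn) (c : Fˣ), cls g = C ∧ g ^ r = scal c ∧ c ∉ R} with hN
  have hsplit : E = splitSet F n r ∪ N := by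
    ext C
    constructor
    · rintro ⟨x, rfl, hx⟩
      obtain ⟨g, rfl⟩ := QuotientGroup.mk_surjective x
      obtain ⟨⟨c, hc⟩, hg⟩ := (orderOf_mk_iff hr.out).mp hx
      by_cases hcR : c ∈ R
      · obtain ⟨s, hs⟩ := hcR
        rw [powMonoidHom_apply] at hs
        refine Or.inl ⟨g * scal s⁻¹, ?_, fun hz => hg ?_, ?_⟩
        · refine (cls_eq_iff.mpr ⟨1, s, ?_⟩).symm
          rw [one_mul, inv_one, mul_one, mul_assoc, ← scal_mul, inv_mul_cancel, scal_one, mul_one]
        · have := mul_mem hz (mem_center.mpr ⟨s, rfl⟩)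
          rwa [mul_assoc, ← scal_mul, inv_mul_cancel, scal_one, mul_one] at this
        · rw [(show Commute g (scal s⁻¹) from (scal_comm s⁻¹ g).symm).mul_pow, hc, ← scal_pow, ← scal_mul,
            ← hs, inv_pow, mul_inv_cancel, scal_one]
      · exact Or.inr ⟨g, c, rfl, hc, hcR⟩
    · rintro (⟨g, rfl, hg, hgr⟩ | ⟨g, c, rfl, hc, hcR⟩)
      · exact ⟨g, rfl, (orderOf_mk_iff hr.out).mpr ⟨⟨1, by rw [hgr, scal_one]⟩, hg⟩⟩
      · refine ⟨g, rfl, (orderOf_mk_iff hr.out).mpr ⟨⟨c, hc⟩, fun hz => hcR ?_⟩⟩
        obtain ⟨s, rfl⟩ := mem_center.mp hz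
        rw [← scal_pow] at hc
        exact ⟨s, scal_inj hn0 hc⟩
  have hdisj : Disjoint (splitSet F n r) N := by
    rw [Set.disjoint_left]
    rintro C ⟨g, rfl, -, hgr⟩ ⟨h, c, e, hc, hcR⟩
    obtain ⟨s, hs⟩ := scal_transfer hn0 e hc (b := 1) (by rw [hgr, scal_one])
    exact hcR ⟨s, by rw [powMonoidHom_apply, hs, one_mul]⟩
  have hNcard : Nat.card N = (r - 1) * (if r ∣ n then 1 else 0) := by
    split_ifs with hd
    · rw [mul_one]
      have hq : Nat.card {x : Fˣ ⧸ R // x ≠ 1} = r - 1 := by
        have h1 := card_quotient_pow (F := F) (r := r) hrq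
        rw [Nat.card_eq_fintype_card] at h1
        rw [Nat.card_eq_fintype_card, Fintype.card_subtype_compl, Fintype.card_subtype_eq, h1]
      rw [← hq]
      have hex : ∀ x : {x : Fˣ ⧸ R // x ≠ 1}, ∃ (g : GLn) (c : Fˣ),
          (c : Fˣ ⧸ R) = x.1 ∧ g ^ r = scal c ∧ c ∉ R := by
        rintro ⟨x, hx⟩
        obtain ⟨c, rfl⟩ := QuotientGroup.mk_surjective x
        have hcR : c ∉ R := fun h => hx ((QuotientGroup.eq_one_iff c).mpr h)
        have hirr := irreducible_kummer (r := r) (c := c) (fun s e => hcR ⟨s, e.symm⟩)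
        obtain ⟨A, hA⟩ := exists_annihilated (n := n) hirr (by rwa [natDegree_X_pow_sub_C])
        let M : Matrix (Fin n) (Fin n) F := Matrix.toLinAlgEquiv'.symm A
        have hM : M ^ r = Matrix.scalar (Fin n) (c : F) := by
          apply (Matrix.toLinAlgEquiv' (R := F) (n := Fin n)).injective
          rw [map_pow, AlgEquiv.apply_symm_apply]
          rw [map_sub, map_pow, aeval_X, aeval_C, sub_eq_zero] at hA
          rw [hA]
          exact (AlgEquiv.commutes (Matrix.toLinAlgEquiv' (R := F) (n := Fin n)) (c : F)).symm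
        have hdet : M.det ≠ 0 := fun e => by
          have := congrArg Matrix.det hM
          rw [Matrix.det_pow, e, zero_pow hr.out.ne_zero, Matrix.scalar_apply, Matrix.det_diagonal,
            Finset.prod_const, eq_comm] at this
          exact c.ne_zero (eq_zero_of_pow_eq_zero this)
        refine ⟨Matrix.GeneralLinearGroup.mkOfDetNeZero M hdet, c, rfl, Units.ext ?_, hcR⟩
        rw [Units.val_pow_eq_pow_val, coe_scal]
        exact hM
      choose g c hc1 hc2 hc3 using hex
      refine (Nat.card_eq_of_bijective (fun x => (⟨cls (g x), g x, c x, rfl, hc2 x, hc3 x⟩ : N)) ⟨?_, ?_⟩).symm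
      · intro x y e
        obtain ⟨s, hs⟩ := scal_transfer hn0 (congrArg Subtype.val e) (hc2 x) (hc2 y)
        refine Subtype.ext ?_
        rw [← hc1, ← hc1, hs, QuotientGroup.mk_mul, (QuotientGroup.eq_one_iff (N := R) (s ^ r)).mpr ⟨s, rfl⟩, mul_one]
      · rintro ⟨C, h, d, rfl, hd', hdR⟩
        let x : {x : Fˣ ⧸ R // x ≠ 1} := ⟨(d : Fˣ ⧸ R), fun e => hdR ((QuotientGroup.eq_one_iff d).mp e)⟩
        refine ⟨x, Subtype.ext ?_⟩
        have e : ((c x : Fˣ) : Fˣ ⧸ R) = (d : Fˣ ⧸ R) := hc1 x
        rw [QuotientGroup.eq] at e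
        obtain ⟨s, hs⟩ := e
        rw [powMonoidHom_apply] at hs
        have hd2 : (g x * scal s) ^ r = scal d := by
          rw [(show Commute (g x) (scal s) from (scal_comm s _).symm).mul_pow, hc2, ← scal_pow, ← scal_mul, hs,
            mul_inv_cancel_left]
        obtain ⟨-, e, he⟩ := similar_of_annihilated (irreducible_kummer (r := r) (c := d)
          (fun s e => hdR ⟨s, e.symm⟩)) _ _ (aeval_X_pow_sub hd2) (aeval_X_pow_sub hd')
        have hu : IsUnit (LinearMap.toMatrix' e.toLinearMap) := by
          rw [Matrix.isUnit_iff_isUnit_det, LinearMap.det_toMatrix']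
          exact e.isUnit_det'
        show cls (g x) = cls h
        refine cls_eq_iff.mpr ⟨hu.unit, s⁻¹, ?_⟩
        have h1 : hu.unit * (g x * scal s) = h * hu.unit := by
          apply Units.ext
          apply Matrix.toLin'.injective
          rw [Units.val_mul, Units.val_mul h, IsUnit.unit_spec, Matrix.toLin'_mul, Matrix.toLin'_mul,
            Matrix.toLin'_toMatrix']
          exact LinearMap.ext he
        calc hu.unit * g x * hu.unit⁻¹ = hu.unit * (g x * scal s) * hu.unit⁻¹ * scal s⁻¹ := by
              rw [show scal s⁻¹ = ((scal s : GLn))⁻¹ from map_inv (Matrix.GeneralLinearGroup.scalar (Fin n)) s,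
                ← mul_assoc hu.unit, mul_assoc (hu.unit * g x) (scal s), scal_comm s hu.unit⁻¹]
              group
          _ = h * scal s⁻¹ := by rw [h1, mul_inv_cancel_right]
    · rw [mul_zero, Nat.card_eq_zero]
      refine Or.inl ⟨fun ⟨C, h, d, e, hd', hdR⟩ => hd ?_⟩
      have := (similar_of_annihilated (irreducible_kummer (r := r) (c := d)
        (fun s e => hdR ⟨s, e.symm⟩)) _ _ (aeval_X_pow_sub hd') (aeval_X_pow_sub hd')).1
      rwa [natDegree_X_pow_sub_C] at this
  have hS := card_splitSet (F := F) (r := r) hn0 hrq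
  have hEcard : Nat.card E = Nat.card (splitSet F n r) + Nat.card N := by
    rw [hsplit, Nat.card_coe_set_eq, Set.ncard_union_eq hdisj (Set.toFinite _) (Set.toFinite _),
      Nat.card_coe_set_eq, Nat.card_coe_set_eq]
  show Nat.card E = _
  rw [hEcard, hNcard]
  set a := Nat.card (splitSet F n r)
  set b := (n + r - 1).choose (r - 1)
  have hr2 := hr.out.two_le
  split_ifs with hd
  · rw [if_pos hd] at hS
    have ha : 1 ≤ a := by
      by_contra h0
      have h1 : a = 0 := by omega
      rw [h1, mul_zero, mul_one] at hS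
      have h2 : r ≤ b := by
        calc r = (1 + r - 1).choose (r - 1) := by
              rw [show 1 + r - 1 = r by omega, Nat.choose_symm (by omega), Nat.choose_one_right]
          _ ≤ b := Nat.choose_le_choose _ (by omega)
      omega
    have key : b - r - 1 = r * (a - 1) := by
      rw [Nat.mul_sub_one]
      have : r ≤ r * a := Nat.le_mul_of_pos_right r ha
      omega
    rw [key, Nat.mul_div_cancel_left _ (by omega)]
    omega
  · rw [if_neg hd] at hS
    have key : b - r - 0 = r * a := by omega
    rw [key, Nat.mul_div_cancel_left _ (by omega)]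
    omega

end Count

end Cfsg.Agent.Linear.PGLOrderClasses
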