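import Cfsg.Agent.Linear.Order
import Cfsg.Agent.H99.Diag
import Mathlib.NumberTheory.Multiplicity

/-!
The Sylow `p`-subgroup of `GL_p(q)`, for `p` dividing `q - 1` exactly once, is redundant.
-/

set_option autoImplicit false
set_option linter.unusedSectionVars false

namespace Cfsg.Agent.Linear.RedundantSylow

open Matrix Finset

variable {F : Type*} [Field F] {p : ℕ} [NeZero p]

/-- The monomial matrix with entries `a`, shifting by `k`. -/
def mono (a : Fin p → F) (k : Fin p) : Matrix (Fin p) (Fin p) F :=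
  Matrix.of fun i j => if i + k = j then a i else 0

theorem mono_apply (a : Fin p → F) (k i j : Fin p) :
    mono a k i j = if i + k = j then a i else 0 := rfl

theorem mono_mul (a b : Fin p → F) (k l : Fin p) :
    mono a k * mono b l = mono (fun i => a i * b (i + k)) (k + l) := by
  ext i j
  rw [Matrix.mul_apply, Finset.sum_eq_single (i + k)
    (fun x _ hx => by rw [mono_apply, if_neg (Ne.symm hx), zero_mul]) (by simp)]
  simp only [mono_apply, add_assoc, if_true, mul_ite, mul_zero]

theorem mono_one : mono (fun _ : Fin p => (1 : F)) 0 = 1 := by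
  ext i j
  simp [mono_apply, Matrix.one_apply]

theorem mono_inj {a b : Fin p → F} {k l : Fin p} (ha : ∀ i, a i ≠ 0) (h : mono a k = mono b l) :
    k = l ∧ a = b := by
  have hk : k = l := by
    have := congrFun (congrFun h 0) (0 + k)
    rw [mono_apply, if_pos rfl, mono_apply] at this
    split_ifs at this with e
    · exact (add_left_cancel e).symm
    · exact absurd this (ha 0)
  subst hk
  refine ⟨rfl, funext fun i => ?_⟩
  simpa [mono_apply] using congrFun (congrFun h i) (i + k)

theorem ne_zero_of_pow {u : F} (h : u ^ p = 1) : u ≠ 0 := fun e => by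
  simp [e, NeZero.ne p] at h

theorem exists_nsmul_eq [hp : Fact p.Prime] {k : Fin p} (hk : k ≠ 0) (i : Fin p) :
    ∃ m : ℕ, m • k = i :=
  AddSubmonoid.mem_multiples_iff i k |>.mp (mem_multiples_of_prime_card (p := p) (by simp) hk)

/-- The monomial Sylow subgroup. -/
def monoSub : Subgroup (GL (Fin p) F) where
  carrier := {g | ∃ (a : Fin p → F) (k : Fin p), (∀ i, a i ^ p = 1) ∧
    (g : Matrix (Fin p) (Fin p) F) = mono a k}
  one_mem' := ⟨fun _ => 1, 0, fun _ => one_pow _, by rw [mono_one]; rfl⟩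
  mul_mem' := by
    rintro g h ⟨a, k, ha, hg⟩ ⟨b, l, hb, hh⟩
    exact ⟨fun i => a i * b (i + k), k + l, fun i => by rw [mul_pow, ha, hb, mul_one],
      by rw [Units.val_mul, hg, hh, mono_mul]⟩
  inv_mem' := by
    rintro g ⟨a, k, ha, hg⟩
    refine ⟨fun i => (a (i - k))⁻¹, -k, fun i => by rw [inv_pow, ha, inv_one], ?_⟩
    refine Units.inv_eq_of_mul_eq_one_right ?_
    rw [hg, mono_mul, add_neg_cancel]
    refine Eq.trans ?_ mono_one
    congr 1
    funext i
    rw [add_sub_cancel_right, mul_inv_cancel₀ (ne_zero_of_pow (ha i))]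

theorem mem_monoSub {g : GL (Fin p) F} : g ∈ monoSub ↔
    ∃ (a : Fin p → F) (k : Fin p), (∀ i, a i ^ p = 1) ∧
      (g : Matrix (Fin p) (Fin p) F) = mono a k := Iff.rfl

theorem exists_mono {a : Fin p → F} (ha : ∀ i, a i ≠ 0) (k : Fin p) :
    ∃ g : GL (Fin p) F, (g : Matrix (Fin p) (Fin p) F) = mono a k := by
  refine ⟨⟨mono a k, mono (fun i => (a (i - k))⁻¹) (-k), ?_, ?_⟩, rfl⟩ <;>
    rw [mono_mul] <;> simp only [add_neg_cancel, neg_add_cancel] <;>
    refine Eq.trans ?_ mono_one <;> congr 1 <;> funext i <;> simp [sub_eq_add_neg, ha]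

theorem card_monoSub {ζ : F} (hζ : IsPrimitiveRoot ζ p) :
    Nat.card (monoSub (F := F) (p := p)) = p ^ (p + 1) := by
  have hne : ∀ (a : Fin p → rootsOfUnity p F) (i : Fin p), ((a i : Fˣ) : F) ≠ 0 := fun a i => Units.ne_zero _
  choose g hg using fun x : (Fin p → rootsOfUnity p F) × Fin p =>
    exists_mono (hne x.1) x.2
  have hmem : ∀ x, g x ∈ monoSub := fun x => ⟨_, x.2, fun i => by
    have := (mem_rootsOfUnity p ((x.1 i : Fˣ))).mp (x.1 i).2
    rw [← Units.val_pow_eq_pow_val, this, Units.val_one], hg x⟩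
  rw [← Nat.card_eq_of_bijective (fun x => (⟨g x, hmem x⟩ : monoSub (F := F) (p := p))) ⟨?_, ?_⟩,
    Nat.card_prod, Nat.card_fun, Nat.card_fin, hζ.card_rootsOfUnity, pow_succ]
  · intro x y e
    have := congrArg (fun z : monoSub (F := F) (p := p) => ((z : GL (Fin p) F) : Matrix (Fin p) (Fin p) F)) e
    simp only [hg] at this
    obtain ⟨h1, h2⟩ := mono_inj (hne x.1) this
    exact Prod.ext (funext fun i => Subtype.ext (Units.ext (congrFun h2 i))) h1
  · rintro ⟨y, a, k, ha, hy⟩
    refine ⟨(fun i => ⟨Units.mk0 (a i) (ne_zero_of_pow (ha i)),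
      (mem_rootsOfUnity p _).mpr (Units.ext (by simp [ha]))⟩, k), Subtype.ext (Units.ext ?_)⟩
    rw [hg, hy]
    rfl

theorem factorization_pow_sub_one [hp : Fact p.Prime] (hodd : Odd p) {q m : ℕ} (hq : 1 < q)
    (h1 : p ∣ q - 1) (h2 : ¬ p ^ 2 ∣ q - 1) (hm : m ≠ 0) :
    (q ^ m - 1).factorization p = 1 + m.factorization p := by
  have hv : padicValNat p (q - 1) = 1 := by
    have a : 1 ≤ padicValNat p (q - 1) := one_le_padicValNat_of_dvd (by omega) h1
    by_contra hne
    exact h2 ((padicValNat_dvd_iff_le (by omega)).mpr (by omega))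
  have hx : ¬ p ∣ q := fun h => by
    have h' : p ∣ 1 := by
      have := Nat.dvd_sub h h1
      rwa [show q - (q - 1) = 1 by omega] at this
    exact hp.out.one_lt.ne' (Nat.dvd_one.mp h')
  have h := padicValNat.pow_sub_pow hodd (y := 1) hq h1 hx hm
  rw [one_pow, hv] at h
  rw [Nat.factorization_def _ hp.out, Nat.factorization_def _ hp.out, h]

theorem factorization_card [hp : Fact p.Prime] [Fintype F] (hodd : Odd p)
    (h1 : p ∣ Fintype.card F - 1) (h2 : ¬ p ^ 2 ∣ Fintype.card F - 1) :
    (Nat.card (GL (Fin p) F)).factorization p = p + 1 := by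
  classical
  set q := Fintype.card F
  have hq : 1 < q := Fintype.one_lt_card
  have hpq : (q.factorization p) = 0 := by
    refine Nat.factorization_eq_zero_of_not_dvd fun h => ?_
    have := Nat.dvd_sub h h1
    rw [show q - (q - 1) = 1 by omega, Nat.dvd_one] at this
    exact hp.out.one_lt.ne' this
  rw [Matrix.card_GL_field]
  have hterm : ∀ i : Fin p, (q ^ p - q ^ (i : ℕ)) = q ^ (i : ℕ) * (q ^ (p - (i : ℕ)) - 1) := fun i => by
    rw [Nat.mul_sub, mul_one, ← pow_add, Nat.add_sub_cancel' i.2.le]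
  have hpos : ∀ i : Fin p, q ^ (p - (i : ℕ)) - 1 ≠ 0 := fun i => by
    have := Nat.one_lt_pow (show p - (i : ℕ) ≠ 0 by omega) hq
    omega
  rw [Nat.factorization_prod (fun i _ => by rw [hterm]; exact Nat.mul_ne_zero (by positivity) (hpos i)),
    Finsupp.finset_sum_apply]
  have e : ∀ i : Fin p, ((q ^ p - q ^ (i : ℕ)).factorization p) = 1 + (p - (i : ℕ)).factorization p := fun i => by
    rw [hterm, Nat.factorization_mul (by positivity) (hpos i), Finsupp.add_apply, Nat.factorization_pow,
      Finsupp.smul_apply, hpq, smul_zero, zero_add, factorization_pow_sub_one hodd hq h1 h2 (by omega)]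
  rw [Finset.sum_congr rfl (fun i _ => e i), Finset.sum_add_distrib, Finset.sum_const, Finset.card_univ,
    Fintype.card_fin, smul_eq_mul, mul_one, Finset.sum_eq_single (0 : Fin p)]
  · simp [hp.out.factorization_self]
  · intro i _ hi
    refine Nat.factorization_eq_zero_of_not_dvd fun h => ?_
    have hi' : (i : ℕ) ≠ 0 := fun e => hi (Fin.ext e)
    have := Nat.le_of_dvd (by omega) h
    omega
  · simp

/-- Elements of the monomial subgroup commuting with `x`. -/
def commSet (x : GL (Fin p) F) : Set (GL (Fin p) F) := {y | y ∈ monoSub ∧ y * x = x * y}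

theorem le_card_comm [Finite F] {ζ : F} (hζ : IsPrimitiveRoot ζ p) {x : GL (Fin p) F} {a : Fin p → F}
    (hx : (x : Matrix (Fin p) (Fin p) F) = mono a 0) : p ^ p ≤ Nat.card (commSet x) := by
  have hne : ∀ (b : Fin p → rootsOfUnity p F) (i : Fin p), ((b i : Fˣ) : F) ≠ 0 := fun b i => Units.ne_zero _
  choose g hg using fun b : Fin p → rootsOfUnity p F => exists_mono (hne b) 0
  have hmem : ∀ b, g b ∈ commSet x := fun b => ⟨⟨_, 0, fun i => by
      have := (mem_rootsOfUnity p ((b i : Fˣ))).mp (b i).2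
      rw [← Units.val_pow_eq_pow_val, this, Units.val_one], hg b⟩, Units.ext (by
      rw [Units.val_mul, Units.val_mul, hg, hx, mono_mul, mono_mul]
      congr 1
      funext i
      rw [add_zero, mul_comm])⟩
  have h := Nat.card_le_card_of_injective (fun b => (⟨g b, hmem b⟩ : commSet x)) (fun b b' e => by
    have := congrArg (fun z : commSet x => ((z : GL (Fin p) F) : Matrix (Fin p) (Fin p) F)) e
    simp only [hg] at this
    exact funext fun i => Subtype.ext (Units.ext (congrFun (mono_inj (hne b) this).2 i)))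
  rwa [Nat.card_fun, Nat.card_fin, hζ.card_rootsOfUnity] at h

theorem card_comm_le [hp : Fact p.Prime] [Finite F] {ζ : F} (hζ : IsPrimitiveRoot ζ p) {x : GL (Fin p) F}
    {b : Fin p → F} {k : Fin p} (hb : ∀ i, b i ^ p = 1) (hk : k ≠ 0)
    (hx : (x : Matrix (Fin p) (Fin p) F) = mono b k) : Nat.card (commSet x) ≤ p ^ 2 := by
  choose a l ha hy using fun y : commSet x => y.2.1
  let f : commSet x → rootsOfUnity p F × Fin p := fun y =>
    (⟨Units.mk0 (a y 0) (ne_zero_of_pow (ha y 0)),
      (mem_rootsOfUnity p _).mpr (Units.ext (by simp [ha]))⟩, l y)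
  have hrec : ∀ (y : commSet x) (i : Fin p), a y i * b (i + l y) = b i * a y (i + k) := by
    intro y i
    have h := congrArg (fun z : GL (Fin p) F => (z : Matrix (Fin p) (Fin p) F)) y.2.2
    simp only [Units.val_mul, hy, hx, mono_mul] at h
    exact congrFun (mono_inj (fun j => mul_ne_zero (ne_zero_of_pow (ha y j)) (ne_zero_of_pow (hb _))) h).2 i
  have h := Nat.card_le_card_of_injective f (fun y z e => by
    have e0 : a y 0 = a z 0 := congrArg (fun w => ((w.1 : Fˣ) : F)) e
    have el : l y = l z := congrArg Prod.snd e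
    have hall : ∀ m : ℕ, a y (m • k) = a z (m • k) := by
      intro m
      induction m with
      | zero => simpa using e0
      | succ m ih =>
        have h1 := hrec y (m • k)
        rw [ih, el, hrec z (m • k)] at h1
        rw [succ_nsmul]
        exact (mul_left_cancel₀ (ne_zero_of_pow (hb _)) h1).symm
    refine Subtype.ext (Units.ext ?_)
    rw [hy, hy, el]
    congr 1
    funext i
    obtain ⟨m, rfl⟩ := exists_nsmul_eq hk i
    exact hall m)
  rwa [Nat.card_prod, Nat.card_fin, hζ.card_rootsOfUnity, ← sq] at h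

variable [hp : Fact p.Prime] [Fintype F]

theorem shift_zero_of_conj (h2p : 2 < p) {ζ : F} (hζ : IsPrimitiveRoot ζ p) {h x y : GL (Fin p) F}
    (hn : ∀ z : GL (Fin p) F, z ∈ monoSub ↔ h * z * h⁻¹ ∈ monoSub) (e : h * x * h⁻¹ = y)
    {a : Fin p → F} (hx : (x : Matrix (Fin p) (Fin p) F) = mono a 0) {b : Fin p → F} {k : Fin p}
    (hb : ∀ i, b i ^ p = 1) (hy : (y : Matrix (Fin p) (Fin p) F) = mono b k) : k = 0 := by
  by_contra hk
  have he : Nat.card (commSet x) = Nat.card (commSet y) := by
    refine Nat.card_congr ((MulAut.conj h).toEquiv.subtypeEquiv fun z => ?_)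
    simp only [commSet, Set.mem_setOf_eq, MulEquiv.toEquiv_eq_coe, EquivLike.coe_coe, MulAut.conj_apply]
    rw [← hn z, ← e, show h * z * h⁻¹ * (h * x * h⁻¹) = h * (z * x) * h⁻¹ by group,
      show h * x * h⁻¹ * (h * z * h⁻¹) = h * (x * z) * h⁻¹ by group, mul_left_inj, mul_right_inj]
  have h1 := le_card_comm hζ hx
  have h2 := card_comm_le hζ hb hk hy
  have := Nat.pow_lt_pow_right (show 1 < p by omega) h2p
  omega

theorem not_normal_of_row (h2p : 2 < p) {ζ : F} (hζ : IsPrimitiveRoot ζ p) {h : GL (Fin p) F}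
    {i j l : Fin p} (hjl : j ≠ l) (hj : (h : Matrix (Fin p) (Fin p) F) i j ≠ 0)
    (hl : (h : Matrix (Fin p) (Fin p) F) i l ≠ 0) :
    ¬ ∀ z : GL (Fin p) F, z ∈ monoSub ↔ h * z * h⁻¹ ∈ monoSub := by
  classical
  intro hn
  let a : Fin p → F := fun t => if t = j then ζ else 1
  have ha : ∀ t, a t ^ p = 1 := fun t => by
    simp only [a]; split_ifs <;> simp [hζ.pow_eq_one]
  obtain ⟨r, hr⟩ := exists_mono (fun t => ne_zero_of_pow (ha t)) 0
  obtain ⟨b, k, hb, hy⟩ := (hn r).mp ⟨a, 0, ha, hr⟩
  obtain rfl := shift_zero_of_conj h2p hζ hn rfl hr hb hy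
  have e : (h : Matrix (Fin p) (Fin p) F) * mono a 0 = mono b 0 * (h : Matrix (Fin p) (Fin p) F) := by
    rw [← hr, ← hy, ← Units.val_mul, ← Units.val_mul, inv_mul_cancel_right]
  have hd : ∀ c : Fin p → F, mono c 0 = Matrix.diagonal c := fun c => by
    ext s t; simp [mono_apply, Matrix.diagonal_apply]
  rw [hd, hd] at e
  have ej := congrFun (congrFun e i) j
  have el := congrFun (congrFun e i) l
  rw [Matrix.mul_diagonal, Matrix.diagonal_mul, mul_comm (b i)] at ej el
  have h3 := (mul_left_cancel₀ hj ej).trans (mul_left_cancel₀ hl el).symm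
  simp only [a, if_pos, if_neg hjl.symm] at h3
  exact hζ.ne_one (by omega) h3

theorem pow_eq_one_of_fixed {x : GL (Fin p) F} {b : Fin p → F} {k : Fin p} (hk : k ≠ 0)
    (hb : ∀ i, b i ^ p = 1)
    (hx : (x : Matrix (Fin p) (Fin p) F) = mono b k) {v : Fin p → F} (hv : v ≠ 0)
    (hfix : (x : Matrix (Fin p) (Fin p) F).mulVec v = v) : x ^ p = 1 := by
  have hv' : ∀ i, b i * v (i + k) = v i := fun i => by
    have := congrFun hfix i
    simp [hx, Matrix.mulVec, dotProduct, mono_apply] at this
    exact this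
  have hne : ∀ i, v i ≠ 0 := by
    intro j hj
    refine hv (funext fun i => ?_)
    obtain ⟨m, hm⟩ := exists_nsmul_eq hk (j - i)
    have : ∀ (m : ℕ) (i : Fin p), v (i + m • k) = 0 → v i = 0 := by
      intro m
      induction m with
      | zero => intro i h; simpa using h
      | succ m ih =>
        intro i h
        rw [succ_nsmul', ← add_assoc] at h
        rw [← hv' i, ih _ h, mul_zero]
    exact this m i (by rw [hm, add_sub_cancel]; exact hj)
  have hpow : ∀ m : ℕ, ((x ^ m : GL (Fin p) F) : Matrix (Fin p) (Fin p) F) =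
      mono (fun i => v i / v (i + m • k)) (m • k) := by
    intro m
    induction m with
    | zero => simp [hne, mono_one]
    | succ m ih =>
      rw [pow_succ, Units.val_mul, ih, hx, mono_mul, ← succ_nsmul]
      congr 1
      funext i
      rw [succ_nsmul, ← add_assoc, ← hv' (i + m • k)]
      have := hne (i + m • k + k)
      have := ne_zero_of_pow (hb (i + m • k))
      field_simp
  refine Units.ext ?_
  rw [hpow, show p • k = (0 : Fin p) by simpa using card_nsmul_eq_zero' (x := k)]
  simp [hne, mono_one]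

theorem exists_conj (h2p : 2 < p) {ζ : F} (hζ : IsPrimitiveRoot ζ p) {x : GL (Fin p) F}
    (hx : x ∈ monoSub) : ∃ h : GL (Fin p) F, h⁻¹ * x * h ∈ monoSub ∧
      ¬ ∀ z : GL (Fin p) F, z ∈ monoSub ↔ h * z * h⁻¹ ∈ monoSub := by
  classical
  obtain ⟨b, k, hb, hxe⟩ := hx
  have hd : ∀ c : Fin p → F, mono c 0 = Matrix.diagonal c := fun c => by
    ext s t; simp [mono_apply, Matrix.diagonal_apply]
  rcases eq_or_ne k 0 with rfl | hk
  · by_cases hinj : Function.Injective b
    · -- conjugate to the cyclic shift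
      have : 1 < p := by omega
      have h1 : (1 : Fin p) ≠ 0 := fun e => by simpa [Fin.val_one', Nat.mod_eq_of_lt this] using congrArg Fin.val e
      obtain ⟨s, hs⟩ := exists_mono (fun _ : Fin p => (one_ne_zero : (1 : F) ≠ 0)) 1
      let v : Fin p → F := fun i => (b i)⁻¹
      have hv : Function.Injective v := fun i j e => hinj (inv_inj.mp e)
      let V := Matrix.GeneralLinearGroup.mkOfDetNeZero (Matrix.vandermonde v)
        (Matrix.det_vandermonde_ne_zero_iff.mpr hv)
      have hV : (x : Matrix (Fin p) (Fin p) F) * Matrix.vandermonde v =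
          Matrix.vandermonde v * mono (fun _ => 1) 1 := by
        ext i j
        rw [hxe, hd, Matrix.diagonal_mul, Matrix.mul_apply, Finset.sum_eq_single (j - 1)
          (fun t _ ht => by rw [mono_apply, if_neg (fun e => ht (by rw [← e, add_sub_cancel_right])), mul_zero])
          (by simp), mono_apply, if_pos (sub_add_cancel j 1), mul_one, Matrix.vandermonde_apply,
          Matrix.vandermonde_apply]
        have hv1 : v i ^ p = 1 := by simp only [v, inv_pow, hb, inv_one]
        have e : v i ^ (j : ℕ) = v i ^ ((j - 1 : Fin p) : ℕ) * v i := by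
          rw [← pow_succ]
          conv_lhs => rw [← sub_add_cancel j 1, Fin.val_add, Fin.val_one', Nat.mod_eq_of_lt this]
          rw [← pow_eq_pow_mod _ hv1]
        rw [e]
        have := ne_zero_of_pow (hb i)
        simp only [v]
        field_simp
      refine ⟨V, ⟨fun _ => 1, 1, fun _ => one_pow _, ?_⟩, fun hn => ?_⟩
      · rw [mul_assoc, Units.val_mul, Units.val_mul]
        show _ * ((x : Matrix (Fin p) (Fin p) F) * Matrix.vandermonde v) = _
        rw [hV]
        show _ * ((V : Matrix (Fin p) (Fin p) F) * _) = _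
        rw [← mul_assoc, ← Units.val_mul, inv_mul_cancel, Units.val_one, one_mul]
      · have e : V⁻¹ * x * V⁻¹⁻¹ = s := Units.ext (by
          rw [inv_inv, mul_assoc, Units.val_mul, Units.val_mul]
          show _ * ((x : Matrix (Fin p) (Fin p) F) * Matrix.vandermonde v) = _
          rw [hV]
          show _ * ((V : Matrix (Fin p) (Fin p) F) * _) = _
          rw [← mul_assoc, ← Units.val_mul, inv_mul_cancel, Units.val_one, one_mul, hs])
        exact h1 (shift_zero_of_conj h2p hζ (fun z => by
          rw [hn (V⁻¹ * z * V⁻¹⁻¹), show V * (V⁻¹ * z * V⁻¹⁻¹) * V⁻¹ = z by group]) e hxe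
          (fun _ => one_pow _) hs)
    · obtain ⟨i, j, e, hij⟩ : ∃ i j, b i = b j ∧ i ≠ j := by
        simpa [Function.Injective] using hinj
      let T := Matrix.GeneralLinearGroup.mkOfDetNeZero (Matrix.transvection i j (1 : F))
        (by rw [Matrix.det_transvection_of_ne i j hij]; exact one_ne_zero)
      have hc : x * T = T * x := Units.ext (by
        rw [Units.val_mul, Units.val_mul, hxe, hd]
        show _ * Matrix.transvection i j (1 : F) = Matrix.transvection i j (1 : F) * _
        ext s t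
        rw [Matrix.diagonal_mul, Matrix.mul_diagonal]
        simp only [Matrix.transvection, Matrix.add_apply, Matrix.one_apply, Matrix.single_apply]
        split_ifs with a c c <;> first | (subst a; ring) | (obtain ⟨rfl, rfl⟩ := c; rw [e]; ring) | ring)
      refine ⟨T, ?_, not_normal_of_row h2p hζ (i := i) hij ?_ ?_⟩
      · rw [mul_assoc, hc, inv_mul_cancel_left]
        exact ⟨b, 0, hb, hxe⟩
      · show Matrix.transvection i j (1 : F) i i ≠ 0
        simp [Matrix.transvection, hij.symm]
      · show Matrix.transvection i j (1 : F) i j ≠ 0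
        simp [Matrix.transvection, hij]
  · by_cases hxp : x ^ p = 1
    · have haev : Polynomial.aeval (x : Matrix (Fin p) (Fin p) F)
          (∏ c ∈ Polynomial.nthRootsFinset p (1 : F), (Polynomial.X - Polynomial.C c)) = 0 := by
        rw [← Polynomial.X_pow_sub_one_eq_prod (by omega) hζ, map_sub, map_pow, Polynomial.aeval_X,
          map_one, ← Units.val_pow_eq_pow_val, hxp, Units.val_one, sub_self]
      obtain ⟨e, he, hP⟩ := H99.exists_specialLinear_conj_diagonal x _ haev
      obtain ⟨P, -, hPe⟩ := hP 1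
      rw [Equiv.Perm.coe_one, Function.comp_id] at hPe
      have hep : ∀ i, e i ^ p = 1 := fun i =>
        (Polynomial.mem_nthRootsFinset (by omega) 1).mp (he i)
      refine ⟨P, ⟨e, 0, hep, by rw [hPe, hd]⟩, fun hn => hk ?_⟩
      exact shift_zero_of_conj h2p hζ hn (x := P⁻¹ * x * P) (y := x) (by group)
        (by rw [hPe, hd]) hb hxe
    · have hdet : ((x : Matrix (Fin p) (Fin p) F) - 1).det ≠ 0 := fun e => by
        obtain ⟨v, hv, hv'⟩ := Matrix.exists_mulVec_eq_zero_iff.mpr e
        exact hxp (pow_eq_one_of_fixed hk hb hxe hv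
          (sub_eq_zero.mp (by rwa [Matrix.sub_mulVec, Matrix.one_mulVec] at hv')))
      let T := Matrix.GeneralLinearGroup.mkOfDetNeZero ((x : Matrix (Fin p) (Fin p) F) - 1) hdet
      have hc : x * T = T * x := Units.ext (by
        rw [Units.val_mul, Units.val_mul]
        show _ * ((x : Matrix (Fin p) (Fin p) F) - 1) = ((x : Matrix (Fin p) (Fin p) F) - 1) * _
        noncomm_ring)
      refine ⟨T, ?_, not_normal_of_row h2p hζ (i := 0) (j := 0) (l := k) (Ne.symm hk) ?_ ?_⟩
      · rw [mul_assoc, hc, inv_mul_cancel_left]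
        exact ⟨b, k, hb, hxe⟩
      · show ((x : Matrix (Fin p) (Fin p) F) - 1) 0 0 ≠ 0
        simp [hxe, mono_apply, hk]
      · show ((x : Matrix (Fin p) (Fin p) F) - 1) 0 k ≠ 0
        simp [hxe, mono_apply, Ne.symm hk, ne_zero_of_pow (hb 0)]

theorem redundant (h2p : 2 < p) (h1 : p ∣ Fintype.card F - 1) (h2 : ¬ p ^ 2 ∣ Fintype.card F - 1) :
    ∃ Q : Sylow p (GL (Fin p) F), ∀ x : GL (Fin p) F, (∃ k : ℕ, orderOf x = p ^ k) →
      ∃ P : Sylow p (GL (Fin p) F), P ≠ Q ∧ x ∈ P := by
  classical
  obtain ⟨u, hu⟩ := exists_prime_orderOf_dvd_card p (G := Fˣ) (by rwa [Fintype.card_units])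
  have hζ : IsPrimitiveRoot (u : F) p := by
    rw [← hu, ← orderOf_units]
    exact IsPrimitiveRoot.orderOf _
  have hodd : Odd p := hp.out.odd_of_ne_two (by omega)
  let Q : Sylow p (GL (Fin p) F) := Sylow.ofCard monoSub
    (by rw [card_monoSub hζ, factorization_card hodd h1 h2])
  refine ⟨Q, fun x hx => ?_⟩
  obtain ⟨k, hk⟩ := hx
  by_cases hxQ : x ∈ Q
  · obtain ⟨h, hmem, hn⟩ := exists_conj h2p hζ (show x ∈ monoSub from hxQ)
    refine ⟨h • Q, fun e => hn fun z => ?_, ?_⟩
    · exact Subgroup.mem_normalizer_iff.mp (Sylow.smul_eq_iff_mem_normalizer.mp e) z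
    · show x ∈ ((h • Q : Sylow p (GL (Fin p) F)) : Subgroup (GL (Fin p) F))
      rw [Sylow.coe_subgroup_smul]
      exact (Subgroup.mem_pointwise_smul_iff_inv_smul_mem).mpr (by
        rw [← map_inv, MulAut.smul_def, MulAut.conj_apply, inv_inv]; exact hmem)
  · have hpg : IsPGroup p (Subgroup.zpowers x) := IsPGroup.of_card (by rw [Nat.card_zpowers, hk])
    obtain ⟨P, hP⟩ := hpg.exists_le_sylow
    exact ⟨P, fun e => hxQ (e ▸ hP (Subgroup.mem_zpowers x)), hP (Subgroup.mem_zpowers x)⟩

end Cfsg.Agent.Linear.RedundantSylow
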